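import Cfsg.Agent.Omega.NO1.Beta.Basic

/-!
# THEOREM BETA, PART F (the application, field-free)

`V` elementary abelian (only `R ≤ V` and "involutions" are used), `Z ≤ R ≤ V`, `Qt = O₂(C(Z))` contains its
centraliser in `C(Z)`, `Qt` centralises `R`, and every involution `y` of `Z(Qt)` centralises `V`.  Then
`V ≤ O₂(N(R))` forces `V ≤ Qt`.
-/

set_option autoImplicit false
set_option linter.dupNamespace false
set_option linter.unusedSectionVars false
set_option linter.unusedVariables false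

open Subgroup
open scoped Pointwise

namespace Cfsg.Agent.Omega.NO1.Beta.App

variable {G : Type*} [Group G]

/-- The core: `K = ⟨V^{C}⟩` for `C = C(Z)` centralises the involutions of `Z(Qt)`. -/
theorem closure_comm {C V Qt : Subgroup G}
    (nor : ∀ c ∈ C, ∀ y ∈ Qt, c * y * c⁻¹ ∈ Qt)
    (hY : ∀ y ∈ Qt, (∀ x ∈ Qt, x * y = y * x) → y * y = 1 → ∀ v ∈ V, v * y = y * v)
    {k : G} (hk : k ∈ closure {x : G | ∃ c ∈ C, ∃ v ∈ V, x = c * v * c⁻¹}) :
    ∀ y ∈ Qt, (∀ x ∈ Qt, x * y = y * x) → y * y = 1 → k * y = y * k := by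
  refine closure_induction (p := fun k _ => ∀ y ∈ Qt, (∀ x ∈ Qt, x * y = y * x) → y * y = 1 →
    k * y = y * k) ?_ ?_ ?_ ?_ hk
  · rintro x ⟨c, hc, v, hv, rfl⟩ y hy hyc hy2
    have nor' : ∀ x ∈ Qt, c⁻¹ * x * c ∈ Qt := by
      intro x hx
      simpa using nor c⁻¹ (inv_mem hc) x hx
    have h1 : c⁻¹ * y * c ∈ Qt := nor' y hy
    have h2 : ∀ x ∈ Qt, x * (c⁻¹ * y * c) = (c⁻¹ * y * c) * x := by
      intro x hx
      have h3 := hyc _ (nor c hc x hx)
      calc x * (c⁻¹ * y * c) = c⁻¹ * (c * x * c⁻¹ * y) * c := by group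
        _ = c⁻¹ * (y * (c * x * c⁻¹)) * c := by rw [h3]
        _ = (c⁻¹ * y * c) * x := by group
    have h3 : (c⁻¹ * y * c) * (c⁻¹ * y * c) = 1 := by
      calc (c⁻¹ * y * c) * (c⁻¹ * y * c) = c⁻¹ * (y * y) * c := by group
        _ = 1 := by rw [hy2]; group
    have h4 := hY _ h1 h2 h3 v hv
    calc c * v * c⁻¹ * y = c * (v * (c⁻¹ * y * c)) * c⁻¹ := by group
      _ = c * ((c⁻¹ * y * c) * v) * c⁻¹ := by rw [h4]
      _ = y * (c * v * c⁻¹) := by group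
  · intro y _ _ _; simp
  · intro a b _ _ ha hb y hy hyc hy2
    rw [mul_assoc, hb y hy hyc hy2, ← mul_assoc, ha y hy hyc hy2, mul_assoc]
  · intro a _ ha y hy hyc hy2
    have := ha y hy hyc hy2
    calc a⁻¹ * y = a⁻¹ * (y * a) * a⁻¹ := by group
      _ = a⁻¹ * (a * y) * a⁻¹ := by rw [this]
      _ = y * a⁻¹ := by group

/-- **PART F.**  `C` plays `C(Z)` (only `V ≤ C`, `Qt` normal in `C` and maximal are used), `Qt = O₂(C)`,
`Q` = a 2-subgroup normalised by `N(R)`. -/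
theorem le_of_le [Finite G] {C V R Qt Q : Subgroup G}
    (V_C : V ≤ C)
    (nor : ∀ c ∈ C, ∀ y ∈ Qt, c * y * c⁻¹ ∈ Qt)
    (max : ∀ N : Subgroup G, IsPGroup 2 N → N ≤ C → (∀ c ∈ C, ∀ y ∈ N, c * y * c⁻¹ ∈ N) → N ≤ Qt)
    (char2 : ∀ c ∈ C, (∀ x ∈ Qt, x * c = c * x) → c ∈ Qt)
    (R_V : R ≤ V) (R_sq : ∀ r ∈ R, r * r = 1)
    (cenR : ∀ r ∈ R, ∀ x ∈ Qt, x * r = r * x)
    (hY : ∀ y ∈ Qt, (∀ x ∈ Qt, x * y = y * x) → y * y = 1 → ∀ v ∈ V, v * y = y * v)
    (two : IsPGroup 2 Q)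
    (norQ : ∀ c ∈ normalizer (R : Set G), ∀ y ∈ Q, c * y * c⁻¹ ∈ Q)
    (hVQ : V ≤ Q) : V ≤ Qt := by
  let K : Subgroup G := closure {x : G | ∃ c ∈ C, ∃ v ∈ V, x = c * v * c⁻¹}
  have hKc : ∀ k ∈ K, ∀ y ∈ Qt, (∀ x ∈ Qt, x * y = y * x) → y * y = 1 → k * y = y * k :=
    fun k hk => closure_comm nor hY hk
  have hKR : ∀ k ∈ K, ∀ r ∈ R, k * r = r * k := by
    intro k hk r hr
    exact hKc k hk r (char2 r (V_C (R_V hr)) (cenR r hr)) (cenR r hr) (R_sq r hr)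
  have hKN : K ≤ normalizer (R : Set G) := by
    intro k hk
    rw [mem_normalizer_iff]
    intro r
    constructor
    · intro hr
      have h1 := hKR k hk r hr
      have h2 : k * r * k⁻¹ = r := by rw [h1]; group
      rw [h2]; exact hr
    · intro hr
      have h1 := hKR k hk _ hr
      have h2 : r = k⁻¹ * (k * r * k⁻¹ * k) := by group
      have h3 : r = k * r * k⁻¹ := by
        calc r = k⁻¹ * (k * r * k⁻¹ * k) := h2
          _ = k⁻¹ * (k * (k * r * k⁻¹)) := by rw [h1]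
          _ = k * r * k⁻¹ := by group
      rw [h3]; exact hr
  have hKC : K ≤ C := by
    rw [closure_le]
    rintro x ⟨c, hc, v, hv, rfl⟩
    exact mul_mem (mul_mem hc (V_C hv)) (inv_mem hc)
  have hKnor : ∀ c ∈ C, ∀ k ∈ K, c * k * c⁻¹ ∈ K := by
    intro c hc k hk
    refine closure_induction (p := fun k _ => c * k * c⁻¹ ∈ K) ?_ ?_ ?_ ?_ hk
    · rintro x ⟨d, hd, v, hv, rfl⟩
      refine subset_closure ⟨c * d, mul_mem hc hd, v, hv, ?_⟩
      group
    · simp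
    · intro a b _ _ ha hb
      have h1 := mul_mem ha hb
      have h2 : c * (a * b) * c⁻¹ = c * a * c⁻¹ * (c * b * c⁻¹) := by group
      rw [h2]; exact h1
    · intro a _ ha
      have h1 := inv_mem ha
      have h2 : c * a⁻¹ * c⁻¹ = (c * a * c⁻¹)⁻¹ := by group
      rw [h2]; exact h1
  obtain ⟨N, hN2, hNK, hNn, hNmax⟩ := exists_two_core K
  have hNC : ∀ c ∈ C, ∀ y ∈ N, c * y * c⁻¹ ∈ N := by
    intro c hc y hy
    have h1 : N.map (MulAut.conj c).toMonoidHom ≤ N := by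
      apply hNmax
      · exact hN2.map _
      · rintro x ⟨w, hw, rfl⟩
        exact hKnor c hc w (hNK hw)
      · rintro b hb x ⟨w, hw, rfl⟩
        refine ⟨(c⁻¹ * b * c) * w * (c⁻¹ * b * c)⁻¹, ?_, ?_⟩
        · have h2 : c⁻¹ * b * c ∈ K := by simpa using hKnor c⁻¹ (inv_mem hc) b hb
          exact hNn _ h2 w hw
        · simp only [MulEquiv.coe_toMonoidHom, MulAut.conj_apply]
          group
    exact h1 ⟨y, hy, rfl⟩
  have hNQ : N ≤ Qt := max N hN2 (le_trans hNK hKC) hNC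
  have hVK : V ≤ K := fun v hv => subset_closure ⟨1, C.one_mem, v, hv, by group⟩
  have hV0 : Q ⊓ K ≤ N := by
    apply hNmax
    · exact two.to_le inf_le_left
    · exact inf_le_right
    · intro k hk y hy
      exact ⟨norQ k (hKN hk) y hy.1, K.mul_mem (K.mul_mem hk hy.2) (K.inv_mem hk)⟩
  exact fun v hv => hNQ (hV0 ⟨hVQ hv, hVK hv⟩)

end Cfsg.Agent.Omega.NO1.Beta.App
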