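import Cfsg.Agent.Omega.NO1.Types
import Cfsg.Agent.Omega.NO1.Beta.Apply

/-!
# THEOREM BETA in the configuration of NO-1' (`Cfg S P`, `MinusQ K σ P (zl S P)`)

`Plug.main` : there are coordinates `d` on `V = V_P` (for `M = P C(V)`), with `S ≤ N(R₀)`, `Ω₁(Z(S)) ≤ R₀`,
`Hyp d o2` (so `V ≰ O₂(N(R₀))`, `O₂(N(R₀))` induces exactly `U₀`, …) and the structure `Beta` for the singular points.
`Plug.result` : `Q = O₂(N(R₀))` is semi-extraspecial with centre `R₀`.
-/

set_option autoImplicit false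
set_option linter.unusedSectionVars false

namespace Cfsg.Agent.Omega.NO1.Beta.Plug

open Subgroup Cfsg Cfsg.Agent.ZN Cfsg.Agent.Omega.MinPar Cfsg.Agent.Omega.Frame
open Cfsg.Agent.MinSimple.VModule (zc_le_zl o2_isPGroup)
open scoped Pointwise

universe u

variable {G : Type u} [Group G]

theorem isO : Inst.IsO (o2 : Subgroup G → Subgroup G) where
  two := o2_isPGroup
  le := MinSimple.VModule.o2_le
  nor := fun H _ hc y hy => (mem_normalizer_iff.mp (MinSimple.VModule.le_normalizer_o2 H hc) y).mp hy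
  max := fun H N h1 h2 h3 => MinSimple.VModule.le_o2 h2 h1 (fun c hc => by
    rw [mem_normalizer_iff]
    intro y
    refine ⟨fun hy => h3 c hc y hy, fun hy => ?_⟩
    have h4 := h3 c⁻¹ (inv_mem hc) _ hy
    have e : c⁻¹ * (c * y * c⁻¹) * c⁻¹⁻¹ = y := by group
    rwa [e] at h4)

section co

variable {P V : Subgroup G} {K : Type} [Field K] {σ : K ≃+* K}

theorem exists_mul (hPV : P ≤ normalizer (V : Set G)) {x : G} (hx : x ∈ P ⊔ centralizer (V : Set G)) :
    ∃ p ∈ P, ∀ v ∈ V, x * v * x⁻¹ = p * v * p⁻¹ ∧ x⁻¹ * v * x = p⁻¹ * v * p := by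
  have h1 : P ≤ normalizer ((centralizer (V : Set G) : Subgroup G) : Set G) := by
    intro p hp
    have h2 := hPV hp
    have key : ∀ p ∈ normalizer (V : Set G), ∀ c ∈ centralizer (V : Set G),
        p * c * p⁻¹ ∈ centralizer (V : Set G) := by
      intro p hp c hc
      rw [mem_centralizer_iff] at hc ⊢
      intro v hv
      have h3 : p⁻¹ * v * p ∈ V := by
        have := (mem_normalizer_iff.mp (inv_mem hp) v).mp hv
        rwa [inv_inv] at this
      have h4 := hc _ h3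
      calc v * (p * c * p⁻¹) = p * ((p⁻¹ * v * p) * c) * p⁻¹ := by group
        _ = p * (c * (p⁻¹ * v * p)) * p⁻¹ := by rw [h4]
        _ = p * c * p⁻¹ * v := by group
    rw [mem_normalizer_iff]
    intro c
    refine ⟨fun hc => key p h2 c hc, fun hc => ?_⟩
    have := key p⁻¹ (inv_mem h2) _ hc
    have e : p⁻¹ * (p * c * p⁻¹) * p⁻¹⁻¹ = c := by group
    rwa [e] at this
  rw [← SetLike.mem_coe, Subgroup.coe_mul_of_left_le_normalizer_right _ _ h1, Set.mem_mul] at hx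
  obtain ⟨p, hp, c, hc, rfl⟩ := hx
  have hc' : ∀ v ∈ V, v * c = c * v := fun v hv => mem_centralizer_iff.mp hc v hv
  refine ⟨p, hp, fun v hv => ⟨?_, ?_⟩⟩
  · have e : p * c * v * (p * c)⁻¹ = p * (c * v) * c⁻¹ * p⁻¹ := by group
    rw [e, ← hc' v hv]; group
  · have h3 : p⁻¹ * v * p ∈ V := by
      have := (mem_normalizer_iff.mp (inv_mem (hPV hp)) v).mp hv
      rwa [inv_inv] at this
    have e : (p * c)⁻¹ * v * (p * c) = c⁻¹ * ((p⁻¹ * v * p) * c) := by group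
    rw [e, hc' _ h3]; group

/-- The coordinates for `M = P C(V)`. -/
def co (m : MinusQ K σ P V) (hPV : P ≤ normalizer (V : Set G)) (h1 : σ ≠ RingEquiv.refl K)
    (h2 : ∀ x, σ (σ x) = x) : Inst.Co K σ (P ⊔ centralizer (V : Set G)) V where
  e := m.e
  herm := m.herm
  mul := m.mul
  surj := m.surj
  ker := m.ker
  nor := sup_le hPV (centralizer_le_normalizer _)
  lift := fun A => by
    obtain ⟨g, hg, hA⟩ := m.lift A
    exact ⟨g, mem_sup_left hg, hA⟩
  norm := fun g hg h hh A hA => by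
    obtain ⟨p, hp, hpg⟩ := exists_mul hPV hg
    obtain ⟨p', hp', hph⟩ := exists_mul hPV hh
    obtain ⟨B, hB⟩ := m.norm p hp p' hp' A (fun v hv => by rw [← (hph v hv).1]; exact hA v hv)
    refine ⟨B, fun v hv => ?_⟩
    rw [← hB v hv]
    congr 1
    have h3 : p⁻¹ * v * p ∈ V := by
      have := (mem_normalizer_iff.mp (inv_mem (hPV hp)) v).mp hv
      rwa [inv_inv] at this
    have h4 : p' * (p⁻¹ * v * p) * p'⁻¹ ∈ V := (mem_normalizer_iff.mp (hPV hp') _).mp h3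
    calc g * h * g⁻¹ * v * (g * h * g⁻¹)⁻¹ = g * (h * (g⁻¹ * v * g) * h⁻¹) * g⁻¹ := by group
      _ = g * (p' * (p⁻¹ * v * p) * p'⁻¹) * g⁻¹ := by rw [(hpg v hv).2, (hph _ h3).1]
      _ = p * (p' * (p⁻¹ * v * p) * p'⁻¹) * p⁻¹ := (hpg _ h4).1
      _ = p * p' * p⁻¹ * v * (p * p' * p⁻¹)⁻¹ := by group
  inv := h2
  nt := by
    by_contra hcon
    push Not at hcon
    exact h1 (RingEquiv.ext hcon)

end co

variable [Finite G] {S : Sylow 2 G} {P : Subgroup G} {K : Type} [Field K] [Finite K] [CharP K 2]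
  {σ : K ≃+* K}

/-- The hypotheses of the application. -/
theorem sy (h : Cfg S P) (m : MinusQ K σ P (zl (S : Subgroup G) P)) (h1 : σ ≠ RingEquiv.refl K)
    (h2 : ∀ x, σ (σ x) = x) :
    Inst.Sy (co m (Cfg.P_norm_V S P) h1 h2) o2 (S : Subgroup G) (zc (S : Subgroup G)) where
  isO := isO
  C_M := le_sup_right
  S_M := h.S_le.trans le_sup_left
  Z_V := zc_le_zl _ _
  Z_S := fun z hz s hs => ((MinSimple.VModule.mem_zc.mp hz).2.1 s hs).symm
  Z_max := fun x hx hx2 hxc => MinSimple.VModule.mem_zc.mpr ⟨hx, fun b hb => (hxc b hb).symm, by rw [pow_two]; exact hx2⟩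
  char2N := fun R hR hRV hSR x hx hxc => by
    have hR2 : IsPGroup 2 R := h.V_isPGroup.to_le hRV
    have h3 : IsLoc (S : Subgroup G) (normalizer (R : Set G)) :=
      ⟨hSR, o2_ne_bot_of_le hR2 hR le_normalizer le_rfl⟩
    exact h3.char2 S h.ctx.char2 ⟨hx, mem_centralizer_iff.mpr fun y hy => (hxc y hy).symm⟩
  char2C := fun x hx hxc => h.char2C ⟨hx, mem_centralizer_iff.mpr fun y hy => (hxc y hy).symm⟩
  V_Qt := h.one.not_le

/-- **THEOREM BETA in the configuration of NO-1'.** -/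
theorem main (h : Cfg S P) (m : MinusQ K σ P (zl (S : Subgroup G) P)) (h1 : σ ≠ RingEquiv.refl K)
    (h2 : ∀ x, σ (σ x) = x) :
    ∃ d : Inst.Co K σ (P ⊔ centralizer (zl (S : Subgroup G) P : Set G)) (zl (S : Subgroup G) P),
      (S : Subgroup G) ≤ normalizer (d.R0 : Set G) ∧ zc (S : Subgroup G) ≤ d.R0 ∧
      Inst.Sy d o2 (S : Subgroup G) (zc (S : Subgroup G)) ∧ Inst.Hyp d o2 ∧
      Beta (P ⊔ centralizer (zl (S : Subgroup G) P : Set G)) (zl (S : Subgroup G) P)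
        (fun i : Inst.Pt d => i.1) (fun i => o2 (normalizer (i.1 : Set G))) := by
  obtain ⟨g, hg, h3, h4, h5⟩ := (sy h m h1 h2).main
  exact ⟨_, h3, h4, (sy h m h1 h2).mv hg, h5, h5.beta ((sy h m h1 h2).mv hg).meet⟩

/-- **`Q = O₂(N(R₀))` is semi-extraspecial with centre `R₀`.** -/
theorem result (h : Cfg S P) (m : MinusQ K σ P (zl (S : Subgroup G) P)) (h1 : σ ≠ RingEquiv.refl K)
    (h2 : ∀ x, σ (σ x) = x) :
    ∃ d : Inst.Co K σ (P ⊔ centralizer (zl (S : Subgroup G) P : Set G)) (zl (S : Subgroup G) P),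
      (S : Subgroup G) ≤ normalizer (d.R0 : Set G) ∧ zc (S : Subgroup G) ≤ d.R0 ∧
      Inst.Hyp d o2 ∧
      (o2 (normalizer (d.R0 : Set G)) ⊓ centralizer (o2 (normalizer (d.R0 : Set G)) : Set G) = d.R0 ∧
      (∀ x ∈ o2 (normalizer (d.R0 : Set G)), ∀ y ∈ o2 (normalizer (d.R0 : Set G)),
        x⁻¹ * y⁻¹ * x * y ∈ d.R0) ∧
      (∀ x ∈ o2 (normalizer (d.R0 : Set G)), x * x ∈ d.R0) ∧
      (∀ y ∈ o2 (normalizer (d.R0 : Set G)), y ∉ d.R0 → ∀ r ∈ d.R0,
        ∃ n ∈ o2 (normalizer (d.R0 : Set G)), n⁻¹ * y⁻¹ * n * y = r)) := by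
  obtain ⟨d, h3, h4, _, h5, h6⟩ := main h m h1 h2
  exact ⟨d, h3, h4, h5, (h6.result ⟨d.R0, 1, one_mem _, by rw [Inst.cj_one]⟩).2⟩

end Cfsg.Agent.Omega.NO1.Beta.Plug
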