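import Cfsg.Agent.Omega.NO1.Beta.InstMain

/-!
# THEOREM BETA, part E: the torus element and `Q i ⊓ Q j ≤ V`

`Hyp.VE` : `V ≤ (V ⊓ Q i) ⊔ R j`; `Hyp.tor` : a torus element `Meet.Tor`; `Hyp.mt` : the structure `Meet.Mt`;
`Hyp.meet_le` : `Q i ⊓ Q j ≤ V`.
-/

set_option autoImplicit false
set_option linter.unusedVariables false
set_option linter.unusedSectionVars false

open Subgroup
open scoped Pointwise

namespace Cfsg.Agent.Omega.NO1.Beta.Inst

open Co (u l h w u_zero u_mul u_inv one_ne_u act_one act_one_iff)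

variable {G : Type*} [Group G] {K : Type*} [Field K] {σ : K ≃+* K} {M V : Subgroup G}

namespace Co

variable [CharP K 2] (d : Co K σ M V)

include d in
/-- a nontrivial element of norm one -/
theorem exists_norm_one : ∃ t : K, t ≠ 0 ∧ t * σ t = 1 ∧ t ≠ 1 := by
  obtain ⟨k, hk⟩ := d.nt
  have hk0 : k ≠ 0 := by
    rintro rfl
    exact hk (map_zero σ)
  have hs : σ k ≠ 0 := fun h0 => hk0 ((map_eq_zero σ).mp h0)
  refine ⟨k / σ k, div_ne_zero hk0 hs, ?_, ?_⟩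
  · rw [map_div₀, d.inv]
    field_simp
  · intro h1
    rw [div_eq_one_iff_eq hs] at h1
    exact hk h1.symm

theorem l_X {g : G} {a : K} (hg : d.Act g (l a).1) {v : G} (hv : v ∈ V) :
    d.X (g * v * g⁻¹) = d.X v := by
  rw [hg.X hv]
  simp [l]

theorem l_Y {g : G} {a : K} (hg : d.Act g (l a).1) {v : G} (hv : v ∈ V) :
    d.Y (g * v * g⁻¹) = d.Y v + d.X v * σ a := by
  rw [hg.Y hv]
  simp [l]
  ring

theorem l_Z {g : G} {a : K} (hg : d.Act g (l a).1) {v : G} (hv : v ∈ V) :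
    d.Z (g * v * g⁻¹) = d.Z v + a * d.Y v + σ (d.Y v) * σ a + a * σ a * d.X v := by
  rw [hg.Z hv]
  simp [l]
  ring

theorem w_mul_w : (w * w : Matrix.SpecialLinearGroup (Fin 2) K) = 1 := by
  apply Subtype.ext
  simp only [Matrix.SpecialLinearGroup.coe_mul, Matrix.SpecialLinearGroup.coe_one]
  ext i j
  fin_cases i <;> fin_cases j <;> simp [w, Matrix.mul_apply, Fin.sum_univ_two]

theorem w_inv : (w : Matrix.SpecialLinearGroup (Fin 2) K)⁻¹ = w := inv_eq_of_mul_eq_one_left w_mul_w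

theorem w_u (a : K) : (w * u a * w : Matrix.SpecialLinearGroup (Fin 2) K) = l a := by
  apply Subtype.ext
  simp only [Matrix.SpecialLinearGroup.coe_mul]
  ext i j
  fin_cases i <;> fin_cases j <;> simp [w, u, l, Matrix.mul_apply, Fin.sum_univ_two]

theorem l_inv (a : K) : (l a : Matrix.SpecialLinearGroup (Fin 2) K)⁻¹ = l a := by
  rw [← w_u, mul_inv_rev, mul_inv_rev, w_inv, u_inv, mul_assoc]

theorem tor_mul {t : K} (ht : t ≠ 0) :
    ((u t * l t⁻¹ * u t) * (u 1 * l 1 * u 1) : Matrix.SpecialLinearGroup (Fin 2) K) = h t ht := by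
  apply Subtype.ext
  simp only [Matrix.SpecialLinearGroup.coe_mul]
  have t2 : (1 : K) + 1 = 0 := CharTwo.add_self_eq_zero 1
  ext i j
  fin_cases i <;> fin_cases j <;> simp [u, l, h, Matrix.mul_apply, Fin.sum_univ_two, ht, t2]

end Co

namespace Hyp

variable [CharP K 2] {d : Co K σ M V} {O : Subgroup G → Subgroup G}

/-- `O₂(N(Roo))` -/
def Q' (d : Co K σ M V) (O : Subgroup G → Subgroup G) : Subgroup G := O (normalizer (d.Roo : Set G))

variable (H : Hyp d O)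
include H

theorem Q'_eq {m : G} (hm : m ∈ M) (hw : d.Act m (w : Matrix.SpecialLinearGroup (Fin 2) K).1) :
    Q (d.mv m hm) O = Q' d O := by
  unfold Q Q'
  rw [d.mv_R0 hm, d.w_R0 hm hw]

/-- `O₂(N(Roo))` acts as the lower unitriangular matrices -/
theorem act_Q' [Finite G] [Finite K] :
    (∀ y ∈ Q' d O, ∃ a, d.Act y (l a).1) ∧ ∀ a, ∃ y ∈ Q' d O, d.Act y (l a).1 := by
  obtain ⟨m, hm, hw⟩ := d.exists_act w
  have H' := H.mv hm
  have hmw := hw.inv hm
  rw [Co.w_inv] at hmw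
  have key : ∀ {y : G}, y ∈ M → ∀ {a : K}, (d.mv m hm).Act y (u a).1 → d.Act y (l a).1 := by
    intro y hy a ha
    rw [d.mv_act hm] at ha
    have hM : m⁻¹ * y * m ∈ M := M.mul_mem (M.mul_mem (M.inv_mem hm) hy) hm
    have h1 := (hw.mulS ha hM).mulS hmw (M.inv_mem hm)
    rw [Co.w_u] at h1
    have e : m * (m⁻¹ * y * m) * m⁻¹ = y := by group
    rwa [e] at h1
  have hle : ∀ {y : G}, y ∈ Q' d O → y ∈ M := by
    intro y hy
    rw [← H.Q'_eq hm hw] at hy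
    exact H'.Q_M hy
  constructor
  · intro y hy
    have hyM := hle hy
    rw [← H.Q'_eq hm hw] at hy
    obtain ⟨a, ha⟩ := H'.act_Q.1 y hy
    exact ⟨a, key hyM ha⟩
  · intro a
    obtain ⟨y, hy, ha⟩ := H'.act_Q.2 a
    rw [H.Q'_eq hm hw] at hy
    exact ⟨y, hy, key (hle hy) ha⟩

theorem Q'_M {y : G} (hy : y ∈ Q' d O) : y ∈ M := by
  obtain ⟨m, hm, hw⟩ := d.exists_act w
  rw [← H.Q'_eq hm hw] at hy
  exact (H.mv hm).Q_M hy

/-- (VE) in coordinates -/
theorem VE0 [Finite G] [Finite K] : V ≤ (V ⊓ Q d O) ⊔ d.Roo := by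
  rw [H.V_inf_Q]
  intro v hv
  obtain ⟨r, hr, x1, y1, z1⟩ := d.exists_v 0 0 (d.Z v) (map_zero σ) (d.sZ hv)
  have h1 : v * r⁻¹ ∈ d.E0 := by
    refine ⟨V.mul_mem hv (V.inv_mem hr), ?_⟩
    rw [d.inv_eq hr, d.Z_mul hv hr, z1, CharTwo.add_self_eq_zero]
  have h2 : r ∈ d.Roo := ⟨hr, x1, y1⟩
  have e : v = v * r⁻¹ * r := by group
  rw [e]
  exact mul_mem (mem_sup_left h1) (mem_sup_right h2)

omit H in
/-- `cj y Roo` for `y` acting as `u a` -/
theorem mem_cj_Roo {y : G} (hy : y ∈ M) {a : K} (ha : d.Act y (u a).1) {v : G} :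
    v ∈ cj y d.Roo ↔ v ∈ V ∧ d.Y v = a * d.Z v ∧ d.X v = a * σ a * d.Z v := by
  rw [mem_cj]
  have ha' : d.Act y⁻¹ (u a).1 := by
    have := ha.inv hy
    rwa [u_inv] at this
  have t2 : (2 : K) = 0 := CharTwo.two_eq_zero
  constructor
  · rintro ⟨h1, h2, h3⟩
    have hv : v ∈ V := by
      have := d.conj_mem' hy h1
      have e : y * (y⁻¹ * v * y) * y⁻¹ = v := by group
      rwa [e] at this
    have hX := d.u_X ha' hv
    have hY := d.u_Y ha' hv
    rw [inv_inv] at hX hY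
    rw [h3] at hY
    rw [h2] at hX
    have hY' : d.Y v = a * d.Z v := by linear_combination (-1 : K) * hY - a * d.Z v * t2
    refine ⟨hv, hY', ?_⟩
    have hs : σ (d.Y v) = σ a * d.Z v := by rw [hY', map_mul, d.sZ hv]
    rw [hs, hY'] at hX
    linear_combination (-1 : K) * hX - 2 * a * σ a * d.Z v * t2
  · rintro ⟨hv, hY', hX'⟩
    have hX := d.u_X ha' hv
    have hY := d.u_Y ha' hv
    have hs : σ (d.Y v) = σ a * d.Z v := by rw [hY', map_mul, d.sZ hv]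
    have hc := d.conj_mem' (M.inv_mem hy) hv
    rw [inv_inv] at hX hY hc
    refine ⟨hc, ?_, ?_⟩
    · rw [hX, hs, hX', hY']
      linear_combination a * σ a * d.Z v * 2 * t2
    · rw [hY, hY']
      linear_combination a * d.Z v * t2

omit H in
/-- `cj y R0` for `y` acting as `l a` -/
theorem mem_cj_R0 {y : G} (hy : y ∈ M) {a : K} (ha : d.Act y (l a).1) {v : G} :
    v ∈ cj y d.R0 ↔ v ∈ V ∧ d.Y v = σ a * d.X v ∧ d.Z v = a * σ a * d.X v := by
  rw [mem_cj]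
  have ha' : d.Act y⁻¹ (l a).1 := by
    have := ha.inv hy
    rwa [Co.l_inv] at this
  have t2 : (2 : K) = 0 := CharTwo.two_eq_zero
  constructor
  · rintro ⟨h1, h2, h3⟩
    have hv : v ∈ V := by
      have := d.conj_mem' hy h1
      have e : y * (y⁻¹ * v * y) * y⁻¹ = v := by group
      rwa [e] at this
    have hZ := d.l_Z ha' hv
    have hY := d.l_Y ha' hv
    rw [inv_inv] at hZ hY
    rw [h2] at hY
    rw [h3] at hZ
    have hY' : d.Y v = σ a * d.X v := by linear_combination (-1 : K) * hY - σ a * d.X v * t2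
    refine ⟨hv, hY', ?_⟩
    have hs : σ (d.Y v) = a * d.X v := by rw [hY', map_mul, d.sX hv, d.inv]
    rw [hs, hY'] at hZ
    linear_combination (-1 : K) * hZ - 2 * a * σ a * d.X v * t2
  · rintro ⟨hv, hY', hZ'⟩
    have hZ := d.l_Z ha' hv
    have hY := d.l_Y ha' hv
    have hs : σ (d.Y v) = a * d.X v := by rw [hY', map_mul, d.sX hv, d.inv]
    have hc := d.conj_mem' (M.inv_mem hy) hv
    rw [inv_inv] at hZ hY hc
    refine ⟨hc, ?_, ?_⟩
    · rw [hY, hY']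
      linear_combination σ a * d.X v * t2
    · rw [hZ, hs, hZ', hY']
      linear_combination a * σ a * d.X v * 2 * t2

omit H in
/-- matching -/
theorem cj_match {y y' : G} (hy : y ∈ M) (hy' : y' ∈ M) {a : K} (ha0 : a ≠ 0) (ha : d.Act y (u a).1)
    (ha' : d.Act y' (l a⁻¹).1) : cj y d.Roo = cj y' d.R0 := by
  have hs0 : σ a ≠ 0 := fun h0 => ha0 ((map_eq_zero σ).mp h0)
  ext v
  rw [mem_cj_Roo hy ha, mem_cj_R0 hy' ha']
  constructor
  · rintro ⟨h1, h2, h3⟩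
    refine ⟨h1, ?_, ?_⟩
    · rw [h3, h2, map_inv₀]
      field_simp
    · rw [h3, map_inv₀]
      field_simp
  · rintro ⟨h1, h2, h3⟩
    refine ⟨h1, ?_, ?_⟩
    · rw [h3, h2, map_inv₀]
      field_simp
    · rw [h3, map_inv₀]
      field_simp

/-- **the torus element, in coordinates** -/
theorem tor0 [Finite G] [Finite K] : ∃ y ∈ Q d O, ∃ y' ∈ Q' d O, ∃ z ∈ Q d O, ∃ z' ∈ Q' d O,
    cj y d.Roo = cj y' d.R0 ∧ cj z d.Roo = cj z' d.R0 ∧ cj y d.Roo ≠ cj z d.Roo ∧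
    (∀ r ∈ d.R0, (y * y' * y) * (z * z' * z) * r = r * ((y * y' * y) * (z * z' * z))) ∧
    (∀ e ∈ V ⊓ Q d O, e⁻¹ * ((y * y' * y) * (z * z' * z) * e * ((y * y' * y) * (z * z' * z))⁻¹) ∈ d.R0 →
      e ∈ d.R0) ∧
    (∀ x ∈ Q d O, x⁻¹ * ((y * y' * y) * (z * z' * z) * x * ((y * y' * y) * (z * z' * z))⁻¹) ∈
      centralizer (V : Set G) → x ∈ centralizer (V : Set G)) := by
  obtain ⟨t, ht0, ht1, ht⟩ := d.exists_norm_one
  obtain ⟨y, hy, ay⟩ := H.act_Q.2 t
  obtain ⟨y', hy', ay'⟩ := H.act_Q'.2 t⁻¹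
  obtain ⟨z, hz, az⟩ := H.act_Q.2 1
  obtain ⟨z', hz', az'⟩ := H.act_Q'.2 1
  have yM := H.Q_M hy
  have yM' := H.Q'_M hy'
  have zM := H.Q_M hz
  have zM' := H.Q'_M hz'
  have hst : σ t ≠ 0 := fun h0 => ht0 ((map_eq_zero σ).mp h0)
  have hst' : (σ t)⁻¹ = t := inv_eq_of_mul_eq_one_left ht1
  have htt : t * t ≠ 1 := by
    intro h1
    apply ht
    have : (t - 1) * (t - 1) = 0 := by
      have h2 : (2 : K) = 0 := CharTwo.two_eq_zero
      linear_combination h1 + (1 - t) * h2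
    exact sub_eq_zero.mp (mul_self_eq_zero.mp this)
  have hmul : ∀ {x : K}, x + t * t * x = 0 → x = 0 := by
    intro x hx
    have h1 : (1 + t * t) * x = 0 := by linear_combination hx
    rcases mul_eq_zero.mp h1 with h2 | h2
    · exfalso
      apply htt
      have h3 := eq_neg_of_add_eq_zero_right h2
      rwa [CharTwo.neg_eq] at h3
    · exact h2
  refine ⟨y, hy, y', hy', z, hz, z', hz', cj_match yM yM' ht0 ay ay', ?_, ?_, ?_⟩
  · apply cj_match zM zM' one_ne_zero az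
    rwa [inv_one]
  · intro h0
    obtain ⟨v, hv, x1, y1, z1⟩ := d.exists_v 0 0 1 (map_zero σ) (map_one σ)
    have hvR : v ∈ d.Roo := ⟨hv, x1, y1⟩
    have h1 : y * v * y⁻¹ ∈ cj y d.Roo := conj_mem_cj hvR
    have h2 := ((mem_cj_Roo yM ay).mp h1)
    rw [h0] at h1
    have h3 := ((mem_cj_Roo zM az).mp h1)
    have h4 := d.u_Z ay hv
    rw [z1] at h4
    have h5 := h2.2.1
    have h6 := h3.2.1
    rw [h5, h4, mul_one, mul_one] at h6
    exact ht h6
  -- `t` acts as `h t`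
  set T : G := (y * y' * y) * (z * z' * z) with hT
  have TM : T ∈ M := M.mul_mem (M.mul_mem (M.mul_mem yM yM') yM) (M.mul_mem (M.mul_mem zM zM') zM)
  have aT : d.Act T (h t ht0).1 := by
    have h1 := (ay.mulS ay' yM').mulS ay yM
    have h2 := (az.mulS az' zM').mulS az zM
    have h3 := h1.mulS h2 (M.mul_mem (M.mul_mem zM zM') zM)
    rwa [Co.tor_mul ht0] at h3
  refine ⟨?_, ?_, ?_⟩
  · intro r hr
    have h1 : T * r * T⁻¹ = r := by
      apply d.ext (d.conj_mem' TM hr.1) hr.1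
      · rw [Co.h_X d aT hr.1]
        linear_combination d.X r * ht1
      · rw [Co.h_Y d aT hr.1, hr.2.1]; simp
      · rw [Co.h_Z d aT hr.1, hr.2.2]; simp
    calc T * r = T * r * T⁻¹ * T := by group
      _ = r * T := by rw [h1]
  · intro e he hE
    rw [H.V_inf_Q] at he
    have h1 := d.conj_mem' TM he.1
    have h2 := hE.2.1
    rw [d.inv_eq he.1, d.Y_mul he.1 h1, Co.h_Y d aT he.1, hst'] at h2
    refine ⟨he.1, hmul ?_, he.2⟩
    linear_combination h2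
  · intro x hx hc
    obtain ⟨a, ha⟩ := H.act_Q.1 x hx
    have xM := H.Q_M hx
    rw [H.mem_cen_iff hx ha]
    have h1 := (aT.mulS ha xM).mulS (aT.inv TM) (M.inv_mem TM)
    rw [Co.h_u] at h1
    have h2 := (H.act_inv hx ha).mulS h1 (M.mul_mem (M.mul_mem TM xM) (M.inv_mem TM))
    rw [u_mul] at h2
    have h3 : d.Act (x⁻¹ * (T * x * T⁻¹)) (1 : Matrix.SpecialLinearGroup (Fin 2) K).1 :=
      (act_one_iff (M.mul_mem (M.inv_mem xM) (M.mul_mem (M.mul_mem TM xM) (M.inv_mem TM)))).mpr hc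
    have h4 := d.act_faithful h2 h3 (M.mul_mem (M.inv_mem xM) (M.mul_mem (M.mul_mem TM xM) (M.inv_mem TM)))
    rw [← u_zero] at h4
    exact hmul (Co.u_inj (congrArg Subtype.val h4))

/-- **(VE)** -/
theorem VE [Finite G] [Finite K] (i j : Pt d) (hij : i ≠ j) :
    V ≤ (V ⊓ O (normalizer (i.1 : Set G))) ⊔ j.1 := by
  obtain ⟨g, hg, hi, hj⟩ := pair hij
  rw [hi, hj]
  exact (H.mv hg).VE0

/-- **(Tor)** -/
theorem tor [Finite G] [Finite K] (i j : Pt d) (hij : i ≠ j) : ∃ y y' z z' : G,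
    Meet.Tor V (fun i : Pt d => i.1) (fun i => O (normalizer (i.1 : Set G))) i j y y' z z' := by
  obtain ⟨g, hg, hi, hj⟩ := pair hij
  obtain ⟨y, hy, y', hy', z, hz, z', hz', h1, h2, h3, h4, h5, h6⟩ := (H.mv hg).tor0
  refine ⟨y, y', z, z', ?_, ?_, ?_, ?_, ?_, ?_, ?_, ?_, ?_, ?_⟩
  · rw [hi]; exact hy
  · rw [hi]; exact hz
  · rw [hj]; exact hy'
  · rw [hj]; exact hz'
  · change cj y j.1 = cj y' i.1; rw [hi, hj]; exact h1
  · change cj z j.1 = cj z' i.1; rw [hi, hj]; exact h2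
  · change cj y j.1 ≠ cj z j.1; rw [hj]; exact h3
  · rw [hi]; exact h4
  · rw [hi]; exact h5
  · change ∀ e ∈ O (normalizer (i.1 : Set G)), _ → _; rw [hi]; exact h6

/-- The structure `Mt` for the singular points. -/
theorem mt [Finite G] [Finite K]
    (meet : ∀ N : Subgroup G, IsPGroup 2 N → N ≤ M → (∀ m ∈ M, ∀ y ∈ N, m * y * m⁻¹ ∈ N) →
      N ⊓ V = ⊥ → N = ⊥) :
    Meet.Mt V (fun i : Pt d => i.1) (fun i => O (normalizer (i.1 : Set G))) :=
  (H.beta meet).mt H.VE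

/-- **`Q i ⊓ Q j ≤ V`** -/
theorem meet_le [Finite G] [Finite K]
    (meet : ∀ N : Subgroup G, IsPGroup 2 N → N ≤ M → (∀ m ∈ M, ∀ y ∈ N, m * y * m⁻¹ ∈ N) →
      N ⊓ V = ⊥ → N = ⊥) (i j : Pt d) (hij : i ≠ j) :
    O (normalizer (i.1 : Set G)) ⊓ O (normalizer (j.1 : Set G)) ≤ V := by
  obtain ⟨y, y', z, z', T⟩ := H.tor i j hij
  exact (H.mt meet).meet_le hij T

end Hyp

end Cfsg.Agent.Omega.NO1.Beta.Inst
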