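import Cfsg.Agent.Omega.NO1.Beta.Pre

/-!
# THEOREM BETA

`Beta.result` : `Q i` is semi-extraspecial with centre `R i`.
`Beta.mt` : the input `Meet.Mt` of the next step.
-/

set_option autoImplicit false
set_option linter.dupNamespace false
set_option linter.unusedSectionVars false
set_option linter.unusedVariables false

open Subgroup
open scoped Pointwise

namespace Cfsg.Agent.Omega.NO1.Beta

open Meet

variable {G : Type*} [Group G] {I : Type*}

namespace Beta

variable {M V : Subgroup G} {R Q : I → Subgroup G} (h : Beta M V R Q)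
include h

/-- **THEOREM BETA.** -/
theorem result [Finite G] [Finite I] (i : I) :
    Q i = Qs V R Q i ∧ Q i ⊓ centralizer (Q i : Set G) = R i ∧
    (∀ x ∈ Q i, ∀ y ∈ Q i, x⁻¹ * y⁻¹ * x * y ∈ R i) ∧ (∀ x ∈ Q i, x * x ∈ R i) ∧
    (∀ y ∈ Q i, y ∉ R i → ∀ r ∈ R i, ∃ n ∈ Q i, n⁻¹ * y⁻¹ * n * y = r) :=
  h.pre.result (fun j => h.exists_ne j) i

theorem R_D (i : I) : R i ≤ h.D i := by
  intro r hr
  rw [h.mem_D]
  exact ⟨h.R_Q i hr, fun n hn => (h.RQ i r hr n (h.S_le i hn)).symm⟩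

theorem RQj [Finite G] [Finite I] {i j : I} (hij : i ≠ j) : R i ⊓ Q j = ⊥ := by
  rw [eq_bot_iff_forall]
  rintro r ⟨hr, hrQ⟩
  exact h.D_Q (fun e => hij e.symm) (h.R_D i hr) hrQ

theorem cj_Q (i : I) {c : G} (hc : c ∈ normalizer (R i : Set G)) : cj c (Q i) = Q i := by
  ext x
  rw [mem_cj]
  constructor
  · intro hx
    have := h.nor i c hc _ hx
    have h2 : c * (c⁻¹ * x * c) * c⁻¹ = x := by group
    rwa [h2] at this
  · intro hx
    exact h.nor' hc hx

/-- The structure `Mt` of `Meet.lean`. -/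
theorem mt [Finite G] [Finite I] (VE : ∀ i j, i ≠ j → V ≤ (V ⊓ Q i) ⊔ R j) : Mt V R Q where
  comm := h.V_comm
  R_le := h.R_le
  R_Q := h.R_Q
  RQ := h.RQ
  QQ := fun i y hy z hz => by
    have := (h.result i).2.2.1 y⁻¹ (inv_mem hy) z⁻¹ (inv_mem hz)
    simpa using this
  Qsq := fun i y hy => (h.result i).2.2.2.1 y hy
  cen := fun i y hy hz => by
    rw [← (h.result i).2.1, mem_inf, mem_centralizer_iff]
    exact ⟨hy, fun z hz' => (hz z hz').symm⟩
  Q_V := h.Q_V
  nor := fun i c hc => h.cj_Q i hc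
  fixj := h.fixj
  perm := fun i y hy j => h.perm y (h.Q_M i hy) j
  tran := h.tran
  inj := fun i j hij => h.inj_R hij
  RQj := fun i j hij => h.RQj hij
  VE := VE

end Beta

end Cfsg.Agent.Omega.NO1.Beta
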