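import Cfsg.Agent.Omega.NO1.Beta.Cover
import Cfsg.Agent.Omega.NO1.Beta.Main

/-!
# THEOREM BETA, part E: the instance

`Hyp d O` : `d` coordinates on `V = O₄⁻(q)`, `O H = O₂(H)`, `Q = O₂(N(R₀)) ≤ M`, `N(R₀)` of characteristic 2,
`V ≰ Q`.  `Hyp.beta` : the structure `Beta` for the singular points.
-/

set_option autoImplicit false
set_option linter.unusedVariables false
set_option linter.unusedSectionVars false

open Subgroup
open scoped Pointwise

namespace Cfsg.Agent.Omega.NO1.Beta.Inst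

/-- `O H = O₂(H)` -/
structure IsO {G : Type*} [Group G] (O : Subgroup G → Subgroup G) : Prop where
  two : ∀ H, IsPGroup 2 (O H)
  le : ∀ H, O H ≤ H
  nor : ∀ H, ∀ c ∈ H, ∀ y ∈ O H, c * y * c⁻¹ ∈ O H
  max : ∀ H N : Subgroup G, IsPGroup 2 N → N ≤ H → (∀ c ∈ H, ∀ y ∈ N, c * y * c⁻¹ ∈ N) → N ≤ O H

namespace IsO

variable {G : Type*} [Group G] {O : Subgroup G → Subgroup G} (hO : IsO O)
include hO

theorem cj_le (g : G) (H : Subgroup G) : cj g (O H) ≤ O (cj g H) := by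
  apply hO.max
  · exact (hO.two H).map (MulAut.conj g).toMonoidHom
  · exact cj_mono (hO.le H)
  · intro c hc y hy
    rw [mem_cj] at hc hy ⊢
    have := hO.nor H _ hc _ hy
    have e : g⁻¹ * c * g * (g⁻¹ * y * g) * (g⁻¹ * c * g)⁻¹ = g⁻¹ * (c * y * c⁻¹) * g := by group
    rwa [e] at this

theorem cj_eq (g : G) (H : Subgroup G) : cj g (O H) = O (cj g H) := by
  apply le_antisymm (hO.cj_le g H)
  have h1 := hO.cj_le g⁻¹ (cj g H)
  rw [cj_inv_cj] at h1
  have h2 := cj_mono (c := g) h1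
  rwa [cj_cj_inv] at h2

end IsO

/-- `L.relIndex H = |A|` from an epimorphism `H → A` with kernel `L`. -/
theorem relIndex_eq_card {G A : Type*} [Group G] [AddGroup A] {H L : Subgroup G} (f : G → A)
    (hf : ∀ x ∈ H, ∀ y ∈ H, f (x * y) = f x + f y) (hs : ∀ a, ∃ x ∈ H, f x = a)
    (hk : ∀ x ∈ H, f x = 0 ↔ x ∈ L) : L.relIndex H = Nat.card A := by
  let φ : H →* Multiplicative A := MonoidHom.mk' (fun x => Multiplicative.ofAdd (f x)) (fun x y => by
    rw [Subgroup.coe_mul, hf x x.2 y y.2, ofAdd_add])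
  have h1 : L.subgroupOf H = φ.ker := by
    ext x
    rw [mem_subgroupOf, MonoidHom.mem_ker]
    exact (hk x x.2).symm
  have h2 : Function.Surjective φ := by
    intro a
    obtain ⟨x, hx, hxa⟩ := hs a.toAdd
    exact ⟨⟨x, hx⟩, by
      change Multiplicative.ofAdd (f x) = a
      rw [hxa, ofAdd_toAdd]⟩
  unfold relIndex
  rw [h1, Subgroup.index_ker, MonoidHom.range_eq_top.mpr h2]
  rw [Nat.card_congr (Subgroup.topEquiv (G := Multiplicative A)).toEquiv]
  rfl

variable {G : Type*} [Group G] {K : Type*} [Field K] {σ : K ≃+* K} {M V : Subgroup G}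

/-- The hypotheses of the instance. -/
structure Hyp [CharP K 2] (d : Co K σ M V) (O : Subgroup G → Subgroup G) : Prop where
  isO : IsO O
  C_M : centralizer (V : Set G) ≤ M
  Q_M : O (normalizer (d.R0 : Set G)) ≤ M
  char2 : ∀ x ∈ normalizer (d.R0 : Set G), (∀ y ∈ O (normalizer (d.R0 : Set G)), x * y = y * x) →
    x ∈ O (normalizer (d.R0 : Set G))
  V_Q : ¬ V ≤ O (normalizer (d.R0 : Set G))

namespace Co

variable [CharP K 2] (d : Co K σ M V)

include d in
theorem exists_sqrt [Finite K] (x : K) : ∃ t : K, t * t = x := by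
  have h1 : Function.Injective (fun t : K => t * t) := by
    intro a b hab
    have hab' : a * a = b * b := hab
    have h2 : (2 : K) = 0 := CharTwo.two_eq_zero
    have : (a - b) * (a - b) = 0 := by linear_combination hab' + b * (b - a) * h2
    exact sub_eq_zero.mp (mul_self_eq_zero.mp this)
  exact (Finite.injective_iff_surjective.mp h1) x

include d in
theorem irr_all [Finite K] : Irr {t : K | t ≠ 0} := by
  intro B hB hne
  rw [eq_top_iff]
  intro c _
  obtain ⟨b, hb0⟩ := (AddSubgroup.ne_bot_iff_exists_ne_zero).mp hne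
  have hb1 : (b : K) ≠ 0 := fun h0 => hb0 (Subtype.ext h0)
  by_cases hc : c = 0
  · rw [hc]; exact B.zero_mem
  · obtain ⟨t, ht⟩ := d.exists_sqrt (c / b)
    have ht0 : t ≠ 0 := by
      rintro rfl
      rw [mul_zero] at ht
      exact (div_ne_zero hc hb1) ht.symm
    have h1 := hB t ht0 b b.2
    rw [ht, div_mul_cancel₀ _ hb1] at h1
    exact h1

theorem h_Y {g : G} {t : K} {ht : t ≠ 0} (hg : d.Act g (h t ht).1) {v : G} (hv : v ∈ V) :
    d.Y (g * v * g⁻¹) = t * d.Y v * (σ t)⁻¹ := by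
  rw [hg.Y hv]
  simp [h]

theorem h_X {g : G} {t : K} {ht : t ≠ 0} (hg : d.Act g (h t ht).1) {v : G} (hv : v ∈ V) :
    d.X (g * v * g⁻¹) = t * d.X v * σ t := by
  rw [hg.X hv]
  simp [h]

theorem h_Z {g : G} {t : K} {ht : t ≠ 0} (hg : d.Act g (h t ht).1) {v : G} (hv : v ∈ V) :
    d.Z (g * v * g⁻¹) = t⁻¹ * d.Z v * (σ t)⁻¹ := by
  rw [hg.Z hv]
  simp [h]

theorem h_R0 [Finite G] {g : G} (hM : g ∈ M) {t : K} {ht : t ≠ 0} (hg : d.Act g (h t ht).1) :
    cj g d.R0 = d.R0 := by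
  refine (Subgroup.eq_of_le_of_card_ge ?_ (by rw [card_cj])).symm
  intro v hv
  rw [mem_cj]
  have h1 := d.conj_mem' (M.inv_mem hM) hv.1
  rw [inv_inv] at h1
  have e : g * (g⁻¹ * v * g) * g⁻¹ = v := by group
  have ht' : σ t ≠ 0 := fun h0 => ht ((map_eq_zero σ).mp h0)
  refine ⟨h1, ?_, ?_⟩
  · have h2 := d.h_Y hg h1
    rw [e, hv.2.1] at h2
    rcases mul_eq_zero.mp h2.symm with h3 | h3
    · exact (mul_eq_zero.mp h3).resolve_left ht
    · exact absurd h3 (inv_ne_zero ht')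
  · have h2 := d.h_Z hg h1
    rw [e, hv.2.2] at h2
    rcases mul_eq_zero.mp h2.symm with h3 | h3
    · exact (mul_eq_zero.mp h3).resolve_left (inv_ne_zero ht)
    · exact absurd h3 (inv_ne_zero ht')

/-- `V` centralises all points -/
theorem V_le_normalizer {R : Subgroup G} (d : Co K σ M V) (hR : R ≤ V) : V ≤ normalizer (R : Set G) := by
  intro v hv
  rw [mem_normalizer_iff_cj]
  ext x
  rw [mem_cj]
  constructor
  · intro hx
    have h1 := d.comm hv (hR hx)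
    have e : x = v * (v⁻¹ * x * v) * v⁻¹ := by group
    rw [e, h1, mul_inv_cancel_right]
    exact hx
  · intro hx
    have h1 := d.comm hv (hR hx)
    rw [mul_assoc, ← h1, inv_mul_cancel_left]
    exact hx

end Co

namespace Hyp

open Co (u l h w u_zero u_mul u_inv one_ne_u act_one act_one_iff)

variable [CharP K 2] {d : Co K σ M V} {O : Subgroup G → Subgroup G} (H : Hyp d O)

/-- the group `Q = O₂(N(R₀))` -/
def Q (d : Co K σ M V) (O : Subgroup G → Subgroup G) : Subgroup G := O (normalizer (d.R0 : Set G))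

include H

theorem conj_Q {c y : G} (hc : cj c d.R0 = d.R0) (hy : y ∈ Q d O) : c * y * c⁻¹ ∈ Q d O :=
  H.isO.nor _ c (mem_normalizer_iff_cj.mpr hc) y hy

theorem norm_Q {c : G} (hc : cj c d.R0 = d.R0) : c ∈ normalizer (Q d O : Set G) := by
  rw [mem_normalizer_iff]
  intro y
  refine ⟨fun hy => H.conj_Q hc hy, fun hy => ?_⟩
  have hc' : cj c⁻¹ d.R0 = d.R0 := by
    have := congrArg (cj c⁻¹) hc
    rw [cj_inv_cj] at this
    exact this.symm
  have h1 := H.conj_Q hc' hy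
  have e : c⁻¹ * (c * y * c⁻¹) * c⁻¹⁻¹ = y := by group
  rwa [e] at h1

theorem Q_R0 {y : G} (hy : y ∈ Q d O) : cj y d.R0 = d.R0 :=
  mem_normalizer_iff_cj.mp (H.isO.le _ hy)

/-- **step (1)** -/
theorem act_Q [Finite G] [Finite K] :
    (∀ y ∈ Q d O, ∃ a, d.Act y (u a).1) ∧ ∀ a, ∃ y ∈ Q d O, d.Act y (u a).1 := by
  refine d.cover (T := {t : K | t ≠ 0}) (H.isO.two _) H.Q_M (fun y hy => H.Q_R0 hy) ?_ d.irr_all
    (fun t ht => ht) ?_ ?_
  · intro hc
    apply H.V_Q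
    intro v hv
    apply H.char2 v (Co.V_le_normalizer d d.R0_le hv)
    intro y hy
    exact ((mem_centralizer_iff.mp (hc hy)) v hv)
  · intro g hg a ha
    exact H.norm_Q (Co.u_R0 hg ha)
  · intro t ht _ g hg ha
    exact H.norm_Q (d.h_R0 hg ha)

theorem R0_Q : d.R0 ≤ Q d O := by
  apply H.isO.max
  · intro x
    refine ⟨1, ?_⟩
    apply Subtype.ext
    have := d.sq x.2.1
    simpa [pow_two] using this
  · exact le_normalizer
  · intro c hc y hy
    exact (mem_normalizer_iff.mp hc y).mp hy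

theorem R0_central [Finite G] [Finite K] {r y : G} (hr : r ∈ d.R0) (hy : y ∈ Q d O) : r * y = y * r := by
  obtain ⟨a, ha⟩ := H.act_Q.1 y hy
  have h1 := d.fix_of_mem_R0 hr (H.Q_M hy) ha
  calc r * y = y * r * y⁻¹ * y := by rw [h1]
    _ = y * r := by group

theorem comm_mem {v y : G} (hv : v ∈ V) (hy : y ∈ Q d O) : v * (y * v * y⁻¹) ∈ Q d O := by
  have h1 := H.conj_Q (mem_normalizer_iff_cj.mp (Co.V_le_normalizer d d.R0_le hv)) hy
  have h2 := (Q d O).mul_mem h1 ((Q d O).inv_mem hy)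
  rw [d.inv_eq hv] at h2
  simpa [mul_assoc] using h2

/-- **`V ∩ Q = R₀^⊥`** -/
theorem V_inf_Q [Finite G] [Finite K] : V ⊓ Q d O = d.E0 := by
  have hE : d.E0 ≤ Q d O := by
    intro v hv
    obtain ⟨v1, hv1, x1, y1, z1⟩ := d.exists_v 0 0 1 (map_zero σ) (map_one σ)
    obtain ⟨y, hy, hya⟩ := H.act_Q.2 (d.Y v)
    obtain ⟨w1, w2, w3, w4⟩ := Co.exists_wb v1 ⟨hv1, x1, y1⟩ (H.Q_M hy) hya
    have h1 := H.comm_mem hv1 hy
    set w := v1 * (y * v1 * y⁻¹) with hw
    have h2 : w⁻¹ * v ∈ d.R0 := by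
      refine ⟨V.mul_mem (V.inv_mem w1) hv.1, ?_, ?_⟩
      · rw [d.inv_eq w1, d.Y_mul w1 hv.1, w3, z1, mul_one, CharTwo.add_self_eq_zero]
      · rw [d.inv_eq w1, d.Z_mul w1 hv.1, w4, hv.2, add_zero]
    have h3 := (Q d O).mul_mem h1 (H.R0_Q h2)
    rwa [mul_inv_cancel_left] at h3
  apply le_antisymm
  · rintro v ⟨hv, hvQ⟩
    refine ⟨hv, ?_⟩
    by_contra hz
    apply H.V_Q
    intro x hx
    -- `(0, 0, Z x) ∈ Q`
    obtain ⟨v', hv', x', y', z'⟩ := d.exists_v 0 0 (d.Z v) (map_zero σ) (d.sZ hv)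
    have h1 : v' ∈ Q d O := by
      have h2 : v'⁻¹ * v ∈ d.E0 := by
        refine ⟨V.mul_mem (V.inv_mem hv') hv, ?_⟩
        rw [d.inv_eq hv', d.Z_mul hv' hv, z', CharTwo.add_self_eq_zero]
      have h3 := (Q d O).mul_mem hvQ ((Q d O).inv_mem (hE h2))
      have e : v * (v'⁻¹ * v)⁻¹ = v' := by group
      rwa [e] at h3
    obtain ⟨v'', hv'', x'', y'', z''⟩ := d.exists_v 0 0 (d.Z x) (map_zero σ) (d.sZ hx)
    have h2 : v'' ∈ Q d O := by
      by_cases hx0 : d.Z x = 0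
      · have : v'' ∈ d.E0 := ⟨hv'', by rw [z'', hx0]⟩
        exact hE this
      · obtain ⟨t, ht⟩ := d.exists_sqrt (d.Z v / d.Z x)
        have ht0 : t ≠ 0 := by
          rintro rfl
          rw [mul_zero] at ht
          exact (div_ne_zero hz hx0) ht.symm
        have hst : σ t = t := by
          have h3 : σ t * σ t = t * t := by
            rw [← map_mul, ht, map_div₀, d.sZ hv, d.sZ hx]
          have h4 : (σ t - t) * (σ t - t) = 0 := by
            have h2 : (2 : K) = 0 := CharTwo.two_eq_zero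
            linear_combination h3 + t * (t - σ t) * h2
          exact sub_eq_zero.mp (mul_self_eq_zero.mp h4)
        obtain ⟨g, hg, hga⟩ := d.exists_act (h t ht0)
        have h5 := H.conj_Q (d.h_R0 hg hga) h1
        have h6 : g * v' * g⁻¹ = v'' := by
          apply d.ext (d.conj_mem' hg hv') hv''
          · rw [d.h_X hga hv', x', x'']; simp
          · rw [d.h_Y hga hv', y', y'']; simp
          · rw [d.h_Z hga hv', z', z'', hst]
            have h7 : d.Z v = t * t * d.Z x := by rw [ht, div_mul_cancel₀ _ hx0]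
            rw [h7]
            field_simp
        rwa [h6] at h5
    have h3 : v''⁻¹ * x ∈ d.E0 := by
      refine ⟨V.mul_mem (V.inv_mem hv'') hx, ?_⟩
      rw [d.inv_eq hv'', d.Z_mul hv'' hx, z'', CharTwo.add_self_eq_zero]
    have h4 := (Q d O).mul_mem h2 (hE h3)
    rwa [mul_inv_cancel_left] at h4
  · exact le_inf d.E0_le hE

/-- `y⁻¹ e y` and `y e y⁻¹` -/
theorem act_inv [Finite G] [Finite K] {y : G} (hy : y ∈ Q d O) {a : K} (ha : d.Act y (u a).1) :
    d.Act y⁻¹ (u a).1 := by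
  have := ha.inv (H.Q_M hy)
  rwa [u_inv] at this

theorem EQ [Finite G] [Finite K] {e y : G} (he : e ∈ d.E0) (hy : y ∈ Q d O) :
    e⁻¹ * y⁻¹ * e * y ∈ d.R0 := by
  obtain ⟨a, ha⟩ := H.act_Q.1 y hy
  have h1 := H.act_inv hy ha
  have hyM := M.inv_mem (H.Q_M hy)
  have h2 := d.conj_mem' hyM he.1
  have e1 : e⁻¹ * y⁻¹ * e * y = e⁻¹ * (y⁻¹ * e * y⁻¹⁻¹) := by group
  rw [e1, d.inv_eq he.1]
  refine ⟨V.mul_mem he.1 h2, ?_, ?_⟩
  · rw [d.Y_mul he.1 h2, d.u_Y h1 he.1, he.2, mul_zero, add_zero, CharTwo.add_self_eq_zero]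
  · rw [d.Z_mul he.1 h2, d.u_Z h1 he.1, CharTwo.add_self_eq_zero]

theorem mem_cen_iff {y : G} (hy : y ∈ Q d O) {a : K} (ha : d.Act y (u a).1) :
    y ∈ centralizer (V : Set G) ↔ a = 0 := by
  constructor
  · intro h1
    by_contra ha0
    have h2 : d.Act y (1 : Matrix.SpecialLinearGroup (Fin 2) K).1 := (act_one_iff (H.Q_M hy)).mpr h1
    exact one_ne_u ha0 (d.act_faithful ha h2 (H.Q_M hy))
  · rintro rfl
    rw [u_zero] at ha
    exact (act_one_iff (H.Q_M hy)).mp ha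

theorem EQs [Finite G] [Finite K] {y : G} (hy : y ∈ Q d O) (hyV : y ∉ centralizer (V : Set G)) {r : G}
    (hr : r ∈ d.R0) : ∃ e ∈ d.E0, e⁻¹ * y⁻¹ * e * y = r := by
  obtain ⟨a, ha⟩ := H.act_Q.1 y hy
  have ha0 : a ≠ 0 := fun h0 => hyV ((H.mem_cen_iff hy ha).mpr h0)
  obtain ⟨b, hb⟩ := d.exists_tr (d.X r) (d.sX hr.1) a ha0
  obtain ⟨e, he, x1, y1, z1⟩ := d.exists_v 0 b 0 (map_zero σ) (map_zero σ)
  refine ⟨e, ⟨he, z1⟩, ?_⟩
  have h1 := H.act_inv hy ha
  have hyM := M.inv_mem (H.Q_M hy)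
  have h2 := d.conj_mem' hyM he
  have e1 : e⁻¹ * y⁻¹ * e * y = e⁻¹ * (y⁻¹ * e * y⁻¹⁻¹) := by group
  rw [e1, d.inv_eq he]
  apply d.ext (V.mul_mem he h2) hr.1
  · rw [d.X_mul he h2, d.u_X h1 he, x1, y1, z1, ← hb]
    simp
  · rw [d.Y_mul he h2, d.u_Y h1 he, y1, z1, hr.2.1, mul_zero, add_zero, CharTwo.add_self_eq_zero]
  · rw [d.Z_mul he h2, d.u_Z h1 he, hr.2.2, CharTwo.add_self_eq_zero]

theorem cenR [Finite G] [Finite K] {v : G} (hv : v ∈ V) (hc : ∀ y ∈ Q d O, v * y = y * v) : v ∈ d.R0 := by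
  apply d.mem_R0_of_fix hv
  intro a ha g hg hga
  obtain ⟨y, hy, hya⟩ := H.act_Q.2 a
  rw [hga.eq hya hg (H.Q_M hy) hv, ← hc y hy, mul_inv_cancel_right]

theorem fixj [Finite G] [Finite K] {y : G} (hy : y ∈ Q d O) (hc : cj y d.Roo = d.Roo) :
    y ∈ centralizer (V : Set G) := by
  obtain ⟨a, ha⟩ := H.act_Q.1 y hy
  rw [H.mem_cen_iff hy ha]
  obtain ⟨v, hv, x1, y1, z1⟩ := d.exists_v 0 0 1 (map_zero σ) (map_one σ)
  have h1 : y * v * y⁻¹ ∈ d.Roo := by
    rw [← hc]; exact conj_mem_cj ⟨hv, x1, y1⟩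
  have h2 := d.u_Y ha hv
  rw [h1.2.2, y1, z1, mul_one, zero_add] at h2
  exact h2.symm

theorem tran [Finite G] [Finite K] {g : G} (hg : g ∈ M) (hne : cj g d.R0 ≠ d.R0) :
    ∃ y ∈ Q d O, cj y d.Roo = cj g d.R0 := by
  obtain ⟨κ, hκ⟩ := d.two_trans hg hne
  obtain ⟨y, hy, hya⟩ := H.act_Q.2 κ
  exact ⟨y, hy, (hκ y (H.Q_M hy) hya).symm⟩

theorem irr [Finite G] [Finite K] {N : Subgroup G} (hN : N ≤ Q d O)
    (hn : ∀ m ∈ M, m ∈ normalizer (d.R0 : Set G) → ∀ y ∈ N, m * y * m⁻¹ ∈ N)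
    (hc : ¬ N ≤ centralizer (V : Set G)) {y : G} (hy : y ∈ Q d O) :
    ∃ n ∈ N, y⁻¹ * n ∈ centralizer (V : Set G) := by
  obtain ⟨a, ha⟩ := H.act_Q.1 y hy
  by_cases ha0 : a = 0
  · refine ⟨1, N.one_mem, ?_⟩
    rw [mul_one]
    exact inv_mem ((H.mem_cen_iff hy ha).mpr ha0)
  · obtain ⟨n, hnN, hnC⟩ : ∃ n ∈ N, n ∉ centralizer (V : Set G) := by
      by_contra hcon
      push Not at hcon
      exact hc hcon
    obtain ⟨b, hb⟩ := H.act_Q.1 n (hN hnN)
    have hb0 : b ≠ 0 := fun h0 => hnC ((H.mem_cen_iff (hN hnN) hb).mpr h0)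
    obtain ⟨t, ht⟩ := d.exists_sqrt (a / b)
    have ht0 : t ≠ 0 := by
      rintro rfl
      rw [mul_zero] at ht
      exact (div_ne_zero ha0 hb0) ht.symm
    obtain ⟨g, hg, hga⟩ := d.exists_act (h t ht0)
    have h1 := hn g hg (mem_normalizer_iff_cj.mpr (d.h_R0 hg hga)) n hnN
    have h2 := (hga.mulS hb (H.Q_M (hN hnN))).mulS (hga.inv hg) (M.inv_mem hg)
    rw [Co.h_u, ht, div_mul_cancel₀ _ hb0] at h2
    refine ⟨_, h1, ?_⟩
    have h3 := (H.act_inv hy ha).mulS h2 (H.Q_M (hN h1))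
    rw [u_mul, CharTwo.add_self_eq_zero, u_zero] at h3
    exact (act_one_iff (M.mul_mem (M.inv_mem (H.Q_M hy)) (H.Q_M (hN h1)))).mp h3

/-- the parameter of an element of `Q` -/
noncomputable def par (d : Co K σ M V) (y : G) : K := by
  classical
  exact if hy : ∃ a, d.Act y (u a).1 then hy.choose else 0

omit H in
theorem par_act {y : G} {a : K} (hM : y ∈ M) (ha : d.Act y (u a).1) : par d y = a := by
  have hex : ∃ a, d.Act y (u a).1 := ⟨a, ha⟩
  have h1 : d.Act y (u (par d y)).1 := by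
    unfold par
    rw [dif_pos hex]
    exact hex.choose_spec
  exact Co.u_inj (congrArg Subtype.val (d.act_faithful h1 ha hM))

theorem cardQ [Finite G] [Finite K] : (centralizer (V : Set G)).relIndex (Q d O) = Nat.card K := by
  apply relIndex_eq_card (par d)
  · intro x hx y hy
    obtain ⟨a, ha⟩ := H.act_Q.1 x hx
    obtain ⟨b, hb⟩ := H.act_Q.1 y hy
    have h1 := ha.mulS hb (H.Q_M hy)
    rw [u_mul] at h1
    rw [par_act (M.mul_mem (H.Q_M hx) (H.Q_M hy)) h1, par_act (H.Q_M hx) ha, par_act (H.Q_M hy) hb]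
  · intro a
    obtain ⟨y, hy, hya⟩ := H.act_Q.2 a
    exact ⟨y, hy, par_act (H.Q_M hy) hya⟩
  · intro y hy
    obtain ⟨a, ha⟩ := H.act_Q.1 y hy
    rw [par_act (H.Q_M hy) ha]
    exact (H.mem_cen_iff hy ha).symm

omit H in
theorem cardE0 : d.R0.relIndex d.E0 = Nat.card K := by
  apply relIndex_eq_card d.Y
  · intro x hx y hy
    exact d.Y_mul hx.1 hy.1
  · intro a
    obtain ⟨v, hv, x1, y1, z1⟩ := d.exists_v 0 a 0 (map_zero σ) (map_zero σ)
    exact ⟨v, ⟨hv, z1⟩, y1⟩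
  · intro y hy
    constructor
    · intro h1
      exact ⟨hy.1, h1, hy.2⟩
    · intro h1
      exact h1.2.1

/-- **(v4)** -/
theorem alt [Finite G] [Finite K] (b : G → G) (hb : ∀ y ∈ Q d O, b y ∈ d.E0)
    (hm : ∀ y ∈ Q d O, ∀ y' ∈ Q d O, b (y * y') * (b y * b y')⁻¹ ∈ d.R0)
    (hc : ∀ y ∈ Q d O, b y * y = y * b y)
    (hC : ∀ y ∈ Q d O, y ∈ centralizer (V : Set G) → b y ∈ d.R0) :
    ∃ r ∈ d.Roo, ∀ y ∈ Q d O, b y * (y⁻¹ * r⁻¹ * y * r)⁻¹ ∈ d.R0 := by
  have hmul : ∀ y ∈ Q d O, ∀ y' ∈ Q d O, d.Y (b (y * y')) = d.Y (b y) + d.Y (b y') := by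
    intro y hy y' hy'
    have h1 := hm y hy y' hy'
    have h2 := (hb _ ((Q d O).mul_mem hy hy')).1
    have h3 := V.mul_mem (hb y hy).1 (hb y' hy').1
    have h4 := h1.2.1
    rw [d.inv_eq h3, d.Y_mul h2 h3, d.Y_mul (hb y hy).1 (hb y' hy').1] at h4
    have := CharTwo.add_self_eq_zero (d.Y (b y) + d.Y (b y'))
    linear_combination h4 - this
  -- the parameter only depends on the action
  choose yy hyy hya using H.act_Q.2
  have hpar : ∀ y ∈ Q d O, ∀ a, d.Act y (u a).1 → d.Y (b y) = d.Y (b (yy a)) := by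
    intro y hy a ha
    have h1 : (yy a)⁻¹ * y ∈ Q d O := (Q d O).mul_mem ((Q d O).inv_mem (hyy a)) hy
    have h2 : (yy a)⁻¹ * y ∈ centralizer (V : Set G) := by
      have h3 := (H.act_inv (hyy a) (hya a)).mulS ha (H.Q_M hy)
      rw [u_mul, CharTwo.add_self_eq_zero, u_zero] at h3
      exact (act_one_iff (H.Q_M h1)).mp h3
    have h3 := hmul _ (hyy a) _ h1
    rw [mul_inv_cancel_left, (hC _ h1 h2).2.1, add_zero] at h3
    exact h3
  set β : K → K := fun a => d.Y (b (yy a)) with hβ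
  have hadd : ∀ a a', β (a + a') = β a + β a' := by
    intro a a'
    have h1 : d.Act (yy a * yy a') (u (a + a')).1 := by
      rw [← u_mul]; exact (hya a).mulS (hya a') (H.Q_M (hyy a'))
    have h2 := hpar _ ((Q d O).mul_mem (hyy a) (hyy a')) _ h1
    rw [hmul _ (hyy a) _ (hyy a')] at h2
    exact h2.symm
  have hzero : β 0 = 0 := by
    have h1 := hadd 0 0
    rw [add_zero] at h1
    exact left_eq_add.mp h1
  have hcomm : ∀ a, a * σ (β a) + β a * σ a = 0 := by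
    intro a
    have h1 := hc _ (hyy a)
    have h2 : yy a * b (yy a) * (yy a)⁻¹ = b (yy a) := by rw [← h1, mul_inv_cancel_right]
    have h3 := d.u_X (hya a) (hb _ (hyy a)).1
    rw [h2, (hb _ (hyy a)).2, mul_zero, add_zero, add_assoc] at h3
    exact left_eq_add.mp h3
  have hsh : ∀ a, a ≠ 0 → σ (β a / a) = β a / a := by
    intro a ha
    have hsa : σ a ≠ 0 := fun h0 => ha ((map_eq_zero σ).mp h0)
    rw [map_div₀, div_eq_div_iff hsa ha]
    have h1 := hcomm a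
    have := CharTwo.add_self_eq_zero (β a * σ a)
    linear_combination h1 - this
  -- `β a / a` is constant
  have hind : ∀ a a', a ≠ 0 → a' ≠ 0 → σ (a / a') ≠ a / a' → β a / a = β a' / a' := by
    intro a a' ha ha' hne
    have haa : a + a' ≠ 0 := by
      intro h0
      have h1 : a = -a' := eq_neg_of_add_eq_zero_left h0
      rw [CharTwo.neg_eq] at h1
      rw [h1, div_self ha', map_one] at hne
      exact hne rfl
    set p := β a / a with hp
    set q := β a' / a' with hq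
    set r := β (a + a') / (a + a') with hr
    have h1 : r * (a + a') = p * a + q * a' := by
      rw [hr, hp, hq, div_mul_cancel₀ _ haa, div_mul_cancel₀ _ ha, div_mul_cancel₀ _ ha', hadd]
    have h2 : (r - p) * a = (q - r) * a' := by linear_combination h1
    have hsp : σ p = p := hsh a ha
    have hsq : σ q = q := hsh a' ha'
    have hsr : σ r = r := hsh _ haa
    by_cases hrp : r - p = 0
    · rw [hrp, zero_mul] at h2
      have h3 := (mul_eq_zero.mp h2.symm).resolve_right ha'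
      rw [← sub_eq_zero.mp hrp, sub_eq_zero.mp h3]
    · exfalso
      apply hne
      have h3 : a / a' = (q - r) / (r - p) := by
        rw [div_eq_div_iff ha' hrp]
        linear_combination h2
      rw [h3, map_div₀, map_sub, map_sub, hsp, hsq, hsr]
  obtain ⟨κ, hκ⟩ := d.nt
  have hκ0 : κ ≠ 0 := by
    rintro rfl
    exact hκ (map_zero σ)
  have hconst : ∀ a, a ≠ 0 → β a = β 1 * a := by
    intro a ha
    suffices hs : β a / a = β 1 / 1 by
      rw [div_one] at hs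
      rw [← hs, div_mul_cancel₀ _ ha]
    by_cases h1 : σ (a / 1) = a / 1
    · rw [div_one] at h1
      have e1 : β (κ * a) / (κ * a) = β a / a := by
        apply hind _ _ (mul_ne_zero hκ0 ha) ha
        rw [mul_div_cancel_right₀ _ ha]
        exact hκ
      have e2 : β (κ * a) / (κ * a) = β 1 / 1 := by
        apply hind _ _ (mul_ne_zero hκ0 ha) one_ne_zero
        rw [div_one, map_mul, h1]
        intro h2
        exact hκ (mul_right_cancel₀ ha h2)
      rw [← e1, e2]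
    · exact hind _ _ ha one_ne_zero h1
  have hsl : σ (β 1) = β 1 := by
    have := hsh 1 one_ne_zero
    rwa [div_one] at this
  obtain ⟨r, hr, x1, y1, z1⟩ := d.exists_v 0 0 (β 1) (map_zero σ) hsl
  refine ⟨r, ⟨hr, x1, y1⟩, ?_⟩
  intro y hy
  obtain ⟨a, ha⟩ := H.act_Q.1 y hy
  have h1 := H.act_inv hy ha
  have hyM := M.inv_mem (H.Q_M hy)
  have h2 := d.conj_mem' hyM hr
  have e1 : y⁻¹ * r⁻¹ * y * r = (y⁻¹ * r * y⁻¹⁻¹) * r := by rw [d.inv_eq hr]; group
  have h3 := V.mul_mem h2 hr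
  rw [e1, d.inv_eq h3]
  have h4 := (hb y hy).1
  refine ⟨V.mul_mem h4 h3, ?_, ?_⟩
  · rw [d.Y_mul h4 h3, d.Y_mul h2 hr, d.u_Y h1 hr, y1, z1, hpar y hy a ha]
    change β a + _ = 0
    by_cases ha0 : a = 0
    · rw [ha0, hzero]; simp
    · rw [hconst a ha0]
      have := CharTwo.add_self_eq_zero (β 1 * a)
      linear_combination this
  · rw [d.Z_mul h4 h3, d.Z_mul h2 hr, d.u_Z h1 hr, (hb y hy).2, CharTwo.add_self_eq_zero, add_zero]

end Hyp

end Cfsg.Agent.Omega.NO1.Beta.Inst
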