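import Mathlib

/-!
# Counting homomorphisms to `±1` (THEOREM BETA, step (5) and (8))

* `card_hom_le`: a finite group has at most `|A|` homomorphisms to `ℤˣ`.
* `relIndex_le`: a pairing `b : X × P → ±1`, multiplicative in `P`, trivial on `K`, with
  left kernel inside `Z` : `|X : Z ∩ X| ≤ |P : K ∩ P|`.
* `exists_rep`: if moreover `|P : K ∩ P| ≤ |X : Z ∩ X|`, every character of `P` which kills
  `K ∩ P` is `b x` for some `x ∈ X`.
-/

namespace Cfsg.Agent.Omega.NO1.Beta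

open Subgroup

/-- A finite group has at most `|A|` homomorphisms into `{1, -1}`. -/
theorem card_hom_le (A : Type*) [Group A] [Finite A] : Nat.card (A →* ℤˣ) ≤ Nat.card A := by
  classical
  have := Fintype.ofFinite A
  let j : (A →* ℤˣ) → (A →* ℚ) := fun f => ((Int.castRingHom ℚ : ℤ →* ℚ).comp
    (Units.coeHom ℤ)).comp f
  have hj : Function.Injective j := by
    intro f g hfg
    ext a
    have h1 := DFunLike.congr_fun hfg a
    have h2 : (((f a : ℤˣ) : ℤ) : ℚ) = (((g a : ℤˣ) : ℤ) : ℚ) := h1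
    exact_mod_cast h2
  have hli := linearIndependent_monoidHom A ℚ
  have hli' : LinearIndependent ℚ (fun f : A →* ℤˣ => (⇑(j f) : A → ℚ)) :=
    hli.comp j hj
  have hfin : Finite (A →* ℤˣ) := hli'.finite
  have := Fintype.ofFinite (A →* ℤˣ)
  have hc := hli'.fintype_card_le_finrank
  rw [Module.finrank_fintype_fun_eq_card] at hc
  rwa [Nat.card_eq_fintype_card, Nat.card_eq_fintype_card]

/-- The characters of `P` which kill `K`. -/
theorem card_kill_le {P : Type*} [Group P] [Finite P] (K : Subgroup P) [hK : K.Normal] :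
    Nat.card {g : P →* ℤˣ // K ≤ g.ker} ≤ K.index := by
  classical
  have hfin : Finite (P ⧸ K →* ℤˣ) := by
    have : Finite ℤˣ := inferInstance
    exact DFunLike.finite _
  have h := card_hom_le (P ⧸ K)
  refine le_trans (Nat.card_le_card_of_injective
    (fun g : {g : P →* ℤˣ // K ≤ g.ker} => (QuotientGroup.lift K g.1 g.2 : P ⧸ K →* ℤˣ)) ?_) h
  intro g g' hgg
  apply Subtype.ext
  ext a
  have := DFunLike.congr_fun hgg (QuotientGroup.mk a)
  simpa using congrArg (fun u : ℤˣ => (u : ℤ)) this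

variable {G : Type*} [Group G]

section

variable {X P Z K : Subgroup G} (b : G → G → ℤˣ)

/-- The character of `P` attached to an `x`. -/
private def chr (hb : ∀ x ∈ X, ∀ y ∈ P, ∀ y' ∈ P, b x (y * y') = b x y * b x y') (x : X) :
    P →* ℤˣ :=
  MonoidHom.mk' (fun y => b x y) (fun y y' => hb x x.2 y y.2 y' y'.2)

private def chrK (hb : ∀ x ∈ X, ∀ y ∈ P, ∀ y' ∈ P, b x (y * y') = b x y * b x y')
    (hk : ∀ x ∈ X, ∀ k ∈ P, k ∈ K → b x k = 1) (x : X) :
    {g : P →* ℤˣ // K.subgroupOf P ≤ g.ker} :=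
  ⟨chr b hb x, fun k hkk => hk x x.2 k k.2 hkk⟩

private theorem normal_of (hKP : ∀ y ∈ P, ∀ k ∈ P, k ∈ K → y * k * y⁻¹ ∈ K) :
    (K.subgroupOf P).Normal :=
  ⟨fun k hk y => by
    have := hKP y y.2 k k.2 hk
    simpa [mem_subgroupOf] using this⟩

private noncomputable def inj (hb : ∀ x ∈ X, ∀ y ∈ P, ∀ y' ∈ P, b x (y * y') = b x y * b x y')
    (hk : ∀ x ∈ X, ∀ k ∈ P, k ∈ K → b x k = 1) (q : X ⧸ Z.subgroupOf X) :
    {g : P →* ℤˣ // K.subgroupOf P ≤ g.ker} :=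
  chrK b hb hk q.out

private theorem inj_injective
    (hb : ∀ x ∈ X, ∀ y ∈ P, ∀ y' ∈ P, b x (y * y') = b x y * b x y')
    (hk : ∀ x ∈ X, ∀ k ∈ P, k ∈ K → b x k = 1)
    (hx : ∀ x ∈ X, ∀ x' ∈ X, (∀ y ∈ P, b x y = b x' y) → x⁻¹ * x' ∈ Z) :
    Function.Injective (inj (Z := Z) b hb hk) := by
  intro q q' hqq
  have h1 : (q.out : X)⁻¹ * q'.out ∈ Z.subgroupOf X := by
    rw [mem_subgroupOf]
    apply hx _ q.out.2 _ q'.out.2
    intro y hy
    have h2 := congrArg Subtype.val hqq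
    have h3 := DFunLike.congr_fun h2 (⟨y, hy⟩ : P)
    exact h3
  have h2 : (QuotientGroup.mk q.out : X ⧸ Z.subgroupOf X) = QuotientGroup.mk q'.out :=
    QuotientGroup.eq.2 h1
  rwa [QuotientGroup.out_eq', QuotientGroup.out_eq'] at h2

/-- **The pairing inequality.** -/
theorem relIndex_le [Finite G] (hKP : ∀ y ∈ P, ∀ k ∈ P, k ∈ K → y * k * y⁻¹ ∈ K)
    (hb : ∀ x ∈ X, ∀ y ∈ P, ∀ y' ∈ P, b x (y * y') = b x y * b x y')
    (hk : ∀ x ∈ X, ∀ k ∈ P, k ∈ K → b x k = 1)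
    (hx : ∀ x ∈ X, ∀ x' ∈ X, (∀ y ∈ P, b x y = b x' y) → x⁻¹ * x' ∈ Z) :
    Z.relIndex X ≤ K.relIndex P := by
  have := normal_of hKP
  have hf : Finite {g : P →* ℤˣ // K.subgroupOf P ≤ g.ker} := by
    have : Finite (P →* ℤˣ) := DFunLike.finite _
    infer_instance
  exact le_trans (Nat.card_le_card_of_injective _ (inj_injective b hb hk hx))
    (card_kill_le (K.subgroupOf P))

/-- **Every character is represented.** -/
theorem exists_rep [Finite G] (hKP : ∀ y ∈ P, ∀ k ∈ P, k ∈ K → y * k * y⁻¹ ∈ K)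
    (hb : ∀ x ∈ X, ∀ y ∈ P, ∀ y' ∈ P, b x (y * y') = b x y * b x y')
    (hk : ∀ x ∈ X, ∀ k ∈ P, k ∈ K → b x k = 1)
    (hx : ∀ x ∈ X, ∀ x' ∈ X, (∀ y ∈ P, b x y = b x' y) → x⁻¹ * x' ∈ Z)
    (hle : K.relIndex P ≤ Z.relIndex X)
    (g : G → ℤˣ) (hg : ∀ y ∈ P, ∀ y' ∈ P, g (y * y') = g y * g y')
    (hgk : ∀ k ∈ P, k ∈ K → g k = 1) :
    ∃ x ∈ X, ∀ y ∈ P, b x y = g y := by
  have := normal_of hKP
  have hf : Finite {g : P →* ℤˣ // K.subgroupOf P ≤ g.ker} := by
    have : Finite (P →* ℤˣ) := DFunLike.finite _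
    infer_instance
  have hinj := inj_injective b hb hk hx
  have hcard : Nat.card {g : P →* ℤˣ // K.subgroupOf P ≤ g.ker} ≤
      Nat.card (X ⧸ Z.subgroupOf X) := le_trans (card_kill_le (K.subgroupOf P)) hle
  have hbij : Function.Bijective (inj (Z := Z) b hb hk) :=
    (Nat.bijective_iff_injective_and_card _).2
      ⟨hinj, le_antisymm (Nat.card_le_card_of_injective _ hinj) hcard⟩
  obtain ⟨q, hq⟩ := hbij.2 ⟨MonoidHom.mk' (fun y : P => g y) (fun y y' => hg y y.2 y' y'.2),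
    fun k hkk => hgk k k.2 hkk⟩
  refine ⟨q.out, q.out.2, fun y hy => ?_⟩
  exact DFunLike.congr_fun (congrArg Subtype.val hq) (⟨y, hy⟩ : P)

end

/-- A character of a nontrivial elementary abelian 2-group. -/
theorem exists_char [Finite G] {R : Subgroup G} (hne : R ≠ ⊥) (hc : ∀ a ∈ R, ∀ b ∈ R, a * b = b * a)
    (hs : ∀ a ∈ R, a * a = 1) :
    ∃ χ : G → ℤˣ, (∀ a ∈ R, ∀ b ∈ R, χ (a * b) = χ a * χ b) ∧ ∃ r ∈ R, χ r ≠ 1 := by
  classical
  obtain ⟨r, hr⟩ : ∃ r : R, r ≠ 1 := by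
    by_contra hcon
    push Not at hcon
    exact hne ((eq_bot_iff_forall _).2 fun x hx => by
      simpa using congrArg Subtype.val (hcon ⟨x, hx⟩))
  let _ : CommGroup R :=
    { (inferInstance : Group R) with
      mul_comm := fun a b => Subtype.ext (hc a a.2 b b.2) }
  obtain ⟨φ, hφ⟩ := CommGroup.exists_apply_ne_one_of_hasEnoughRootsOfUnity (R : Type _) ℂ hr
  have h2 : ∀ a : R, φ a = 1 ∨ φ a = -1 := by
    intro a
    have h3 : a * a = 1 := Subtype.ext (hs a a.2)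
    have h4 : φ a * φ a = 1 := by rw [← map_mul, h3, map_one]
    have h5 : ((φ a : ℂˣ) : ℂ) * ((φ a : ℂˣ) : ℂ) = 1 := by
      rw [← Units.val_mul, h4, Units.val_one]
    rcases mul_self_eq_one_iff.1 h5 with h | h
    · left; exact Units.ext h
    · right; exact Units.ext (by simpa using h)
  refine ⟨fun a => if h : a ∈ R then (if φ ⟨a, h⟩ = 1 then 1 else -1) else 1, ?_, r, r.2, ?_⟩
  · intro a ha b hb
    have hab : a * b ∈ R := R.mul_mem ha hb
    have hm : φ ⟨a * b, hab⟩ = φ ⟨a, ha⟩ * φ ⟨b, hb⟩ := by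
      rw [← map_mul]; rfl
    have hne1 : (-1 : ℂˣ) ≠ 1 := by
      intro h
      have := congrArg (Units.val) h
      norm_num at this
    simp only [dif_pos ha, dif_pos hb, dif_pos hab, hm]
    rcases h2 ⟨a, ha⟩ with h | h <;> rcases h2 ⟨b, hb⟩ with h' | h' <;> simp [h, h', hne1]
  · simp only [dif_pos r.2]
    rw [if_neg (by simpa using hφ)]
    decide

end Cfsg.Agent.Omega.NO1.Beta
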