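import Cfsg.Agent.Omega.NO1.Beta.End
import Cfsg.Agent.Omega.NO1.Beta.Meet

/-!
# THEOREM BETA, the structure and steps (2)-(4)

`Beta M V R Q` : the hypotheses of THEOREM BETA (helper692, blueprints/OMEGA-NO1-beta-*), field-free.
`Qs V R Q i = ⟨(V ⊓ Q i)^c : c ∈ N(R i)⟩`.  Output: `Beta.pre : Beta M V R Q → Pre V R Q (Qs V R Q)`.
-/

set_option autoImplicit false
set_option linter.dupNamespace false
set_option linter.unusedSectionVars false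
set_option linter.unusedVariables false

open Subgroup
open scoped Pointwise

namespace Cfsg.Agent.Omega.NO1.Beta

open Meet

variable {G : Type*} [Group G] {I : Type*}

/-- The hypotheses of THEOREM BETA (`C(V) ≤ M ≤ N(V)`, every `Q i ≤ M`). -/
structure Beta (M V : Subgroup G) (R Q : I → Subgroup G) : Prop where
  C_M : centralizer (V : Set G) ≤ M
  M_V : M ≤ normalizer (V : Set G)
  V_comm : ∀ a ∈ V, ∀ b ∈ V, a * b = b * a
  V_sq : ∀ a ∈ V, a * a = 1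
  R_le : ∀ i, R i ≤ V
  R_Q : ∀ i, R i ≤ Q i
  RQ : ∀ i, ∀ r ∈ R i, ∀ y ∈ Q i, r * y = y * r
  ne : ∀ i, R i ≠ ⊥
  disj : ∀ i j, i ≠ j → R i ⊓ R j = ⊥
  two : ∀ i, IsPGroup 2 (Q i)
  Q_M : ∀ i, Q i ≤ M
  V_Q : ∀ i, ¬ V ≤ Q i
  nor : ∀ i, ∀ c ∈ normalizer (R i : Set G), ∀ y ∈ Q i, c * y * c⁻¹ ∈ Q i
  perm : ∀ m ∈ M, ∀ i, ∃ j, cj m (R i) = R j ∧ cj m (Q i) = Q j
  max : ∀ i, ∀ N : Subgroup G, IsPGroup 2 N → N ≤ normalizer (R i : Set G) →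
    (∀ c ∈ normalizer (R i : Set G), ∀ y ∈ N, c * y * c⁻¹ ∈ N) → N ≤ Q i
  char2 : ∀ i, centralizer (Q i : Set G) ≤ Q i
  EQ : ∀ i, ∀ e ∈ V ⊓ Q i, ∀ y ∈ Q i, e⁻¹ * y⁻¹ * e * y ∈ R i
  EQs : ∀ i, ∀ y ∈ Q i, y ∉ centralizer (V : Set G) → ∀ r ∈ R i,
    ∃ e ∈ V ⊓ Q i, e⁻¹ * y⁻¹ * e * y = r
  cenR : ∀ i, ∀ v ∈ V, (∀ y ∈ Q i, v * y = y * v) → v ∈ R i
  fixj : ∀ i j, i ≠ j → ∀ y ∈ Q i, cj y (R j) = R j → y ∈ centralizer (V : Set G)
  tran : ∀ i j k, j ≠ i → k ≠ i → ∃ y ∈ Q i, cj y (R j) = R k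
  irr : ∀ i, ∀ N : Subgroup G, N ≤ Q i →
    (∀ m ∈ M, m ∈ normalizer (R i : Set G) → ∀ y ∈ N, m * y * m⁻¹ ∈ N) →
    ¬ N ≤ centralizer (V : Set G) → ∀ y ∈ Q i, ∃ n ∈ N, y⁻¹ * n ∈ centralizer (V : Set G)
  big : ∀ i, Nat.card (R i) + 1 < Nat.card I
  cardE : ∀ i, (centralizer (V : Set G)).relIndex (Q i) = (R i).relIndex (V ⊓ Q i)
  meet : ∀ N : Subgroup G, IsPGroup 2 N → N ≤ M →
    (∀ m ∈ M, ∀ y ∈ N, m * y * m⁻¹ ∈ N) → N ⊓ V = ⊥ → N = ⊥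
  alt : ∀ i j, i ≠ j → ∀ b : G → G, (∀ y ∈ Q i, b y ∈ V ⊓ Q i) →
    (∀ y ∈ Q i, ∀ y' ∈ Q i, b (y * y') * (b y * b y')⁻¹ ∈ R i) →
    (∀ y ∈ Q i, b y * y = y * b y) →
    (∀ y ∈ Q i, y ∈ centralizer (V : Set G) → b y ∈ R i) →
    ∃ r ∈ R j, ∀ y ∈ Q i, b y * (y⁻¹ * r⁻¹ * y * r)⁻¹ ∈ R i

/-- `Q*_i = ⟨(V ∩ Q_i)^{N(R_i)}⟩` -/
def Qs (V : Subgroup G) (R Q : I → Subgroup G) (i : I) : Subgroup G :=
  closure {x : G | ∃ c ∈ normalizer (R i : Set G), ∃ e ∈ V ⊓ Q i, x = c * e * c⁻¹}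

/-- closure induction for `Qs` -/
theorem Qs_induction {V : Subgroup G} {R Q : I → Subgroup G} {i : I} {p : G → Prop}
    (h1 : p 1) (hm : ∀ a b, a ∈ Qs V R Q i → b ∈ Qs V R Q i → p a → p b → p (a * b))
    (hi : ∀ a, a ∈ Qs V R Q i → p a → p a⁻¹)
    (hg : ∀ c ∈ normalizer (R i : Set G), ∀ e ∈ V ⊓ Q i, p (c * e * c⁻¹)) {x : G}
    (hx : x ∈ Qs V R Q i) : p x := by
  refine closure_induction (p := fun x _ => p x) ?_ h1 ?_ ?_ hx
  · rintro x ⟨c, hc, e, he, rfl⟩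
    exact hg c hc e he
  · intro a b ha hb hpa hpb
    exact hm a b ha hb hpa hpb
  · intro a ha hpa
    exact hi a ha hpa

/-- A maximal normal 2-subgroup of `B`. -/
theorem exists_two_core [Finite G] (B : Subgroup G) :
    ∃ N : Subgroup G, IsPGroup 2 N ∧ N ≤ B ∧ (∀ b ∈ B, ∀ y ∈ N, b * y * b⁻¹ ∈ N) ∧
      ∀ X : Subgroup G, IsPGroup 2 X → X ≤ B → (∀ b ∈ B, ∀ y ∈ X, b * y * b⁻¹ ∈ X) → X ≤ N := by
  classical
  let P : Set (Subgroup G) := {X | IsPGroup 2 X ∧ X ≤ B ∧ ∀ b ∈ B, ∀ y ∈ X, b * y * b⁻¹ ∈ X}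
  have hP : P.Nonempty := ⟨⊥, IsPGroup.of_bot, bot_le, by
    intro b _ y hy
    rw [mem_bot] at hy ⊢
    rw [hy]; group⟩
  obtain ⟨N, hN⟩ := (Set.toFinite P).exists_maximal hP
  refine ⟨N, hN.prop.1, hN.prop.2.1, hN.prop.2.2, fun X h1 h2 h3 => ?_⟩
  have hXN : X ≤ normalizer (N : Set G) := by
    intro x hx
    rw [mem_normalizer_iff]
    intro y
    constructor
    · exact hN.prop.2.2 x (h2 hx) y
    · intro hy
      have := hN.prop.2.2 x⁻¹ (inv_mem (h2 hx)) _ hy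
      simpa [mul_assoc] using this
  have hsup : X ⊔ N ∈ P := by
    refine ⟨h1.to_sup_of_normal_right' hN.prop.1 hXN, sup_le h2 hN.prop.2.1, fun b hb y hy => ?_⟩
    have hm : ∀ y ∈ X ⊔ N, b * y * b⁻¹ ∈ X ⊔ N := by
      intro y hy
      have hle : X ⊔ N ≤ (X ⊔ N).comap (MulAut.conj b).toMonoidHom := by
        refine sup_le (fun z hz => ?_) (fun z hz => ?_)
        · rw [mem_comap]
          exact mem_sup_left (h3 b hb z hz)
        · rw [mem_comap]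
          exact mem_sup_right (hN.prop.2.2 b hb z hz)
      exact hle hy
    exact hm y hy
  exact le_trans le_sup_left (hN.le_of_ge hsup le_sup_right)

namespace Beta

variable {M V : Subgroup G} {R Q : I → Subgroup G} (h : Beta M V R Q)
include h

theorem Q_V (i : I) : Q i ≤ normalizer (V : Set G) := le_trans (h.Q_M i) h.M_V

theorem cenV_iff {x : G} : x ∈ centralizer (V : Set G) ↔ ∀ v ∈ V, v * x = x * v := by
  have _ := h
  rw [mem_centralizer_iff]; rfl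

theorem V_CV : V ≤ centralizer (V : Set G) := fun v hv => by
  rw [h.cenV_iff]
  intro w hw
  exact h.V_comm w hw v hv

theorem CV_NR (i : I) : centralizer (V : Set G) ≤ normalizer (R i : Set G) := by
  intro x hx
  apply mem_normalizer_of_cj
  apply cj_eq_of_comm
  intro r hr
  exact (h.cenV_iff.1 hx r (h.R_le i hr)).symm

theorem CV_NV : centralizer (V : Set G) ≤ normalizer (V : Set G) := by
  intro x hx
  apply mem_normalizer_of_cj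
  apply cj_eq_of_comm
  intro r hr
  exact (h.cenV_iff.1 hx r hr).symm

theorem Q_NR (i : I) : Q i ≤ normalizer (R i : Set G) := by
  intro y hy
  apply mem_normalizer_of_cj
  apply cj_eq_of_comm
  intro r hr
  exact (h.RQ i r hr y hy).symm

theorem R_conj {i : I} {c : G} (hc : c ∈ normalizer (R i : Set G)) {r : G} (hr : r ∈ R i) :
    c * r * c⁻¹ ∈ R i := (mem_normalizer_iff.1 hc r).1 hr

theorem nor' {i : I} {c : G} (hc : c ∈ normalizer (R i : Set G)) {y : G} (hy : y ∈ Q i) :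
    c⁻¹ * y * c ∈ Q i := by
  simpa using h.nor i c⁻¹ (inv_mem hc) y hy

theorem V_conj {c : G} (hc : c ∈ normalizer (V : Set G)) {v : G} (hv : v ∈ V) :
    c * v * c⁻¹ ∈ V := (mem_normalizer_iff.1 hc v).1 hv

theorem V_conj' {c : G} (hc : c ∈ normalizer (V : Set G)) {v : G} (hv : v ∈ V) :
    c⁻¹ * v * c ∈ V := by simpa using h.V_conj (inv_mem hc) hv

/-- `M` normalises `C(V)`. -/
theorem CV_conj {m : G} (hm : m ∈ normalizer (V : Set G)) {x : G}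
    (hx : x ∈ centralizer (V : Set G)) : m * x * m⁻¹ ∈ centralizer (V : Set G) := by
  rw [h.cenV_iff] at hx ⊢
  intro v hv
  have h2 := hx _ (h.V_conj' hm hv)
  calc v * (m * x * m⁻¹) = m * ((m⁻¹ * v * m) * x) * m⁻¹ := by group
    _ = m * (x * (m⁻¹ * v * m)) * m⁻¹ := by rw [h2]
    _ = m * x * m⁻¹ * v := by group

/-! ### (2) -/

theorem S_nor (i : I) {c : G} (hc : c ∈ normalizer (R i : Set G)) {n : G}
    (hn : n ∈ Qs V R Q i) : c * n * c⁻¹ ∈ Qs V R Q i := by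
  have _ := h
  refine Qs_induction (p := fun n => c * n * c⁻¹ ∈ Qs V R Q i) ?_ ?_ ?_ ?_ hn
  · simp
  · intro a b _ _ ha hb
    have := mul_mem ha hb
    have h2 : c * (a * b) * c⁻¹ = c * a * c⁻¹ * (c * b * c⁻¹) := by group
    rw [h2]; exact this
  · intro a _ ha
    have := inv_mem ha
    have h2 : c * a⁻¹ * c⁻¹ = (c * a * c⁻¹)⁻¹ := by group
    rw [h2]; exact this
  · intro d hd e he
    refine subset_closure ⟨c * d, mul_mem hc hd, e, he, ?_⟩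
    group

theorem S_nor' (i : I) {c : G} (hc : c ∈ normalizer (R i : Set G)) {n : G}
    (hn : n ∈ Qs V R Q i) : c⁻¹ * n * c ∈ Qs V R Q i := by
  simpa using h.S_nor i (inv_mem hc) hn

theorem S_le (i : I) : Qs V R Q i ≤ Q i := by
  unfold Qs
  rw [closure_le]
  rintro x ⟨c, hc, e, he, rfl⟩
  exact h.nor i c hc e he.2

theorem E_le (i : I) : V ⊓ Q i ≤ Qs V R Q i := by
  have _ := h
  intro e he
  exact subset_closure ⟨1, one_mem _, e, he, by group⟩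

theorem S_cen (i : I) (y : G) (hy : ∀ c ∈ normalizer (R i : Set G), ∀ e ∈ V ⊓ Q i,
    (c * e * c⁻¹) * y = y * (c * e * c⁻¹)) : y ∈ centralizer (Qs V R Q i : Set G) := by
  have _ := h
  rw [mem_centralizer_iff]
  intro n hn
  refine Qs_induction (p := fun n => n * y = y * n) ?_ ?_ ?_ ?_ hn
  · simp
  · intro a b _ _ ha hb
    rw [mul_assoc, hb, ← mul_assoc, ha, mul_assoc]
  · intro a _ ha
    calc a⁻¹ * y = a⁻¹ * (y * a) * a⁻¹ := by group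
      _ = a⁻¹ * (a * y) * a⁻¹ := by rw [ha]
      _ = y * a⁻¹ := by group
  · exact hy

theorem SQ (i : I) {n : G} (hn : n ∈ Qs V R Q i) : ∀ y ∈ Q i, n⁻¹ * y⁻¹ * n * y ∈ R i := by
  refine Qs_induction (p := fun n => ∀ y ∈ Q i, n⁻¹ * y⁻¹ * n * y ∈ R i) ?_ ?_ ?_ ?_ hn
  · intro y _; simp
  · intro a b ha hb hpa hpb y hy
    have h1 := hpa y hy
    have h2 := hpb y hy
    have h3 := h.RQ i _ h1 b (h.S_le i hb)
    have h4 : (a * b)⁻¹ * y⁻¹ * (a * b) * y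
        = b⁻¹ * ((a⁻¹ * y⁻¹ * a * y) * (y⁻¹ * b * y)) := by group
    have h5 : y⁻¹ * b * y ∈ Q i := by
      exact h.nor' (h.Q_NR i hy) (h.S_le i hb)
    rw [h4, h.RQ i _ h1 _ h5]
    have h6 : b⁻¹ * (y⁻¹ * b * y * (a⁻¹ * y⁻¹ * a * y))
        = (b⁻¹ * y⁻¹ * b * y) * (a⁻¹ * y⁻¹ * a * y) := by group
    rw [h6]
    exact mul_mem h2 h1
  · intro a ha hpa y hy
    have h1 := hpa y hy
    have h3 := h.RQ i _ (inv_mem h1) a (h.S_le i ha)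
    have h4 : a⁻¹⁻¹ * y⁻¹ * a⁻¹ * y = a * (y⁻¹ * a⁻¹ * y * a) * a⁻¹ := by group
    have h5 : y⁻¹ * a⁻¹ * y * a = (a⁻¹ * y⁻¹ * a * y)⁻¹ := by group
    rw [h4, h5]
    have : a * (a⁻¹ * y⁻¹ * a * y)⁻¹ * a⁻¹ = (a⁻¹ * y⁻¹ * a * y)⁻¹ := by
      rw [← h3]; group
    rw [this]
    exact inv_mem h1
  · intro c hc e he y hy
    have h1 : c⁻¹ * y * c ∈ Q i := h.nor' hc hy
    have h2 := h.EQ i e he _ h1
    have h3 := h.R_conj hc h2
    have h4 : (c * e * c⁻¹)⁻¹ * y⁻¹ * (c * e * c⁻¹) * y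
        = c * (e⁻¹ * (c⁻¹ * y * c)⁻¹ * e * (c⁻¹ * y * c)) * c⁻¹ := by group
    rw [h4]; exact h3

theorem S_sq (i : I) {n : G} (hn : n ∈ Qs V R Q i) : n * n ∈ R i := by
  refine Qs_induction (p := fun n => n * n ∈ R i) ?_ ?_ ?_ ?_ hn
  · simp
  · intro a b ha hb hpa hpb
    have h1 := h.SQ i hb _ (inv_mem (h.S_le i ha))
    -- b⁻¹ a b a⁻¹ ∈ R
    have h2 : a * b * (a * b) = a * a * (b * b) * ((b⁻¹ * a⁻¹⁻¹ * b * a⁻¹) * 1)
        → a * b * (a * b) ∈ R i := by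
      intro h3
      rw [h3]
      exact mul_mem (mul_mem hpa hpb) (mul_mem h1 (one_mem _))
    -- direct
    have h3 : a * b * (a * b) = a * (b * (a * b * a⁻¹)) * a := by group
    have h4 : b⁻¹ * (b⁻¹ * a⁻¹⁻¹ * b * a⁻¹)⁻¹ * b ∈ R i := by
      have := h.RQ i _ (inv_mem h1) b (h.S_le i hb)
      have h5 : b⁻¹ * (b⁻¹ * a⁻¹⁻¹ * b * a⁻¹)⁻¹ * b = (b⁻¹ * a⁻¹⁻¹ * b * a⁻¹)⁻¹ := by
        rw [mul_assoc, this]; group
      rw [h5]; exact inv_mem h1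
    have h6 := h.RQ i _ h1 a (h.S_le i ha)
    have h7 : a * b * (a * b) = a * (b * b) * ((b⁻¹ * a⁻¹⁻¹ * b * a⁻¹) * a) := by group
    rw [h7, h6]
    have h8 := h.RQ i _ hpb a (h.S_le i ha)
    have h9 : a * (b * b) * (a * (b⁻¹ * a⁻¹⁻¹ * b * a⁻¹))
        = (a * (b * b)) * a * (b⁻¹ * a⁻¹⁻¹ * b * a⁻¹) := by group
    rw [h9, ← h8, mul_assoc (b * b) a a]
    exact mul_mem (mul_mem hpb hpa) h1
  · intro a _ ha
    have := inv_mem ha
    rwa [mul_inv_rev] at this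
  · intro c hc e he
    have h1 : c * e * c⁻¹ * (c * e * c⁻¹) = c * (e * e) * c⁻¹ := by group
    rw [h1, h.V_sq e he.1]
    simp

end Beta

end Cfsg.Agent.Omega.NO1.Beta
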