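import Cfsg.Agent.Omega.NO1.Beta.Herm
import Cfsg.Agent.GTwoFour.Tools

/-!
# THEOREM BETA, part E: step (1)

`Co.cover`: a 2-subgroup `X ≤ M ∩ N(R₀)`, `X ≰ C(V)`, normalised by the elements acting as `U₀` and as a set of
diagonal elements irreducible on `U₀`, induces exactly `U₀`.
-/

set_option autoImplicit false
set_option linter.unusedVariables false
set_option linter.unusedSectionVars false

open Subgroup
open scoped Pointwise

namespace Cfsg.Agent.Omega.NO1.Beta.Inst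

namespace Co

variable {G : Type*} [Group G] {K : Type*} [Field K] {σ : K ≃+* K} {M V : Subgroup G}
variable [CharP K 2] (d : Co K σ M V)

theorem pow_two_pow_eq_one {c : K} {n : ℕ} (h : c ^ 2 ^ n = 1) : c = 1 := by
  have h1 : (c - 1) ^ 2 ^ n = 0 := by
    rw [sub_pow_char_pow, h, one_pow, sub_self]
  exact sub_eq_zero.mp (pow_eq_zero_iff (pow_ne_zero n two_ne_zero) |>.mp h1)

theorem Act.pow {d : Co K σ M V} {g : G} {A : Matrix.SpecialLinearGroup (Fin 2) K} (h : d.Act g A.1) (hM : g ∈ M)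
    (n : ℕ) : d.Act (g ^ n) (A ^ n).1 := by
  induction n with
  | zero => rw [pow_zero, pow_zero]; exact act_one
  | succ n ih => rw [pow_succ, pow_succ]; exact ih.mulS h hM

theorem upper_pow (A : Matrix.SpecialLinearGroup (Fin 2) K) (h : A.1 1 0 = 0) (n : ℕ) :
    (A ^ n).1 1 0 = 0 ∧ (A ^ n).1 0 0 = (A.1 0 0) ^ n := by
  induction n with
  | zero => simp
  | succ n ih =>
    rw [pow_succ, Matrix.SpecialLinearGroup.coe_mul]
    simp only [Matrix.mul_apply, Fin.sum_univ_two]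
    rw [h, ih.1, ih.2]
    simp [pow_succ]

/-- a 2-element acting as an element of `SL₂(K)` and fixing `R0` acts as an element of `U₀` -/
theorem upper {g : G} (hg : g ∈ M) {A : Matrix.SpecialLinearGroup (Fin 2) K} (hA : d.Act g A.1)
    (hR : cj g d.R0 = d.R0) {n : ℕ} (hn : g ^ 2 ^ n = 1) : ∃ a, A = u a := by
  obtain ⟨v, hv, h1, h2, h3⟩ := d.exists_v 1 0 0 (map_one σ) (map_zero σ)
  have h4 : v ∈ d.R0 := ⟨hv, h2, h3⟩
  have h5 : g * v * g⁻¹ ∈ d.R0 := by rw [← hR]; exact conj_mem_cj h4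
  have h6 := hA.Z hv
  rw [h5.2.2, h1, h2, h3] at h6
  simp only [map_zero, mul_zero, mul_one, add_zero, zero_mul] at h6
  have e1 : A.1 1 0 = 0 := by
    rcases mul_eq_zero.mp h6.symm with h | h
    · exact h
    · exact (map_eq_zero σ).mp h
  have h7 := hA.pow hg (2 ^ n)
  rw [hn] at h7
  have h8 : A ^ 2 ^ n = 1 := d.act_faithful h7 act_one M.one_mem
  have h9 := (upper_pow A e1 (2 ^ n)).2
  rw [h8] at h9
  have e2 : A.1 0 0 = 1 := pow_two_pow_eq_one (n := n) (by rw [← h9]; simp)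
  have hdet := A.2
  rw [Matrix.det_fin_two, e1, mul_zero, sub_zero, e2, one_mul] at hdet
  refine ⟨A.1 0 1, ?_⟩
  apply Subtype.ext
  ext i j
  fin_cases i <;> fin_cases j
  · simpa [u] using e2
  · simp [u]
  · simpa [u] using e1
  · simpa [u] using hdet

/-- `g` commutes with `U₀` modulo `C(V)` -/
def Cen (g : G) : Prop := ∀ a : K, ∀ k ∈ M, d.Act k (u a).1 → d.Act (g * k * g⁻¹) (u a).1

variable {d}

theorem Cen.R0_mem {g : G} (h : d.Cen g) (hg : g ∈ M) {v : G} (hv : v ∈ d.R0) : g * v * g⁻¹ ∈ d.R0 := by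
  apply d.mem_R0_of_fix (d.conj_mem' hg hv.1)
  intro a ha k hk hka
  have h1 := h a k hk hka
  have hM : g * k * g⁻¹ ∈ M := M.mul_mem (M.mul_mem hg hk) (M.inv_mem hg)
  rw [hka.eq h1 hk hM (d.conj_mem' hg hv.1)]
  have h2 := d.fix_of_mem_R0 hv hk hka
  calc g * k * g⁻¹ * (g * v * g⁻¹) * (g * k * g⁻¹)⁻¹ = g * (k * v * k⁻¹) * g⁻¹ := by group
    _ = g * v * g⁻¹ := by rw [h2]

theorem Cen.R0_eq [Finite G] {g : G} (h : d.Cen g) (hg : g ∈ M) : cj g d.R0 = d.R0 := by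
  refine Subgroup.eq_of_le_of_card_ge ?_ (by rw [card_cj])
  intro v hv
  rw [mem_cj] at hv
  have := h.R0_mem hg hv
  have e : g * (g⁻¹ * v * g) * g⁻¹ = v := by group
  rwa [e] at this

theorem u_R0 [Finite G] {k : G} {κ : K} (hk : k ∈ M) (hka : d.Act k (u κ).1) : cj k d.R0 = d.R0 := by
  refine Subgroup.eq_of_le_of_card_ge ?_ (by rw [card_cj])
  intro v hv
  rw [mem_cj] at hv
  have := d.fix_of_mem_R0 hv hk hka
  have e : k * (k⁻¹ * v * k) * k⁻¹ = v := by group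
  rw [e] at this
  rw [this]; exact hv

theorem Cen.mul {g g' : G} (h : d.Cen g) (h' : d.Cen g') (hg' : g' ∈ M) : d.Cen (g * g') := by
  intro a k hk hka
  have h1 := h' a k hk hka
  have h2 := h a _ (M.mul_mem (M.mul_mem hg' hk) (M.inv_mem hg')) h1
  have e : g * g' * k * (g * g')⁻¹ = g * (g' * k * g'⁻¹) * g⁻¹ := by group
  rw [e]; exact h2

theorem cen_u {k : G} {κ : K} (hk : k ∈ M) (hka : d.Act k (u κ).1) : d.Cen k⁻¹ := by
  intro a j hj hja
  have h1 := ((hka.inv hk).mulS hja hj).mulS hka hk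
  have e : k⁻¹ * j * k⁻¹⁻¹ = k⁻¹ * j * k := by group
  rw [e]
  have e2 : (u κ)⁻¹ * u a * u κ = (u a : Matrix.SpecialLinearGroup (Fin 2) K) := by
    rw [u_inv, u_mul, u_mul]
    congr 1
    have := CharTwo.add_self_eq_zero κ
    linear_combination this
  rwa [e2] at h1

/-- the vector `(b σ b, b, 0) · z`, as a commutator -/
theorem exists_wb (v : G) (hv : v ∈ d.Roo) {b : K} {k : G} (hk : k ∈ M) (hka : d.Act k (u b).1) :
    v * (k * v * k⁻¹) ∈ V ∧ d.X (v * (k * v * k⁻¹)) = b * σ b * d.Z v ∧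
      d.Y (v * (k * v * k⁻¹)) = b * d.Z v ∧ d.Z (v * (k * v * k⁻¹)) = 0 := by
  have h1 := d.conj_mem' hk hv.1
  refine ⟨V.mul_mem hv.1 h1, ?_, ?_, ?_⟩
  · rw [d.X_mul hv.1 h1, d.u_X hka hv.1, hv.2.1, hv.2.2]
    simp
  · rw [d.Y_mul hv.1 h1, d.u_Y hka hv.1, hv.2.2]
    simp
  · rw [d.Z_mul hv.1 h1, d.u_Z hka hv.1, CharTwo.add_self_eq_zero]

/-- the image under an element commuting with `U₀` -/
theorem Cen.conj_wb {g : G} (h : d.Cen g) (hg : g ∈ M) {v : G} (hv : v ∈ V) {b : K} {k : G} (hk : k ∈ M)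
    (hka : d.Act k (u b).1) :
    g * (v * (k * v * k⁻¹)) * g⁻¹ = (g * v * g⁻¹) * (k * (g * v * g⁻¹) * k⁻¹) := by
  have h1 := h b k hk hka
  have hM : g * k * g⁻¹ ∈ M := M.mul_mem (M.mul_mem hg hk) (M.inv_mem hg)
  have h2 := hka.eq h1 hk hM (d.conj_mem' hg hv)
  rw [h2]
  group

/-- **an element which commutes with `U₀` and fixes `Roo` acts as a scalar** -/
theorem Cen.scalar [Finite G] {g : G} (h : d.Cen g) (hg : g ∈ M) (hoo : cj g d.Roo = d.Roo) :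
    ∃ c : K, (∀ v ∈ V, d.Z (g * v * g⁻¹) = c * d.Z v) ∧ (c = 1 → ∀ v ∈ V, g * v * g⁻¹ = v) := by
  obtain ⟨v1, hv1, x1, y1, z1⟩ := d.exists_v 0 0 1 (map_zero σ) (map_one σ)
  have hv1' : v1 ∈ d.Roo := ⟨hv1, x1, y1⟩
  have hoo' : ∀ v ∈ d.Roo, g * v * g⁻¹ ∈ d.Roo := fun v hv => by
    rw [← hoo]; exact conj_mem_cj hv
  set c := d.Z (g * v1 * g⁻¹) with hc
  have conjmul : ∀ a b : G, g * (a * b) * g⁻¹ = (g * a * g⁻¹) * (g * b * g⁻¹) := fun a b => by group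
  -- the vectors `w b`
  have hw : ∀ b : K, ∃ w ∈ V, d.X w = b * σ b ∧ d.Y w = b ∧ d.Z w = 0 ∧
      d.X (g * w * g⁻¹) = b * σ b * c ∧ d.Y (g * w * g⁻¹) = b * c ∧ d.Z (g * w * g⁻¹) = 0 := by
    intro b
    obtain ⟨k, hk, hka⟩ := d.exists_act (u b)
    obtain ⟨w1, w2, w3, w4⟩ := exists_wb v1 hv1' hk hka
    obtain ⟨w1', w2', w3', w4'⟩ := exists_wb _ (hoo' v1 hv1') hk hka
    refine ⟨_, w1, ?_, ?_, w4, ?_, ?_, ?_⟩
    · rw [w2, z1, mul_one]
    · rw [w3, z1, mul_one]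
    · rw [h.conj_wb hg hv1 hk hka, w2']
    · rw [h.conj_wb hg hv1 hk hka, w3']
    · rw [h.conj_wb hg hv1 hk hka, w4']
  -- (A)
  have hA : ∀ v ∈ V, d.Z v = 0 → d.Y (g * v * g⁻¹) = c * d.Y v ∧ d.Z (g * v * g⁻¹) = 0 := by
    intro v hv hz
    obtain ⟨w, hwV, wx, wy, wz, wx', wy', wz'⟩ := hw (d.Y v)
    have hr : w⁻¹ * v ∈ d.R0 := by
      refine ⟨V.mul_mem (V.inv_mem hwV) hv, ?_, ?_⟩
      · rw [d.inv_eq hwV, d.Y_mul hwV hv, wy, CharTwo.add_self_eq_zero]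
      · rw [d.inv_eq hwV, d.Z_mul hwV hv, wz, hz, add_zero]
    have hr' := h.R0_mem hg hr
    have e1 : v = w * (w⁻¹ * v) := by group
    have hgw := d.conj_mem' hg hwV
    constructor
    · rw [e1, conjmul, d.Y_mul hgw hr'.1, wy', hr'.2.1, add_zero, ← e1, mul_comm]
    · rw [e1, conjmul, d.Z_mul hgw hr'.1, wz', hr'.2.2, add_zero]
  -- (B)
  have hB : ∀ v ∈ d.Roo, d.Z (g * v * g⁻¹) = c * d.Z v := by
    intro v hv
    obtain ⟨k, hk, hka⟩ := d.exists_act (u 1)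
    obtain ⟨w1, w2, w3, w4⟩ := exists_wb v hv hk hka
    obtain ⟨w1', w2', w3', w4'⟩ := exists_wb _ (hoo' v hv) hk hka
    have h1 := (hA _ w1 w4).1
    rw [h.conj_wb hg hv.1 hk hka, w3', w3, one_mul, one_mul] at h1
    exact h1
  -- (C)
  have hC : ∀ v ∈ V, d.Z (g * v * g⁻¹) = c * d.Z v := by
    intro v hv
    obtain ⟨v', hv', x', y', z'⟩ := d.exists_v 0 0 (d.Z v) (map_zero σ) (d.sZ hv)
    have hv'' : v' ∈ d.Roo := ⟨hv', x', y'⟩
    have he : v'⁻¹ * v ∈ V := V.mul_mem (V.inv_mem hv') hv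
    have he2 : d.Z (v'⁻¹ * v) = 0 := by
      rw [d.inv_eq hv', d.Z_mul hv' hv, z', CharTwo.add_self_eq_zero]
    have e1 : v = v' * (v'⁻¹ * v) := by group
    have h1 := (hA _ he he2).2
    have h2 := hB v' hv''
    rw [e1, conjmul, d.Z_mul (d.conj_mem' hg hv') (d.conj_mem' hg he), h1, h2, add_zero, ← e1, z']
  refine ⟨c, hC, ?_⟩
  intro hc1
  rw [hc1] at hA hB hC hw
  -- (D)
  have hD : ∀ v ∈ d.R0, g * v * g⁻¹ = v := by
    intro v hv
    obtain ⟨y, hy⟩ := d.exists_tr (d.X v) (d.sX hv.1) 1 one_ne_zero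
    rw [one_mul, map_one, mul_one] at hy
    obtain ⟨e, he, ex, ey, ez⟩ := d.exists_v 0 y 0 (map_zero σ) (map_zero σ)
    obtain ⟨k, hk, hka⟩ := d.exists_act (u 1)
    have hke := d.conj_mem' hk he
    have e1 : e * (k * e * k⁻¹) = v := by
      apply d.ext (V.mul_mem he hke) hv.1
      · rw [d.X_mul he hke, d.u_X hka he, ex, ey, ez, ← hy]
        simp
      · rw [d.Y_mul he hke, d.u_Y hka he, ey, ez, hv.2.1, mul_zero, add_zero, CharTwo.add_self_eq_zero]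
      · rw [d.Z_mul he hke, d.u_Z hka he, ez, hv.2.2, add_zero]
    rw [← e1, h.conj_wb hg he hk hka]
    have hge := d.conj_mem' hg he
    have hkge := d.conj_mem' hk hge
    have f := hA e he ez
    rw [one_mul] at f
    apply d.ext (V.mul_mem hge hkge) (V.mul_mem he hke)
    · rw [d.X_mul hge hkge, d.X_mul he hke, d.u_X hka he, d.u_X hka hge, f.1, f.2, ez, ex]
      simp only [one_mul, map_one, mul_one, mul_zero, add_zero, zero_add]
      have := CharTwo.add_self_eq_zero (d.X (g * e * g⁻¹))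
      linear_combination this
    · rw [d.Y_mul hge hkge, d.Y_mul he hke, d.u_Y hka he, d.u_Y hka hge, f.1, f.2, ez]
    · rw [d.Z_mul hge hkge, d.Z_mul he hke, d.u_Z hka he, d.u_Z hka hge, f.2, ez]
  intro v hv
  obtain ⟨v', hv', x', y', z'⟩ := d.exists_v 0 0 (d.Z v) (map_zero σ) (d.sZ hv)
  have hv'' : v' ∈ d.Roo := ⟨hv', x', y'⟩
  have g1 : g * v' * g⁻¹ = v' := by
    have h1 := hoo' v' hv''
    apply d.ext h1.1 hv'
    · rw [h1.2.1, x']
    · rw [h1.2.2, y']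
    · rw [hB v' hv'', one_mul]
  have he : v'⁻¹ * v ∈ V := V.mul_mem (V.inv_mem hv') hv
  have he2 : d.Z (v'⁻¹ * v) = 0 := by
    rw [d.inv_eq hv', d.Z_mul hv' hv, z', CharTwo.add_self_eq_zero]
  obtain ⟨w, hwV, wx, wy, wz, wx', wy', wz'⟩ := hw (d.Y (v'⁻¹ * v))
  have g2 : g * w * g⁻¹ = w := by
    apply d.ext (d.conj_mem' hg hwV) hwV
    · rw [wx', wx, mul_one]
    · rw [wy', wy, mul_one]
    · rw [wz', wz]
  have hr : w⁻¹ * (v'⁻¹ * v) ∈ d.R0 := by
    refine ⟨V.mul_mem (V.inv_mem hwV) he, ?_, ?_⟩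
    · rw [d.inv_eq hwV, d.Y_mul hwV he, wy, CharTwo.add_self_eq_zero]
    · rw [d.inv_eq hwV, d.Z_mul hwV he, wz, he2, add_zero]
  have g3 := hD _ hr
  calc g * v * g⁻¹ = (g * v' * g⁻¹) * (g * w * g⁻¹) * (g * (w⁻¹ * (v'⁻¹ * v)) * g⁻¹) := by group
    _ = v' * w * (w⁻¹ * (v'⁻¹ * v)) := by rw [g1, g2, g3]
    _ = v := by group

theorem Roo_eq [Finite G] (d : Co K σ M V) : ∃ m ∈ M, cj m d.R0 = d.Roo := by
  obtain ⟨m, hm, hma⟩ := d.exists_act w
  exact ⟨m, hm, d.w_R0 hm hma⟩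

/-- **a 2-element commuting with `U₀` acts as an element of `U₀`** -/
theorem Cen.act [Finite G] {g : G} (h : d.Cen g) (hg : g ∈ M) {n : ℕ} (hn : g ^ 2 ^ n = 1) :
    ∃ κ, d.Act g (u κ).1 := by
  obtain ⟨m, hm, hmR⟩ := Roo_eq d
  have hne : cj (g * m) d.R0 ≠ d.R0 := by
    rw [cj_mul, hmR]
    intro h0
    have h1 : cj g d.Roo = cj g d.R0 := by rw [h0, h.R0_eq hg]
    have h2 := congrArg (cj g⁻¹) h1
    rw [cj_inv_cj, cj_inv_cj] at h2
    exact d.R0_ne_Roo h2.symm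
  obtain ⟨κ, hκ⟩ := d.two_trans (M.mul_mem hg hm) hne
  obtain ⟨k, hk, hka⟩ := d.exists_act (u κ)
  have h1 := hκ k hk hka
  rw [cj_mul, hmR] at h1
  have hg1 : k⁻¹ * g ∈ M := M.mul_mem (M.inv_mem hk) hg
  have h2 : cj (k⁻¹ * g) d.Roo = d.Roo := by
    rw [cj_mul, h1, cj_inv_cj]
  have h3 : d.Cen (k⁻¹ * g) := (cen_u hk hka).mul h hg
  obtain ⟨c, hc, hc1⟩ := h3.scalar hg1 h2
  -- `Z (g v g⁻¹) = c Z v`
  have h4 : ∀ v ∈ V, d.Z (g * v * g⁻¹) = c * d.Z v := by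
    intro v hv
    have e : g * v * g⁻¹ = k * (k⁻¹ * g * v * (k⁻¹ * g)⁻¹) * k⁻¹ := by group
    rw [e, d.u_Z hka (d.conj_mem' hg1 hv), hc v hv]
  have h5 : ∀ n : ℕ, ∀ v ∈ V, d.Z (g ^ n * v * (g ^ n)⁻¹) = c ^ n * d.Z v := by
    intro n
    induction n with
    | zero => intro v hv; simp
    | succ n ih =>
      intro v hv
      have e : g ^ (n + 1) * v * (g ^ (n + 1))⁻¹ = g ^ n * (g * v * g⁻¹) * (g ^ n)⁻¹ := by
        rw [pow_succ]; group
      rw [e, ih _ (d.conj_mem' hg hv), h4 v hv, pow_succ, mul_assoc]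
  obtain ⟨v1, hv1, x1, y1, z1⟩ := d.exists_v 0 0 1 (map_zero σ) (map_one σ)
  have h6 := h5 (2 ^ n) v1 hv1
  rw [hn, z1, mul_one] at h6
  simp only [one_mul, inv_one, mul_one] at h6
  rw [z1] at h6
  have h7 := hc1 (pow_two_pow_eq_one (n := n) h6.symm)
  refine ⟨κ, hka.congr fun v hv => ?_⟩
  have h8 := h7 v hv
  calc g * v * g⁻¹ = k * (k⁻¹ * g * v * (k⁻¹ * g)⁻¹) * k⁻¹ := by group
    _ = k * v * k⁻¹ := by rw [h8]

/-- the diagonal elements `h t`, `t ∈ T`, are irreducible on `U₀` -/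
def Irr (T : Set K) : Prop :=
  ∀ B : AddSubgroup K, (∀ t ∈ T, ∀ b ∈ B, t * t * b ∈ B) → B ≠ ⊥ → B = ⊤

theorem h_u {t : K} (ht : t ≠ 0) (a : K) :
    h t ht * u a * (h t ht)⁻¹ = (u (t * t * a) : Matrix.SpecialLinearGroup (Fin 2) K) := by
  rw [mul_inv_eq_iff_eq_mul]
  apply Subtype.ext
  simp only [Matrix.SpecialLinearGroup.coe_mul]
  ext i j
  fin_cases i <;> fin_cases j
  · simp [u, h, Matrix.mul_apply, Fin.sum_univ_two]
  · simp [u, h, Matrix.mul_apply, Fin.sum_univ_two]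
    field_simp
  · simp [u, h, Matrix.mul_apply, Fin.sum_univ_two]
  · simp [u, h, Matrix.mul_apply, Fin.sum_univ_two]

/-- **step (1)** -/
theorem cover [Finite G] {X : Subgroup G} (hX2 : IsPGroup 2 X) (hXM : X ≤ M)
    (hXR : ∀ y ∈ X, cj y d.R0 = d.R0) (hne : ¬ X ≤ centralizer (V : Set G))
    {T : Set K} (hT : Irr T) (hT0 : ∀ t ∈ T, t ≠ 0)
    (hU : ∀ g ∈ M, ∀ a, d.Act g (u a).1 → g ∈ normalizer (X : Set G))
    (hTn : ∀ t (ht : t ≠ 0), t ∈ T → ∀ g ∈ M, d.Act g (h t ht).1 → g ∈ normalizer (X : Set G)) :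
    (∀ y ∈ X, ∃ a, d.Act y (u a).1) ∧ ∀ a, ∃ y ∈ X, d.Act y (u a).1 := by
  have hpow : ∀ y ∈ X, ∃ n : ℕ, y ^ 2 ^ n = 1 := by
    intro y hy
    obtain ⟨n, hn⟩ := hX2 ⟨y, hy⟩
    exact ⟨n, by simpa using congrArg Subtype.val hn⟩
  have hgX : ∀ {g : G}, g ∈ normalizer (X : Set G) → ∀ y ∈ X, g * y * g⁻¹ ∈ X := fun hg y hy =>
    (mem_normalizer_iff.mp hg y).mp hy
  have hgX' : ∀ {g : G}, g ∈ normalizer (X : Set G) → ∀ y ∈ X, g⁻¹ * y * g ∈ X := fun hg y hy => by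
    have := hgX (inv_mem hg) y hy
    rwa [inv_inv] at this
  let B : AddSubgroup K :=
    { carrier := {a | ∃ y ∈ X, d.Act y (u a).1}
      zero_mem' := ⟨1, X.one_mem, by rw [u_zero]; exact act_one⟩
      add_mem' := by
        rintro a b ⟨y, hy, hya⟩ ⟨y', hy', hyb⟩
        exact ⟨y * y', X.mul_mem hy hy', by rw [← u_mul]; exact hya.mulS hyb (hXM hy')⟩
      neg_mem' := by
        rintro a ⟨y, hy, hya⟩
        exact ⟨y, hy, by rw [CharTwo.neg_eq]; exact hya⟩ }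
  have memB : ∀ {a : K}, a ∈ B ↔ ∃ y ∈ X, d.Act y (u a).1 := Iff.rfl
  have hBT : ∀ t ∈ T, ∀ b ∈ B, t * t * b ∈ B := by
    intro t ht b hb
    obtain ⟨y, hy, hya⟩ := memB.mp hb
    obtain ⟨g, hg, hga⟩ := d.exists_act (h t (hT0 t ht))
    refine memB.mpr ⟨g * y * g⁻¹, hgX (hTn t (hT0 t ht) ht g hg hga) y hy, ?_⟩
    have h1 := (hga.mulS hya (hXM hy)).mulS (hga.inv hg) (M.inv_mem hg)
    rwa [h_u] at h1
  -- conjugates of `U₀`-elements
  have hup : ∀ y ∈ X, ∀ a, ∀ k ∈ M, d.Act k (u a).1 → ∃ a', a' - a ∈ B ∧ d.Act (y * k * y⁻¹) (u a').1 := by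
    intro y hy a k hk hka
    obtain ⟨A, hA⟩ := d.conj_act (hXM hy) hk hka
    have h1 : y * k * y⁻¹ * k⁻¹ ∈ X := by
      have h2 := X.mul_mem hy (hgX (hU k hk a hka) _ (X.inv_mem hy))
      have e : y * (k * y⁻¹ * k⁻¹) = y * k * y⁻¹ * k⁻¹ := by group
      rwa [e] at h2
    have h3 : d.Act (y * k * y⁻¹ * k⁻¹) (A * u a).1 := by
      have := hA.mulS (hka.inv hk) (M.inv_mem hk)
      rwa [u_inv] at this
    obtain ⟨n, hn⟩ := hpow _ h1
    obtain ⟨b, hb⟩ := d.upper (hXM h1) h3 (hXR _ h1) hn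
    have h4 : A = u (b + a) := by
      have h5 : A * u a * u a = u b * u a := by rw [hb]
      rw [mul_assoc, u_mul, u_mul, CharTwo.add_self_eq_zero, u_zero, mul_one] at h5
      exact h5
    refine ⟨b + a, ?_, by rw [← h4]; exact hA⟩
    rw [add_sub_cancel_right]
    exact memB.mpr ⟨_, h1, by rw [← hb]; exact h3⟩
  have hcase : ∀ y ∈ X, d.Cen y → ∃ a, d.Act y (u a).1 := by
    intro y hy hc
    obtain ⟨n, hn⟩ := hpow y hy
    exact hc.act (hXM hy) hn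
  by_cases hB : B = ⊥
  · exfalso
    apply hne
    intro y hy
    have hc : d.Cen y := by
      intro a k hk hka
      obtain ⟨a', ha', hact⟩ := hup y hy a k hk hka
      rw [hB, AddSubgroup.mem_bot, sub_eq_zero] at ha'
      rw [ha'] at hact
      exact hact
    obtain ⟨κ, hκ⟩ := hcase y hy hc
    have h1 : κ ∈ B := memB.mpr ⟨y, hy, hκ⟩
    rw [hB, AddSubgroup.mem_bot] at h1
    rw [h1, u_zero] at hκ
    exact (act_one_iff (hXM hy)).mp hκ
  · have hBtop := hT B hBT hB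
    have hsecond : ∀ a, ∃ y ∈ X, d.Act y (u a).1 := by
      intro a
      apply memB.mp
      rw [hBtop]
      exact AddSubgroup.mem_top a
    refine ⟨?_, hsecond⟩
    let B2 : AddSubgroup K :=
      { carrier := {a | ∀ y ∈ X, ∀ k ∈ M, d.Act k (u a).1 → d.Act (y * k * y⁻¹) (u a).1}
        zero_mem' := by
          intro y hy k hk hka
          rw [u_zero] at hka ⊢
          have h1 := d.cen_conj (hXM hy) ((act_one_iff hk).mp hka)
          exact (act_one_iff (M.mul_mem (M.mul_mem (hXM hy) hk) (M.inv_mem (hXM hy)))).mpr h1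
        add_mem' := by
          intro a b ha hb y hy k hk hka
          obtain ⟨k1, hk1, hk1a⟩ := d.exists_act (u a)
          obtain ⟨k2, hk2, hk2a⟩ := d.exists_act (u b)
          have h1 : d.Act (k1 * k2) (u (a + b)).1 := by rw [← u_mul]; exact hk1a.mulS hk2a hk2
          have h2 := (ha y hy k1 hk1 hk1a).mulS (hb y hy k2 hk2 hk2a)
            (M.mul_mem (M.mul_mem (hXM hy) hk2) (M.inv_mem (hXM hy)))
          rw [u_mul] at h2
          have e : y * k1 * y⁻¹ * (y * k2 * y⁻¹) = y * (k1 * k2) * y⁻¹ := by group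
          rw [e] at h2
          exact h2.congr fun v hv => d.conj_congr (hXM hy)
            (fun v hv => hka.eq h1 hk (M.mul_mem hk1 hk2) hv) hv
        neg_mem' := by
          intro a ha
          rw [Set.mem_ofPred_eq, CharTwo.neg_eq]
          exact ha }
    have memB2 : ∀ {a : K}, a ∈ B2 ↔ ∀ y ∈ X, ∀ k ∈ M, d.Act k (u a).1 → d.Act (y * k * y⁻¹) (u a).1 :=
      Iff.rfl
    have hB2T : ∀ t ∈ T, ∀ b ∈ B2, t * t * b ∈ B2 := by
      intro t ht b hb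
      rw [memB2] at hb ⊢
      intro y hy k hk hka
      obtain ⟨g, hg, hga⟩ := d.exists_act (h t (hT0 t ht))
      have hgi := M.inv_mem hg
      have h1 : d.Act (g⁻¹ * k * g) (u b).1 := by
        have h2 := ((hga.inv hg).mulS hka hk).mulS hga hg
        rw [← h_u (hT0 t ht)] at h2
        have e : (h t (hT0 t ht))⁻¹ * (h t (hT0 t ht) * u b * (h t (hT0 t ht))⁻¹) * h t (hT0 t ht) =
          (u b : Matrix.SpecialLinearGroup (Fin 2) K) := by group
        rwa [e] at h2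
      have hk' : g⁻¹ * k * g ∈ M := M.mul_mem (M.mul_mem hgi hk) hg
      have hy' := hgX' (hTn t (hT0 t ht) ht g hg hga) y hy
      have h3 := hb _ hy' _ hk' h1
      have hM3 : g⁻¹ * y * g * (g⁻¹ * k * g) * (g⁻¹ * y * g)⁻¹ ∈ M :=
        M.mul_mem (M.mul_mem (hXM hy') hk') (M.inv_mem (hXM hy'))
      have h4 := (hga.mulS h3 hM3).mulS (hga.inv hg) hgi
      rw [h_u] at h4
      have e : g * (g⁻¹ * y * g * (g⁻¹ * k * g) * (g⁻¹ * y * g)⁻¹) * g⁻¹ = y * k * y⁻¹ := by group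
      rwa [e] at h4
    have hB2 : B2 ≠ ⊥ := by
      let X1 : Subgroup G :=
        { carrier := {y | y ∈ X ∧ ∃ a, d.Act y (u a).1}
          one_mem' := ⟨X.one_mem, 0, by rw [u_zero]; exact act_one⟩
          mul_mem' := by
            rintro y y' ⟨hy, a, hya⟩ ⟨hy', b, hyb⟩
            exact ⟨X.mul_mem hy hy', a + b, by rw [← u_mul]; exact hya.mulS hyb (hXM hy')⟩
          inv_mem' := by
            rintro y ⟨hy, a, hya⟩
            exact ⟨X.inv_mem hy, a, by rw [← u_inv]; exact hya.inv (hXM hy)⟩ }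
      have : Fact (Nat.Prime 2) := ⟨Nat.prime_two⟩
      obtain ⟨n, hn, hnC, hnc⟩ := GTwoFour.Tools.exists_fixed_mod (Y := X) (N := X1)
        (M := X ⊓ centralizer (V : Set G)) hX2 (fun y hy => hy.1)
        (by
          rintro y hy n ⟨hn, a, hna⟩
          refine ⟨X.mul_mem (X.mul_mem hy hn) (X.inv_mem hy), ?_⟩
          obtain ⟨a', -, ha'⟩ := hup y hy a n (hXM hn) hna
          exact ⟨a', ha'⟩)
        (by
          intro y hy m hm
          exact mem_inf.mpr ⟨X.mul_mem (X.mul_mem hy hm.1) (X.inv_mem hy), d.cen_conj (hXM hy) hm.2⟩)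
        (by
          obtain ⟨y, hy, hya⟩ := hsecond 1
          refine ⟨y, ⟨hy, 1, hya⟩, fun hc => ?_⟩
          have h1 : d.Act y (1 : Matrix.SpecialLinearGroup (Fin 2) K).1 := (act_one_iff (hXM hy)).mpr hc.2
          exact one_ne_u one_ne_zero (d.act_faithful hya h1 (hXM hy)))
      obtain ⟨hnX, a, hna⟩ := hn
      intro hbot
      have ha : a ∈ B2 := by
        rw [memB2]
        intro y hy k hk hka
        have hyn : y * n * y⁻¹ ∈ M := hXM (X.mul_mem (X.mul_mem hy hnX) (X.inv_mem hy))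
        have h1 : d.Act (y * n * y⁻¹) (u a).1 := by
          have h2 := (hnc y hy).2
          rw [commutatorElement_def] at h2
          have h3 : d.Act (y * n * y⁻¹ * n⁻¹) (1 : Matrix.SpecialLinearGroup (Fin 2) K).1 :=
            (act_one_iff (M.mul_mem hyn (M.inv_mem (hXM hnX)))).mpr h2
          have h4 := h3.mulS hna (hXM hnX)
          rw [one_mul, inv_mul_cancel_right] at h4
          exact h4
        exact h1.congr fun v hv => d.conj_congr (hXM hy)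
          (fun v hv => hka.eq hna hk (hXM hnX) hv) hv
      rw [hbot, AddSubgroup.mem_bot] at ha
      rw [ha, u_zero] at hna
      exact hnC (mem_inf.mpr ⟨hnX, (act_one_iff (hXM hnX)).mp hna⟩)
    have hB2top := hT B2 hB2T hB2
    intro y hy
    apply hcase y hy
    intro a k hk hka
    have : a ∈ B2 := by rw [hB2top]; exact AddSubgroup.mem_top a
    exact memB2.mp this y hy k hk hka

end Co

end Cfsg.Agent.Omega.NO1.Beta.Inst
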