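import Cfsg.Agent.Omega.NO1.Beta.Rep

/-!
# THEOREM BETA, steps (5)-(8)

`Pre V R Q S` : what steps (2)-(4) of THEOREM BETA give (`S i = Q* i`, `D i = Q i ⊓ C(S i)`).
-/

namespace Cfsg.Agent.Omega.NO1.Beta

open Subgroup

variable {G : Type*} [Group G] {I : Type*}

/-- The input of steps (5)-(8). -/
structure Pre (V : Subgroup G) (R Q S : I → Subgroup G) : Prop where
  V_comm : ∀ a ∈ V, ∀ b ∈ V, a * b = b * a
  V_sq : ∀ a ∈ V, a * a = 1
  R_le : ∀ i, R i ≤ V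
  R_Q : ∀ i, R i ≤ Q i
  RQ : ∀ i, ∀ r ∈ R i, ∀ y ∈ Q i, r * y = y * r
  ne : ∀ i, R i ≠ ⊥
  two : ∀ i, IsPGroup 2 (Q i)
  Q_V : ∀ i, Q i ≤ normalizer (V : Set G)
  nor : ∀ i, ∀ c ∈ normalizer (R i : Set G), ∀ y ∈ Q i, c * y * c⁻¹ ∈ Q i
  max : ∀ i, ∀ N : Subgroup G, IsPGroup 2 N → N ≤ normalizer (R i : Set G) →
    (∀ c ∈ normalizer (R i : Set G), ∀ y ∈ N, c * y * c⁻¹ ∈ N) → N ≤ Q i
  char2 : ∀ i, centralizer (Q i : Set G) ≤ Q i
  EQs : ∀ i, ∀ y ∈ Q i, y ∉ centralizer (V : Set G) → ∀ r ∈ R i,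
    ∃ e ∈ V ⊓ Q i, e⁻¹ * y⁻¹ * e * y = r
  cenR : ∀ i, ∀ v ∈ V, (∀ y ∈ Q i, v * y = y * v) → v ∈ R i
  cardE : ∀ i, (centralizer (V : Set G)).relIndex (Q i) = (R i).relIndex (V ⊓ Q i)
  alt : ∀ i j, i ≠ j → ∀ b : G → G, (∀ y ∈ Q i, b y ∈ V ⊓ Q i) →
    (∀ y ∈ Q i, ∀ y' ∈ Q i, b (y * y') * (b y * b y')⁻¹ ∈ R i) →
    (∀ y ∈ Q i, b y * y = y * b y) →
    (∀ y ∈ Q i, y ∈ centralizer (V : Set G) → b y ∈ R i) →
    ∃ r ∈ R j, ∀ y ∈ Q i, b y * (y⁻¹ * r⁻¹ * y * r)⁻¹ ∈ R i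
  S_cen : ∀ i, ∀ y : G, (∀ c ∈ normalizer (R i : Set G), ∀ e ∈ V ⊓ Q i,
    (c * e * c⁻¹) * y = y * (c * e * c⁻¹)) → y ∈ centralizer (S i : Set G)
  S_nor : ∀ i, ∀ c ∈ normalizer (R i : Set G), ∀ n ∈ S i, c * n * c⁻¹ ∈ S i
  S_le : ∀ i, S i ≤ Q i
  E_le : ∀ i, V ⊓ Q i ≤ S i
  SQ : ∀ i, ∀ n ∈ S i, ∀ y ∈ Q i, n⁻¹ * y⁻¹ * n * y ∈ R i
  S_sq : ∀ i, ∀ n ∈ S i, n * n ∈ R i
  cover : ∀ i, ∀ y ∈ Q i, ∃ n ∈ S i, y⁻¹ * n ∈ centralizer (V : Set G)
  D_V : ∀ i, Q i ⊓ centralizer (S i : Set G) ≤ centralizer (V : Set G)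
  D_comm : ∀ i j, i ≠ j → ∀ a ∈ Q i ⊓ centralizer (S i : Set G),
    ∀ b ∈ Q j ⊓ centralizer (S j : Set G), a * b = b * a
  D_Q : ∀ i j, i ≠ j → ∀ d ∈ Q j ⊓ centralizer (S j : Set G), d ∈ Q i → d = 1
  D_c : ∀ i j, i ≠ j → ∀ d ∈ Q j ⊓ centralizer (S j : Set G), ∀ n ∈ S i,
    n ∈ centralizer (V : Set G) → d * n = n * d
  D_sq : ∀ i, ∀ d ∈ Q i ⊓ centralizer (S i : Set G), d * d = 1
  D_k : ∀ i j, i ≠ j → ∀ d ∈ Q j ⊓ centralizer (S j : Set G), ∀ y ∈ S i,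
    (y⁻¹ * d⁻¹ * y * d) * (y⁻¹ * d⁻¹ * y * d) = 1

namespace Pre

variable {V : Subgroup G} {R Q S : I → Subgroup G} (h : Pre V R Q S)
include h

theorem cen_iff {A : Subgroup G} {x : G} :
    x ∈ centralizer (A : Set G) ↔ ∀ a ∈ A, a * x = x * a := by
  have _ := h
  rw [mem_centralizer_iff]; rfl

theorem Q_N (i : I) : Q i ≤ normalizer (R i : Set G) := by
  intro y hy
  rw [mem_normalizer_iff]
  intro r
  constructor
  · intro hr
    have := h.RQ i r hr y hy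
    rwa [← this, mul_inv_cancel_right]
  · intro hr
    have := h.RQ i _ hr y hy
    have h2 : y * r * y⁻¹ = r := by
      have h3 : y * (y * r * y⁻¹) = y * (r) := by
        rw [← this]; group
      exact mul_left_cancel h3
    rwa [← h2]

theorem R_cS (i : I) : R i ≤ centralizer (S i : Set G) := by
  intro r hr
  rw [h.cen_iff]
  intro n hn
  exact (h.RQ i r hr n (h.S_le i hn)).symm

/-- `c⁻¹ x c` form of normality. -/
theorem nor' (i : I) {c : G} (hc : c ∈ normalizer (R i : Set G)) {y : G} (hy : y ∈ Q i) :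
    c⁻¹ * y * c ∈ Q i := by
  simpa using h.nor i c⁻¹ (inv_mem hc) y hy

theorem S_nor' (i : I) {c : G} (hc : c ∈ normalizer (R i : Set G)) {y : G} (hy : y ∈ S i) :
    c⁻¹ * y * c ∈ S i := by
  simpa using h.S_nor i c⁻¹ (inv_mem hc) y hy

/-- (5a) -/
theorem val {i : I} {y : G} (hy : y ∈ Q i) (hn : y ∉ centralizer (S i : Set G)) {r : G}
    (hr : r ∈ R i) : ∃ n ∈ S i, n⁻¹ * y⁻¹ * n * y = r := by
  by_contra hcon
  push Not at hcon
  refine hn (h.S_cen i y fun c hc e he => ?_)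
  have hy' : c⁻¹ * y * c ∈ Q i := h.nor' i hc hy
  by_cases hV : c⁻¹ * y * c ∈ centralizer (V : Set G)
  · have := (h.cen_iff.1 hV) e he.1
    have h2 : c * (e * (c⁻¹ * y * c)) * c⁻¹ = c * ((c⁻¹ * y * c) * e) * c⁻¹ := by rw [this]
    calc c * e * c⁻¹ * y = c * (e * (c⁻¹ * y * c)) * c⁻¹ := by group
      _ = _ := h2
      _ = y * (c * e * c⁻¹) := by group
  · exfalso
    have hr' : c⁻¹ * r * c ∈ R i := by
      have := (mem_normalizer_iff.1 (inv_mem hc) r).1 hr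
      simpa using this
    obtain ⟨e', he', hee⟩ := h.EQs i _ hy' hV _ hr'
    refine hcon (c * e' * c⁻¹) (h.S_nor i c hc e' (h.E_le i he')) ?_
    calc (c * e' * c⁻¹)⁻¹ * y⁻¹ * (c * e' * c⁻¹) * y
        = c * (e'⁻¹ * (c⁻¹ * y * c)⁻¹ * e' * (c⁻¹ * y * c)) * c⁻¹ := by group
      _ = c * (c⁻¹ * r * c) * c⁻¹ := by rw [hee]
      _ = r := by group

/-- `V ∩ C(S i) ≤ R i`. -/
theorem V_cS {i : I} {v : G} (hv : v ∈ V) (hc : v ∈ centralizer (S i : Set G)) : v ∈ R i := by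
  refine h.cenR i v hv fun y hy => ?_
  obtain ⟨n, hn, hc'⟩ := h.cover i y hy
  have h1 : n * v = v * n := (h.cen_iff.1 hc) n hn
  have h2 : v * (y⁻¹ * n) = (y⁻¹ * n) * v := (h.cen_iff.1 hc') v hv
  have h3 : v * y⁻¹ = y⁻¹ * v := by
    have : v * y⁻¹ * n = y⁻¹ * v * n := by
      rw [mul_assoc v, h2, mul_assoc y⁻¹ v, ← h1, mul_assoc]
    exact mul_right_cancel this
  calc v * y = y * (y⁻¹ * v) * y := by group
    _ = y * (v * y⁻¹) * y := by rw [h3]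
    _ = y * v := by group

/-- `n`-`y` commutators of `Q i` with `S i`, second form. -/
theorem SQ' {i : I} {x y : G} (hx : x ∈ Q i) (hy : y ∈ S i) :
    x⁻¹ * y⁻¹ * x * y ∈ R i := by
  have := inv_mem (h.SQ i y hy x hx)
  convert this using 1
  group

section

variable {χ : G → ℤˣ} {i : I} (hχ : ∀ a ∈ R i, ∀ b ∈ R i, χ (a * b) = χ a * χ b)
include hχ

theorem chi_one : χ 1 = 1 := by
  have _ := h
  have := hχ 1 (one_mem _) 1 (one_mem _)
  rw [mul_one] at this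
  exact (mul_eq_left.1 this.symm)

/-- multiplicativity in the second variable -/
theorem chi_mul_right {x y y' : G} (hx : x ∈ Q i) (hy : y ∈ S i) (hy' : y' ∈ S i) :
    χ (x⁻¹ * (y * y')⁻¹ * x * (y * y')) =
      χ (x⁻¹ * y⁻¹ * x * y) * χ (x⁻¹ * y'⁻¹ * x * y') := by
  have h1 := h.SQ' hx hy
  have h2 := h.SQ' hx hy'
  have h3 := h.RQ i _ h1 _ (h.S_le i hy')
  have h4 : x⁻¹ * (y * y')⁻¹ * x * (y * y') =
      (x⁻¹ * y'⁻¹ * x * y') * (x⁻¹ * y⁻¹ * x * y) := by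
    calc x⁻¹ * (y * y')⁻¹ * x * (y * y')
        = (x⁻¹ * y'⁻¹ * x) * ((x⁻¹ * y⁻¹ * x * y) * y') := by group
      _ = (x⁻¹ * y'⁻¹ * x) * (y' * (x⁻¹ * y⁻¹ * x * y)) := by rw [h3]
      _ = _ := by group
  rw [h4, hχ _ h2 _ h1, mul_comm]

/-- multiplicativity in the first variable -/
theorem chi_mul_left {x x' y : G} (hx : x ∈ Q i) (hx' : x' ∈ Q i) (hy : y ∈ S i) :
    χ ((x * x')⁻¹ * y⁻¹ * (x * x') * y) =
      χ (x⁻¹ * y⁻¹ * x * y) * χ (x'⁻¹ * y⁻¹ * x' * y) := by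
  have h1 := h.SQ' hx hy
  have h2 := h.SQ' hx' hy
  have h3 := h.RQ i _ h1 _ hx'
  have h4 : (x * x')⁻¹ * y⁻¹ * (x * x') * y =
      (x⁻¹ * y⁻¹ * x * y) * (x'⁻¹ * y⁻¹ * x' * y) := by
    calc (x * x')⁻¹ * y⁻¹ * (x * x') * y
        = x'⁻¹ * ((x⁻¹ * y⁻¹ * x * y) * (y⁻¹ * x' * y)) := by group
      _ = x'⁻¹ * ((x⁻¹ * y⁻¹ * x * y) * x' * (x'⁻¹ * y⁻¹ * x' * y)) := by group
      _ = x'⁻¹ * (x' * (x⁻¹ * y⁻¹ * x * y) * (x'⁻¹ * y⁻¹ * x' * y)) := by rw [h3]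
      _ = _ := by group
  rw [h4, hχ _ h1 _ h2]

/-- equal characters : the quotient centralises `S i` -/
theorem cen_of_char {r : G} (hr : r ∈ R i) (hr1 : χ r ≠ 1) {x x' : G} (hx : x ∈ Q i)
    (hx' : x' ∈ Q i)
    (he : ∀ y ∈ S i, χ (x⁻¹ * y⁻¹ * x * y) = χ (x'⁻¹ * y⁻¹ * x' * y)) :
    x⁻¹ * x' ∈ centralizer (S i : Set G) := by
  by_contra hcon
  have hq : x⁻¹ * x' ∈ Q i := mul_mem (inv_mem hx) hx'
  obtain ⟨n, hn, hnr⟩ := h.val hq hcon (inv_mem hr)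
  have h1 := h.chi_mul_left hχ (inv_mem hx) hx' hn
  have h2 := h.chi_mul_left hχ hx (inv_mem hx) hn
  rw [mul_inv_cancel] at h2
  have h3 : (1 : G)⁻¹ * n⁻¹ * 1 * n = 1 := by group
  rw [h3, h.chi_one hχ, he n hn] at h2
  have h4 : (x⁻¹ * x')⁻¹ * n⁻¹ * (x⁻¹ * x') * n = r := by
    have : (x⁻¹ * x')⁻¹ * n⁻¹ * (x⁻¹ * x') * n =
      (n⁻¹ * (x⁻¹ * x')⁻¹ * n * (x⁻¹ * x'))⁻¹ := by group
    rw [this, hnr, inv_inv]
  rw [h4] at h1
  apply hr1
  rw [h1, mul_comm]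
  exact h2.symm

end

variable [Finite G]

/-- (5b) -/
theorem F_le {i : I} {x : G} (hx : x ∈ S i)
    (hc : ∀ c ∈ S i, c ∈ centralizer (V : Set G) → x * c = c * x) :
    ∃ e ∈ V ⊓ Q i, e⁻¹ * x ∈ centralizer (S i : Set G) := by
  obtain ⟨χ, hχ, r, hr, hr1⟩ := exists_char (h.ne i)
    (fun a ha b hb => h.V_comm a (h.R_le i ha) b (h.R_le i hb))
    (fun a ha => h.V_sq a (h.R_le i ha))
  obtain ⟨e, he, hex⟩ := exists_rep (X := V ⊓ Q i) (P := S i) (Z := R i)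
    (K := centralizer (V : Set G)) (fun x y => χ (x⁻¹ * y⁻¹ * x * y))
    (by
      intro y hy k _ hk
      have hyN := h.Q_V i (h.S_le i hy)
      rw [h.cen_iff]
      intro v hv
      have hv' : y⁻¹ * v * y ∈ V := by
        have := (mem_normalizer_iff.1 (inv_mem hyN) v).1 hv
        simpa using this
      have h1 := (h.cen_iff.1 hk) _ hv'
      calc v * (y * k * y⁻¹) = y * ((y⁻¹ * v * y) * k) * y⁻¹ := by group
        _ = y * (k * (y⁻¹ * v * y)) * y⁻¹ := by rw [h1]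
        _ = _ := by group)
    (fun e he y hy y' hy' => h.chi_mul_right hχ he.2 hy hy')
    (by
      intro e he k _ hk
      have h1 := (h.cen_iff.1 hk) e he.1
      have : e⁻¹ * k⁻¹ * e * k = 1 := by
        rw [mul_assoc, h1]; group
      show χ _ = 1
      rw [this, h.chi_one hχ])
    (fun e he e' he' hee => h.V_cS (mul_mem (inv_mem he.1) he'.1)
      (h.cen_of_char hχ hr hr1 he.2 he'.2 hee))
    (by
      rw [← h.cardE i]
      exact relIndex_le_of_le_right (h.S_le i) (by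
        unfold relIndex
        exact index_ne_zero_of_finite))
    (fun y => χ (x⁻¹ * y⁻¹ * x * y))
    (fun y hy y' hy' => h.chi_mul_right hχ (h.S_le i hx) hy hy')
    (by
      intro k hk hkV
      have h1 := hc k hk hkV
      have : x⁻¹ * k⁻¹ * x * k = 1 := by
        rw [mul_assoc, h1]; group
      rw [this, h.chi_one hχ])
  exact ⟨e, he, h.cen_of_char hχ hr hr1 he.2 (h.S_le i hx) hex⟩

section Six

variable {i j : I} (hij : i ≠ j) {d : G} (hd : d ∈ Q j ⊓ centralizer (S j : Set G))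
include hij hd

omit [Finite G] in
theorem d_N : d ∈ normalizer (R i : Set G) := by
  have _ := hij
  have h1 := h.D_V j hd
  rw [mem_normalizer_iff]
  intro r
  constructor
  · intro hr
    have := (h.cen_iff.1 h1) r (h.R_le i hr)
    rwa [← this, mul_inv_cancel_right]
  · intro hr
    have := (h.cen_iff.1 h1) _ (h.R_le i hr)
    have h2 : d * r * d⁻¹ = r := by
      have h3 : d * (d * r * d⁻¹) = d * r := by
        rw [← this]; group
      exact mul_left_cancel h3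
    rwa [← h2]

omit [Finite G] in
theorem k_S {y : G} (hy : y ∈ S i) : y⁻¹ * d⁻¹ * y * d ∈ S i := by
  have h1 := h.S_nor' i (h.d_N hij hd) hy
  have h2 : y⁻¹ * d⁻¹ * y * d = y⁻¹ * (d⁻¹ * y * d) := by group
  rw [h2]
  exact mul_mem (inv_mem hy) h1

omit [Finite G] in
/-- `k = [y,d]` commutes with `S i ∩ C(V)`. -/
theorem k_comm {y c : G} (hy : y ∈ S i) (hc : c ∈ S i) (hcV : c ∈ centralizer (V : Set G)) :
    (y⁻¹ * d⁻¹ * y * d) * c = c * (y⁻¹ * d⁻¹ * y * d) := by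
  set k := y⁻¹ * d⁻¹ * y * d with hk
  have h1 : y⁻¹ * c⁻¹ * y * c ∈ R i := h.SQ i y hy c (h.S_le i hc)
  have h2 := (h.cen_iff.1 (h.D_V j hd)) _ (h.R_le i h1)
  have h3 := h.D_c i j hij d hd c hc hcV
  have hks : k ∈ S i := h.k_S hij hd hy
  have h4 := h.RQ i _ h1 _ (h.S_le i hks)
  -- [y,c] = [y,c]^d = [yk,c]
  have h5 : y⁻¹ * c⁻¹ * y * c = (y * k)⁻¹ * c⁻¹ * (y * k) * c := by
    have e1 : y⁻¹ * c⁻¹ * y * c = d⁻¹ * (y⁻¹ * c⁻¹ * y * c) * d := by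
      rw [mul_assoc d⁻¹, h2]; group
    have e2 : d⁻¹ * c * d = c := by
      rw [mul_assoc, ← h3]; group
    have e3 : y * k = d⁻¹ * y * d := by rw [hk]; group
    have e4 : d⁻¹ * (y⁻¹ * c⁻¹ * y * c) * d =
        (d⁻¹ * y * d)⁻¹ * (d⁻¹ * c * d)⁻¹ * (d⁻¹ * y * d) * (d⁻¹ * c * d) := by group
    rw [e1, e4, e2, e3]
  have h6 : (y * k)⁻¹ * c⁻¹ * (y * k) * c =
      (y⁻¹ * c⁻¹ * y * c) * (k⁻¹ * c⁻¹ * k * c) := by
    calc (y * k)⁻¹ * c⁻¹ * (y * k) * c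
        = k⁻¹ * ((y⁻¹ * c⁻¹ * y * c) * (c⁻¹ * k * c)) := by group
      _ = k⁻¹ * ((y⁻¹ * c⁻¹ * y * c) * k * (k⁻¹ * c⁻¹ * k * c)) := by group
      _ = k⁻¹ * (k * (y⁻¹ * c⁻¹ * y * c) * (k⁻¹ * c⁻¹ * k * c)) := by rw [h4]
      _ = _ := by group
  rw [h6] at h5
  have h7 : k⁻¹ * c⁻¹ * k * c = 1 := by
    have := h5.symm
    rwa [mul_eq_left] at this
  have h8 : k * c = c * k * (k⁻¹ * c⁻¹ * k * c) := by group
  rw [h8, h7, mul_one]

omit [Finite G] in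
theorem k_sq {y : G} (hy : y ∈ S i) :
    (y⁻¹ * d⁻¹ * y * d) * (y⁻¹ * d⁻¹ * y * d) = 1 := h.D_k i j hij d hd y hy

omit [Finite G] in
/-- `k = [y,d]` commutes with `y`. -/
theorem k_y {y : G} (hy : y ∈ S i) :
    (y⁻¹ * d⁻¹ * y * d) * y = y * (y⁻¹ * d⁻¹ * y * d) := by
  set k := y⁻¹ * d⁻¹ * y * d with hk
  have h1 := h.S_sq i y hy
  have h2 := (h.cen_iff.1 (h.D_V j hd)) _ (h.R_le i h1)
  have h3 : k * k = 1 := h.k_sq hij hd hy
  have e3 : d⁻¹ * y * d = y * k := by rw [hk]; group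
  have h4 : y * y = (y * k) * (y * k) := by
    have e1 : y * y = d⁻¹ * (y * y) * d := by
      rw [mul_assoc d⁻¹, h2]; group
    have e4 : d⁻¹ * (y * y) * d = (d⁻¹ * y * d) * (d⁻¹ * y * d) := by group
    rw [e1, e4, e3]
  have h5 : y = k * (y * k) := by
    have : y * y = y * (k * (y * k)) := by rw [h4]; group
    exact mul_left_cancel this
  calc k * y = k * (k * (y * k)) := by rw [← h5]
    _ = (k * k) * (y * k) := by group
    _ = y * k := by rw [h3, one_mul]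

omit [Finite G] in
/-- additivity of `n ↦ [n,d]` -/
theorem k_mul (n n' : G) : (n * n')⁻¹ * d⁻¹ * (n * n') * d =
    (n⁻¹ * d⁻¹ * n * d) * ((n⁻¹ * d⁻¹ * n * d)⁻¹ * n'⁻¹ * (n⁻¹ * d⁻¹ * n * d) * n') *
      (n'⁻¹ * d⁻¹ * n' * d) := by
  have _ := h; have _ := hij; have _ := hd
  group

omit [Finite G] in
/-- `[n,d]` depends only on `n` modulo `C(V)`. -/
theorem k_congr {n n' : G} (hn : n ∈ S i) (hn' : n' ∈ S i)
    (hc : n⁻¹ * n' ∈ centralizer (V : Set G)) :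
    n⁻¹ * d⁻¹ * n * d = n'⁻¹ * d⁻¹ * n' * d := by
  have hm : n⁻¹ * n' ∈ S i := mul_mem (inv_mem hn) hn'
  set m := n⁻¹ * n' with hmdef
  have e : n' = n * m := by rw [hmdef]; group
  have h1 := h.k_comm hij hd hn hm hc
  have h2 := h.D_c i j hij d hd m hm hc
  rw [e, h.k_mul hij hd n m]
  have h3 : m⁻¹ * d⁻¹ * m * d = 1 := by
    have : m⁻¹ * d⁻¹ * m * d = m⁻¹ * d⁻¹ * (m * d) := by group
    rw [this, ← h2]; group
  have h4 : (n⁻¹ * d⁻¹ * n * d)⁻¹ * m⁻¹ * (n⁻¹ * d⁻¹ * n * d) * m = 1 := by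
    have : (n⁻¹ * d⁻¹ * n * d)⁻¹ * m⁻¹ * (n⁻¹ * d⁻¹ * n * d) * m =
      (n⁻¹ * d⁻¹ * n * d)⁻¹ * m⁻¹ * ((n⁻¹ * d⁻¹ * n * d) * m) := by group
    rw [this, h1]; group
  rw [h3, h4, mul_one, mul_one]

/-- (6): every `d ∈ D j` is, modulo `R j`, an element which acts on `S i` modulo `C(S i)`
trivially. -/
theorem six : ∃ r ∈ R j, ∀ y ∈ S i,
    y⁻¹ * (d * r)⁻¹ * y * (d * r) ∈ centralizer (S i : Set G) := by
  classical
  -- choice of `b`
  have hch : ∀ y : G, ∃ e : G, y ∈ Q i → ∃ n ∈ S i, y⁻¹ * n ∈ centralizer (V : Set G) ∧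
      e ∈ V ⊓ Q i ∧ e⁻¹ * (n⁻¹ * d⁻¹ * n * d) ∈ centralizer (S i : Set G) := by
    intro y
    by_cases hy : y ∈ Q i
    · obtain ⟨n, hn, hnV⟩ := h.cover i y hy
      obtain ⟨e, he, hek⟩ := h.F_le (h.k_S hij hd hn) (fun c hc hcV => h.k_comm hij hd hn hc hcV)
      exact ⟨e, fun _ => ⟨n, hn, hnV, he, hek⟩⟩
    · exact ⟨1, fun hy' => absurd hy' hy⟩
  choose b hb using hch
  obtain ⟨r, hr, hrb⟩ := h.alt i j hij b
    (fun y hy => by
      obtain ⟨n, hn, hnV, he, hek⟩ := hb y hy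
      exact he)
    (by
      intro y hy y' hy'
      obtain ⟨n, hn, hnV, he, hek⟩ := hb y hy
      obtain ⟨n', hn', hnV', he', hek'⟩ := hb y' hy'
      obtain ⟨n'', hn'', hnV'', he'', hek''⟩ := hb (y * y') (mul_mem hy hy')
      have hvV : b (y * y') * (b y * b y')⁻¹ ∈ V :=
        mul_mem he''.1 (inv_mem (mul_mem he.1 he'.1))
      refine h.V_cS hvV ?_
      -- n'' and n n' agree modulo C(V)
      have hcV : (n * n')⁻¹ * n'' ∈ centralizer (V : Set G) := by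
        have e1 : (n * n')⁻¹ * n'' =
            (y'⁻¹ * n')⁻¹ * (y'⁻¹ * (y⁻¹ * n)⁻¹ * y') * ((y * y')⁻¹ * n'') := by group
        rw [e1]
        refine mul_mem (mul_mem (inv_mem hnV') ?_) hnV''
        have hyN := h.Q_V i hy'
        rw [h.cen_iff]
        intro v hv
        have hv' : y' * v * y'⁻¹ ∈ V := (mem_normalizer_iff.1 hyN v).1 hv
        have h1 := (h.cen_iff.1 (inv_mem hnV)) _ hv'
        calc v * (y'⁻¹ * (y⁻¹ * n)⁻¹ * y')
            = y'⁻¹ * ((y' * v * y'⁻¹) * (y⁻¹ * n)⁻¹) * y' := by group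
          _ = y'⁻¹ * ((y⁻¹ * n)⁻¹ * (y' * v * y'⁻¹)) * y' := by rw [h1]
          _ = _ := by group
      have hk := h.k_congr hij hd (mul_mem hn hn') hn'' hcV
      rw [← hk, h.k_mul hij hd n n'] at hek''
      set k := n⁻¹ * d⁻¹ * n * d with hkdef
      set k' := n'⁻¹ * d⁻¹ * n' * d with hk'def
      have hρ : k⁻¹ * n'⁻¹ * k * n' ∈ centralizer (S i : Set G) := by
        apply h.R_cS i
        exact h.SQ i k (h.k_S hij hd hn) n' (h.S_le i hn')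
      set ρ := k⁻¹ * n'⁻¹ * k * n' with hρdef
      -- b y b y' b(yy')⁻¹ ...
      have hbS' : b y' ∈ S i := h.E_le i he'
      have hz := (h.cen_iff.1 hek) _ hbS'
      have hzρ := (h.cen_iff.1 (mul_mem hek hρ)) _ hbS'
      -- k = e z, k' = e' z'
      have e2 : (b (y * y'))⁻¹ * (b y * b y') =
          (b (y * y'))⁻¹ * (k * ρ * k') * ((b y')⁻¹ * k')⁻¹ * ((b y)⁻¹ * k * ρ)⁻¹ := by
        calc (b (y * y'))⁻¹ * (b y * b y')
            = (b (y * y'))⁻¹ * (b y * (b y' * ((b y)⁻¹ * k * ρ))) * ((b y)⁻¹ * k * ρ)⁻¹ := by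
              group
          _ = (b (y * y'))⁻¹ * (b y * (((b y)⁻¹ * k * ρ) * b y')) * ((b y)⁻¹ * k * ρ)⁻¹ := by
              rw [hzρ]
          _ = _ := by group
      have e3 : (b (y * y'))⁻¹ * (b y * b y') ∈ centralizer (S i : Set G) := by
        rw [e2]
        exact mul_mem (mul_mem hek'' (inv_mem hek')) (inv_mem (mul_mem hek hρ))
      have e4 : b (y * y') * (b y * b y')⁻¹ = ((b (y * y'))⁻¹ * (b y * b y'))⁻¹ := by
        rw [mul_inv_rev ((b (y * y'))⁻¹), inv_inv]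
        exact h.V_comm _ he''.1 _ (inv_mem (mul_mem he.1 he'.1))
      rw [e4]
      exact inv_mem e3)
    (by
      intro y hy
      obtain ⟨n, hn, hnV, he, hek⟩ := hb y hy
      -- b y commutes with n and with C(V)
      have h1 := (h.cen_iff.1 hek) n hn
      have h2 := h.k_y hij hd hn
      have h3 := (h.cen_iff.1 hnV) _ he.1
      have h4 : b y * n = n * b y := by
        have e1 : n * ((b y)⁻¹ * (n⁻¹ * d⁻¹ * n * d)) =
          (b y)⁻¹ * (n * (n⁻¹ * d⁻¹ * n * d)) := by rw [h1, mul_assoc, h2]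
        have e2 : n * (b y)⁻¹ = (b y)⁻¹ * n := by
          have : (n * (b y)⁻¹) * (n⁻¹ * d⁻¹ * n * d) =
            ((b y)⁻¹ * n) * (n⁻¹ * d⁻¹ * n * d) := by
            rw [mul_assoc n, e1, mul_assoc ((b y)⁻¹)]
          exact mul_right_cancel this
        calc b y * n = b y * (n * (b y)⁻¹) * b y := by group
          _ = b y * ((b y)⁻¹ * n) * b y := by rw [e2]
          _ = n * b y := by group
      have e5 : b y * (y⁻¹ * n)⁻¹ = (y⁻¹ * n)⁻¹ * b y := by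
        calc b y * (y⁻¹ * n)⁻¹ = (y⁻¹ * n)⁻¹ * ((y⁻¹ * n) * b y) * (y⁻¹ * n)⁻¹ := by group
          _ = (y⁻¹ * n)⁻¹ * (b y * (y⁻¹ * n)) * (y⁻¹ * n)⁻¹ := by rw [← h3]
          _ = _ := by group
      calc b y * y = b y * n * (y⁻¹ * n)⁻¹ := by group
        _ = n * (b y * (y⁻¹ * n)⁻¹) := by rw [h4, mul_assoc]
        _ = n * ((y⁻¹ * n)⁻¹ * b y) := by rw [e5]
        _ = y * b y := by group)
    (by
      intro y hy hyV
      obtain ⟨n, hn, hnV, he, hek⟩ := hb y hy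
      have hnV' : n ∈ centralizer (V : Set G) := by
        have : n = y * (y⁻¹ * n) := by group
        rw [this]
        exact mul_mem hyV hnV
      have h2 := h.D_c i j hij d hd n hn hnV'
      have h3 : n⁻¹ * d⁻¹ * n * d = 1 := by
        have : n⁻¹ * d⁻¹ * n * d = n⁻¹ * d⁻¹ * (n * d) := by group
        rw [this, ← h2]; group
      rw [h3, mul_one] at hek
      exact h.V_cS he.1 (by simpa using inv_mem hek))
  refine ⟨r, hr, fun y hy => ?_⟩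
  have hyQ := h.S_le i hy
  obtain ⟨n, hn, hnV, he, hek⟩ := hb y hyQ
  have hk := h.k_congr hij hd hy hn hnV
  rw [← hk] at hek
  have h1 := hrb y hyQ
  set k := y⁻¹ * d⁻¹ * y * d with hkdef
  have hrD : r ∈ Q j ⊓ centralizer (S j : Set G) := ⟨h.R_Q j hr, h.R_cS j hr⟩
  have hzD : (b y)⁻¹ * k ∈ Q i ⊓ centralizer (S i : Set G) :=
    ⟨(Q i).mul_mem ((Q i).inv_mem he.2) (h.S_le i (h.k_S hij hd hy)), hek⟩
  have h2 := h.D_comm i j hij _ hzD _ hrD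
  have h3 := h.V_comm _ he.1 _ (h.R_le j hr)
  -- `r` commutes with `k`
  have h4 : k * r = r * k := by
    calc k * r = b y * (((b y)⁻¹ * k) * r) := by group
      _ = b y * (r * ((b y)⁻¹ * k)) := by rw [h2]
      _ = (b y * r) * ((b y)⁻¹ * k) := by group
      _ = (r * b y) * ((b y)⁻¹ * k) := by rw [h3]
      _ = r * k := by group
  have hyrV : y⁻¹ * r⁻¹ * y * r ∈ V := by
    have hyN : y⁻¹ ∈ normalizer (V : Set G) := inv_mem (h.Q_V i hyQ)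
    have hrV : r⁻¹ ∈ V := inv_mem (h.R_le j hr)
    have := (mem_normalizer_iff.1 hyN r⁻¹).1 hrV
    rw [inv_inv] at this
    exact mul_mem this (h.R_le j hr)
  have h5 := h.V_sq _ hyrV
  have h6 := h.V_comm _ he.1 _ hyrV
  have h7 : y⁻¹ * (d * r)⁻¹ * y * (d * r) =
      (b y * (y⁻¹ * r⁻¹ * y * r)⁻¹) * ((b y)⁻¹ * k) := by
    calc y⁻¹ * (d * r)⁻¹ * y * (d * r) = (y⁻¹ * r⁻¹ * y) * (k * r) := by rw [hkdef]; group
      _ = (y⁻¹ * r⁻¹ * y) * (r * k) := by rw [h4]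
      _ = (y⁻¹ * r⁻¹ * y * r) * b y * ((b y)⁻¹ * k) := by group
      _ = b y * (y⁻¹ * r⁻¹ * y * r) * ((b y)⁻¹ * k) := by rw [h6]
      _ = (b y * (y⁻¹ * r⁻¹ * y * r)⁻¹) * ((y⁻¹ * r⁻¹ * y * r) * (y⁻¹ * r⁻¹ * y * r)) *
            ((b y)⁻¹ * k) := by group
      _ = _ := by rw [h5, mul_one]
  rw [h7]
  exact mul_mem (h.R_cS i h1) hek

end Six

/-! ### (7) -/

omit [Finite G] in
theorem cS_nor {i : I} {g : G} (hg : g ∈ normalizer (R i : Set G)) {x : G}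
    (hx : x ∈ centralizer (S i : Set G)) : g * x * g⁻¹ ∈ centralizer (S i : Set G) := by
  rw [h.cen_iff]
  intro n hn
  have h1 := h.S_nor' i hg hn
  have h2 := (h.cen_iff.1 hx) _ h1
  calc n * (g * x * g⁻¹) = g * ((g⁻¹ * n * g) * x) * g⁻¹ := by group
    _ = g * (x * (g⁻¹ * n * g)) * g⁻¹ := by rw [h2]
    _ = _ := by group

omit [Finite G] in
theorem cS_nor' {i : I} {g : G} (hg : g ∈ normalizer (R i : Set G)) {x : G}
    (hx : x ∈ centralizer (S i : Set G)) : g⁻¹ * x * g ∈ centralizer (S i : Set G) := by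
  simpa using h.cS_nor (inv_mem hg) hx

omit [Finite G] in
theorem two_of_sq {i : I} {g : G} (hg : g * g ∈ Q i) : ∃ k : ℕ, g ^ 2 ^ k = 1 := by
  obtain ⟨k, hk⟩ := h.two i ⟨g * g, hg⟩
  refine ⟨k + 1, ?_⟩
  have h1 : (g * g) ^ 2 ^ k = 1 := by
    have := congrArg Subtype.val hk
    simpa using this
  rw [pow_succ 2 k, mul_comm (2 ^ k) 2, pow_mul, pow_two]
  exact h1

/-- `W = C(S i) ∩ C(D i) ∩ N(R i)`. -/
def W (_ : Pre V R Q S) (i : I) : Subgroup G :=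
  normalizer (R i : Set G) ⊓ centralizer (S i : Set G) ⊓
    centralizer ((Q i ⊓ centralizer (S i : Set G) : Subgroup G) : Set G)

omit [Finite G] in
theorem D_nor {i : I} {g : G} (hg : g ∈ normalizer (R i : Set G)) {x : G}
    (hx : x ∈ Q i ⊓ centralizer (S i : Set G)) :
    g * x * g⁻¹ ∈ Q i ⊓ centralizer (S i : Set G) :=
  ⟨h.nor i g hg x hx.1, h.cS_nor hg hx.2⟩

omit [Finite G] in
theorem cD_nor {i : I} {g : G} (hg : g ∈ normalizer (R i : Set G)) {x : G}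
    (hx : x ∈ centralizer ((Q i ⊓ centralizer (S i : Set G) : Subgroup G) : Set G)) :
    g * x * g⁻¹ ∈ centralizer ((Q i ⊓ centralizer (S i : Set G) : Subgroup G) : Set G) := by
  rw [h.cen_iff]
  intro n hn
  have h1 : g⁻¹ * n * g ∈ Q i ⊓ centralizer (S i : Set G) := by
    simpa using h.D_nor (inv_mem hg) hn
  have h2 := (h.cen_iff.1 hx) _ h1
  calc n * (g * x * g⁻¹) = g * ((g⁻¹ * n * g) * x) * g⁻¹ := by group
    _ = g * (x * (g⁻¹ * n * g)) * g⁻¹ := by rw [h2]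
    _ = _ := by group

omit [Finite G] in
theorem W_nor {i : I} {g : G} (hg : g ∈ normalizer (R i : Set G)) {x : G}
    (hx : x ∈ h.W i) : g * x * g⁻¹ ∈ h.W i :=
  ⟨⟨Subgroup.mul_mem _ (Subgroup.mul_mem _ hg hx.1.1) (Subgroup.inv_mem _ hg),
    h.cS_nor hg hx.1.2⟩, h.cD_nor hg hx.2⟩

omit [Finite G] in
theorem W_le (i : I) : h.W i ≤ Q i := by
  have hsq : ∀ g ∈ h.W i, g * g ∈ Q i := by
    intro g hg
    apply h.char2 i
    rw [h.cen_iff]
    intro y hy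
    have hyN := h.Q_N i hy
    have hkW : y⁻¹ * g⁻¹ * y * g ∈ h.W i := by
      have hgi : g⁻¹ ∈ h.W i := inv_mem hg
      have hyi : y⁻¹ ∈ normalizer (R i : Set G) := inv_mem hyN
      have := h.W_nor hyi hgi
      rw [inv_inv] at this
      exact mul_mem this hg
    have hkQ : y⁻¹ * g⁻¹ * y * g ∈ Q i := by
      have e : y⁻¹ * g⁻¹ * y * g = y⁻¹ * (g⁻¹ * y * g) := by group
      rw [e]
      exact mul_mem (inv_mem hy) (h.nor' i hg.1.1 hy)
    have hkD : y⁻¹ * g⁻¹ * y * g ∈ Q i ⊓ centralizer (S i : Set G) := ⟨hkQ, hkW.1.2⟩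
    have h1 := (h.cen_iff.1 hg.2) _ hkD
    have h2 := h.D_sq i _ hkD
    set k := y⁻¹ * g⁻¹ * y * g with hk
    have h3 : y * g = g * y * k := by rw [hk]; group
    calc y * (g * g) = (y * g) * g := by group
      _ = g * y * (k * g) := by rw [h3]; group
      _ = g * y * (g * k) := by rw [h1]
      _ = g * (y * g) * k := by group
      _ = g * (g * y * k) * k := by rw [h3]
      _ = g * g * y * (k * k) := by group
      _ = g * g * y := by rw [h2, mul_one]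
  refine h.max i (h.W i) ?_ (fun g hg => hg.1.1) (fun c hc y hy => h.W_nor hc hy)
  intro g
  obtain ⟨k, hk⟩ := h.two_of_sq (hsq g g.2)
  exact ⟨k, Subtype.ext (by simpa using hk)⟩

/-- the group of all `g ∈ N(R i)` with `[S i, g] ≤ C(S i)` and `[D i, g] = 1` -/
def A (i : I) : Subgroup G where
  carrier := {g | g ∈ normalizer (R i : Set G) ∧
    g ∈ centralizer ((Q i ⊓ centralizer (S i : Set G) : Subgroup G) : Set G) ∧
    ∀ y ∈ S i, y⁻¹ * g⁻¹ * y * g ∈ centralizer (S i : Set G)}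
  one_mem' := ⟨one_mem _, one_mem _, fun y _ => by
    have : y⁻¹ * (1 : G)⁻¹ * y * 1 = 1 := by group
    rw [this]; exact one_mem _⟩
  mul_mem' := by
    rintro a b ⟨ha1, ha2, ha3⟩ ⟨hb1, hb2, hb3⟩
    refine ⟨mul_mem ha1 hb1, mul_mem ha2 hb2, fun y hy => ?_⟩
    have e : y⁻¹ * (a * b)⁻¹ * y * (a * b) =
      (y⁻¹ * b⁻¹ * y * b) * (b⁻¹ * (y⁻¹ * a⁻¹ * y * a) * b) := by group
    rw [e]
    exact mul_mem (hb3 y hy) (h.cS_nor' hb1 (ha3 y hy))
  inv_mem' := by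
    rintro a ⟨ha1, ha2, ha3⟩
    refine ⟨inv_mem ha1, inv_mem ha2, fun y hy => ?_⟩
    have e : y⁻¹ * (a⁻¹)⁻¹ * y * a⁻¹ =
        ((a * y * a⁻¹)⁻¹ * a⁻¹ * (a * y * a⁻¹) * a)⁻¹ := by group
    rw [e]
    exact inv_mem (ha3 _ (h.S_nor i a ha1 y hy))

omit [Finite G] in
theorem A_nor {i : I} {g : G} (hg : g ∈ normalizer (R i : Set G)) {x : G}
    (hx : x ∈ h.A i) : g * x * g⁻¹ ∈ h.A i := by
  refine ⟨mul_mem (mul_mem hg hx.1) (inv_mem hg), h.cD_nor hg hx.2.1, fun y hy => ?_⟩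
  have e : y⁻¹ * (g * x * g⁻¹)⁻¹ * y * (g * x * g⁻¹) =
      g * ((g⁻¹ * y * g)⁻¹ * x⁻¹ * (g⁻¹ * y * g) * x) * g⁻¹ := by group
  rw [e]
  exact h.cS_nor hg (hx.2.2 _ (h.S_nor' i hg hy))

omit [Finite G] in
theorem A_le (i : I) : h.A i ≤ Q i := by
  have hsq : ∀ g ∈ h.A i, g * g ∈ Q i := by
    intro g hg
    apply h.W_le i
    refine ⟨⟨mul_mem hg.1 hg.1, ?_⟩, mul_mem hg.2.1 hg.2.1⟩
    show g * g ∈ centralizer (S i : Set G)
    rw [h.cen_iff]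
    intro y hy
    have hkS : y⁻¹ * g⁻¹ * y * g ∈ S i := by
      have e : y⁻¹ * g⁻¹ * y * g = y⁻¹ * (g⁻¹ * y * g) := by group
      rw [e]
      exact mul_mem (inv_mem hy) (h.S_nor' i hg.1 hy)
    have hkD : y⁻¹ * g⁻¹ * y * g ∈ Q i ⊓ centralizer (S i : Set G) :=
      ⟨h.S_le i hkS, hg.2.2 y hy⟩
    have h1 := (h.cen_iff.1 hg.2.1) _ hkD
    have h2 := h.D_sq i _ hkD
    set k := y⁻¹ * g⁻¹ * y * g with hk
    have h3 : y * g = g * y * k := by rw [hk]; group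
    calc y * (g * g) = (y * g) * g := by group
      _ = g * y * (k * g) := by rw [h3]; group
      _ = g * y * (g * k) := by rw [h1]
      _ = g * (y * g) * k := by group
      _ = g * (g * y * k) * k := by rw [h3]
      _ = g * g * y * (k * k) := by group
      _ = g * g * y := by rw [h2, mul_one]
  refine h.max i (h.A i) ?_ (fun g hg => hg.1) (fun c hc y hy => h.A_nor hc hy)
  intro g
  obtain ⟨k, hk⟩ := h.two_of_sq (hsq g g.2)
  exact ⟨k, Subtype.ext (by simpa using hk)⟩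

/-- (7): `D j = R j`. -/
theorem D_eq (hnt : ∀ j : I, ∃ i, i ≠ j) (j : I) :
    Q j ⊓ centralizer (S j : Set G) = R j := by
  apply le_antisymm
  · intro d hd
    obtain ⟨i, hij⟩ := hnt j
    obtain ⟨r, hr, hrd⟩ := h.six hij hd
    have hrD : r ∈ Q j ⊓ centralizer (S j : Set G) := ⟨h.R_Q j hr, h.R_cS j hr⟩
    have hdr := mul_mem hd hrD
    have hA : d * r ∈ h.A i := by
      refine ⟨h.d_N hij hdr, ?_, hrd⟩
      rw [h.cen_iff]
      intro a ha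
      exact h.D_comm i j hij a ha _ hdr
    have h1 := h.D_Q i j hij _ hdr (h.A_le i hA)
    have h2 : d = r⁻¹ := eq_inv_of_mul_eq_one_left h1
    rw [h2]
    exact inv_mem hr
  · intro r hr
    exact ⟨h.R_Q j hr, h.R_cS j hr⟩

/-- (8): `Q i = Q* i`. -/
theorem Q_le (hnt : ∀ j : I, ∃ i, i ≠ j) (i : I) : Q i ≤ S i := by
  obtain ⟨χ, hχ, r, hr, hr1⟩ := exists_char (h.ne i)
    (fun a ha b hb => h.V_comm a (h.R_le i ha) b (h.R_le i hb))
    (fun a ha => h.V_sq a (h.R_le i ha))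
  have h1 : (R i).relIndex (Q i) ≤ (R i).relIndex (S i) := by
    refine relIndex_le (X := Q i) (P := S i) (Z := R i) (K := R i)
      (fun x y => χ (x⁻¹ * y⁻¹ * x * y)) ?_ ?_ ?_ ?_
    · intro y hy k _ hk
      have := h.RQ i k hk y (h.S_le i hy)
      rw [← this, mul_inv_cancel_right]
      exact hk
    · intro x hx y hy y' hy'
      exact h.chi_mul_right hχ hx hy hy'
    · intro x hx k _ hk
      have h2 := h.RQ i k hk x hx
      have : x⁻¹ * k⁻¹ * x * k = 1 := by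
        rw [mul_assoc, ← h2]; group
      show χ _ = 1
      rw [this, h.chi_one hχ]
    · intro x hx x' hx' he
      rw [← h.D_eq hnt i]
      exact ⟨(Q i).mul_mem ((Q i).inv_mem hx) hx', h.cen_of_char hχ hr hr1 hx hx' he⟩
  have h2 := relIndex_mul_relIndex (R i) (S i) (Q i)
    (fun r hr => h.E_le i ⟨h.R_le i hr, h.R_Q i hr⟩) (h.S_le i)
  have h3 : (R i).relIndex (S i) ≠ 0 := by
    unfold relIndex
    exact index_ne_zero_of_finite
  have h4 : (S i).relIndex (Q i) = 1 := by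
    have h5 : (S i).relIndex (Q i) ≠ 0 := by
      unfold relIndex
      exact index_ne_zero_of_finite
    have h6 : (R i).relIndex (S i) * (S i).relIndex (Q i) ≤ (R i).relIndex (S i) * 1 := by
      rw [h2, mul_one]; exact h1
    have h7 := Nat.le_of_mul_le_mul_left h6 (Nat.pos_of_ne_zero h3)
    omega
  rwa [relIndex_eq_one] at h4

/-- **THEOREM BETA, conclusion**: `Z(Q i) = R i ≥ [Q i, Q i]`, squares of `Q i` in `R i`, and
every `y ∈ Q i`, not in `R i`, has `[y, Q i] = R i` (as a set of commutators). -/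
theorem result (hnt : ∀ j : I, ∃ i, i ≠ j) (i : I) :
    Q i = S i ∧ Q i ⊓ centralizer (Q i : Set G) = R i ∧
    (∀ x ∈ Q i, ∀ y ∈ Q i, x⁻¹ * y⁻¹ * x * y ∈ R i) ∧ (∀ x ∈ Q i, x * x ∈ R i) ∧
    (∀ y ∈ Q i, y ∉ R i → ∀ r ∈ R i, ∃ n ∈ Q i, n⁻¹ * y⁻¹ * n * y = r) := by
  have hQS : Q i = S i := le_antisymm (h.Q_le hnt i) (h.S_le i)
  have hD := h.D_eq hnt i
  refine ⟨hQS, ?_, ?_, ?_, ?_⟩
  · rw [← hQS] at hD; exact hD
  · intro x hx y hy
    rw [hQS] at hx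
    exact h.SQ i x hx y hy
  · intro x hx
    rw [hQS] at hx
    exact h.S_sq i x hx
  · intro y hy hyR r hr
    rw [← hD] at hyR
    obtain ⟨n, hn, hnr⟩ := h.val hy (fun hc => hyR ⟨hy, hc⟩) hr
    exact ⟨n, h.S_le i hn, hnr⟩

end Pre

end Cfsg.Agent.Omega.NO1.Beta
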