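import Mathlib

/-!
# THEOREM BETA, part E: the module of hermitian `2 × 2`-matrices

`Co K σ M V`: coordinates on `V = O₄⁻(q)` = the hermitian `2 × 2`-matrices over `K`, `|K| = q²`, `M ≤ N(V)` induces
a group on `V` in which `SL₂(K)` (acting by `X ↦ A X A^*`) is normal.

* `d.R0` the singular point `(x, 0, 0)`, `d.Roo` the singular point `(0, 0, z)`, `d.E0 = d.R0^⊥` `(x, y, 0)`;
* `d.cj g`: the coordinates moved by `g ∈ M`;
* `d.two_trans`: `M` is doubly transitive on the singular points.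
-/

set_option autoImplicit false
set_option linter.unusedVariables false
set_option linter.unusedSectionVars false

open Subgroup
open scoped Pointwise

namespace Cfsg.Agent.Omega.NO1.Beta.Inst

section conj

variable {G : Type*} [Group G]

/-- conjugate subgroup `c H c⁻¹` -/
abbrev cj (c : G) (H : Subgroup G) : Subgroup G := MulAut.conj c • H

theorem mem_cj {c x : G} {H : Subgroup G} : x ∈ cj c H ↔ c⁻¹ * x * c ∈ H := by
  rw [cj, Subgroup.mem_pointwise_smul_iff_inv_smul_mem, ← map_inv, MulAut.smul_def, MulAut.conj_apply,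
    inv_inv]

theorem conj_mem_cj {c x : G} {H : Subgroup G} (h : x ∈ H) : c * x * c⁻¹ ∈ cj c H := by
  rw [mem_cj]
  have : c⁻¹ * (c * x * c⁻¹) * c = x := by group
  rwa [this]

theorem cj_mul (c d : G) (H : Subgroup G) : cj (c * d) H = cj c (cj d H) := by
  rw [cj, map_mul, mul_smul]

@[simp] theorem cj_one (H : Subgroup G) : cj 1 H = H := by simp [cj]

theorem cj_inv_cj (c : G) (H : Subgroup G) : cj c⁻¹ (cj c H) = H := by
  rw [← cj_mul, inv_mul_cancel, cj_one]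

theorem cj_cj_inv (c : G) (H : Subgroup G) : cj c (cj c⁻¹ H) = H := by
  rw [← cj_mul, mul_inv_cancel, cj_one]

theorem cj_mono {c : G} {H K : Subgroup G} (h : H ≤ K) : cj c H ≤ cj c K := by
  intro x hx
  rw [mem_cj] at hx ⊢
  exact h hx

theorem card_cj (c : G) (H : Subgroup G) : Nat.card (cj c H) = Nat.card H := by
  exact (Nat.card_congr (Subgroup.equivSMul (MulAut.conj c) H).toEquiv).symm

theorem mem_normalizer_iff_cj {c : G} {H : Subgroup G} : c ∈ normalizer (H : Set G) ↔ cj c H = H := by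
  constructor
  · intro h
    ext x
    rw [mem_cj]
    have := (mem_normalizer_iff.mp h (c⁻¹ * x * c))
    have h2 : c * (c⁻¹ * x * c) * c⁻¹ = x := by group
    rw [h2] at this
    exact this
  · intro h
    rw [mem_normalizer_iff]
    intro x
    constructor
    · intro hx
      have := conj_mem_cj (c := c) hx
      rwa [h] at this
    · intro hx
      have : c * x * c⁻¹ ∈ cj c H := by rw [h]; exact hx
      rw [mem_cj] at this
      have h2 : c⁻¹ * (c * x * c⁻¹) * c = x := by group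
      rwa [h2] at this

theorem cj_normalizer (c : G) (H : Subgroup G) :
    cj c (normalizer (H : Set G)) = normalizer ((cj c H : Subgroup G) : Set G) := by
  ext x
  rw [mem_cj, mem_normalizer_iff_cj, mem_normalizer_iff_cj]
  rw [cj_mul, cj_mul]
  constructor
  · intro h
    have := congrArg (cj c) h
    rwa [cj_cj_inv] at this
  · intro h
    rw [h, cj_inv_cj]

end conj

/-- Coordinates on `V = O₄⁻(q)`. -/
structure Co {G : Type*} [Group G] (K : Type*) [Field K] (σ : K ≃+* K) (M V : Subgroup G) where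
  e : G → Matrix (Fin 2) (Fin 2) K
  herm : ∀ v ∈ V, ((e v).map σ).transpose = e v
  mul : ∀ v ∈ V, ∀ w ∈ V, e (v * w) = e v + e w
  surj : ∀ X : Matrix (Fin 2) (Fin 2) K, (X.map σ).transpose = X → ∃ v ∈ V, e v = X
  ker : ∀ v ∈ V, e v = 0 → v = 1
  nor : M ≤ normalizer (V : Set G)
  lift : ∀ A : Matrix.SpecialLinearGroup (Fin 2) K, ∃ g ∈ M, ∀ v ∈ V,
    e (g * v * g⁻¹) = A.1 * e v * (A.1.map σ).transpose
  norm : ∀ g ∈ M, ∀ h ∈ M, ∀ A : Matrix.SpecialLinearGroup (Fin 2) K,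
    (∀ v ∈ V, e (h * v * h⁻¹) = A.1 * e v * (A.1.map σ).transpose) →
      ∃ B : Matrix.SpecialLinearGroup (Fin 2) K,
        ∀ v ∈ V, e (g * h * g⁻¹ * v * (g * h * g⁻¹)⁻¹) = B.1 * e v * (B.1.map σ).transpose
  inv : ∀ x, σ (σ x) = x
  nt : ∃ x, σ x ≠ x

namespace Co

variable {G : Type*} [Group G] {K : Type*} [Field K] {σ : K ≃+* K} {M V : Subgroup G}

section basic

variable (d : Co K σ M V)

def X (v : G) : K := d.e v 0 0

def Y (v : G) : K := d.e v 0 1

def Z (v : G) : K := d.e v 1 1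

theorem e10 {v : G} (hv : v ∈ V) : d.e v 1 0 = σ (d.Y v) := by
  have h := congrFun (congrFun (d.herm v hv) 1) 0
  simpa [Y] using h.symm

theorem sX {v : G} (hv : v ∈ V) : σ (d.X v) = d.X v := by
  have h := congrFun (congrFun (d.herm v hv) 0) 0
  simpa [X] using h

theorem sZ {v : G} (hv : v ∈ V) : σ (d.Z v) = d.Z v := by
  have h := congrFun (congrFun (d.herm v hv) 1) 1
  simpa [Z] using h

theorem X_mul {v w : G} (hv : v ∈ V) (hw : w ∈ V) : d.X (v * w) = d.X v + d.X w := by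
  simp [X, d.mul v hv w hw]

theorem Y_mul {v w : G} (hv : v ∈ V) (hw : w ∈ V) : d.Y (v * w) = d.Y v + d.Y w := by
  simp [Y, d.mul v hv w hw]

theorem Z_mul {v w : G} (hv : v ∈ V) (hw : w ∈ V) : d.Z (v * w) = d.Z v + d.Z w := by
  simp [Z, d.mul v hv w hw]

theorem e_one : d.e 1 = 0 := by
  have h := d.mul 1 V.one_mem 1 V.one_mem
  rw [mul_one] at h
  exact left_eq_add.mp h

@[simp] theorem X_one : d.X 1 = 0 := by simp [X, d.e_one]

@[simp] theorem Y_one : d.Y 1 = 0 := by simp [Y, d.e_one]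

@[simp] theorem Z_one : d.Z 1 = 0 := by simp [Z, d.e_one]

theorem e_inv {v : G} (hv : v ∈ V) : d.e v⁻¹ = - d.e v := by
  have h := d.mul v hv v⁻¹ (V.inv_mem hv)
  rw [mul_inv_cancel, d.e_one] at h
  exact (neg_eq_of_add_eq_zero_right h.symm).symm

theorem e_inj {v w : G} (hv : v ∈ V) (hw : w ∈ V) (h : d.e v = d.e w) : v = w := by
  have h1 : d.e (v * w⁻¹) = 0 := by
    rw [d.mul v hv _ (V.inv_mem hw), d.e_inv hw, h, add_neg_cancel]
  exact mul_inv_eq_one.mp (d.ker _ (V.mul_mem hv (V.inv_mem hw)) h1)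

theorem ext {v w : G} (hv : v ∈ V) (hw : w ∈ V) (hX : d.X v = d.X w) (hY : d.Y v = d.Y w)
    (hZ : d.Z v = d.Z w) : v = w := by
  apply d.e_inj hv hw
  ext i j
  fin_cases i <;> fin_cases j
  · exact hX
  · exact hY
  · change d.e v 1 0 = d.e w 1 0
    rw [d.e10 hv, d.e10 hw, hY]
  · exact hZ

theorem exists_v (x y z : K) (hx : σ x = x) (hz : σ z = z) :
    ∃ v ∈ V, d.X v = x ∧ d.Y v = y ∧ d.Z v = z := by
  obtain ⟨v, hv, he⟩ := d.surj !![x, y; σ y, z] (by
    ext i j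
    fin_cases i <;> fin_cases j <;> simp [hx, hz, d.inv])
  exact ⟨v, hv, by simp [X, he], by simp [Y, he], by simp [Z, he]⟩

include d in
theorem comm {v w : G} (hv : v ∈ V) (hw : w ∈ V) : v * w = w * v := by
  apply d.e_inj (V.mul_mem hv hw) (V.mul_mem hw hv)
  rw [d.mul v hv w hw, d.mul w hw v hv, add_comm]

include d in
theorem sq [CharP K 2] {v : G} (hv : v ∈ V) : v * v = 1 := by
  apply d.ker _ (V.mul_mem hv hv)
  rw [d.mul v hv v hv]
  ext i j
  simp [CharTwo.add_self_eq_zero]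

include d in
theorem inv_eq [CharP K 2] {v : G} (hv : v ∈ V) : v⁻¹ = v := inv_eq_of_mul_eq_one_left (d.sq hv)

/-- `g` acts on `V` as `X ↦ A X A^*`. -/
def Act (g : G) (A : Matrix (Fin 2) (Fin 2) K) : Prop :=
  ∀ v ∈ V, d.e (g * v * g⁻¹) = A * d.e v * (A.map σ).transpose

variable {d}

theorem conj_mem {g v : G} (hg : g ∈ normalizer (V : Set G)) (hv : v ∈ V) : g * v * g⁻¹ ∈ V :=
  (mem_normalizer_iff.mp hg v).mp hv

theorem conj_mem' (d : Co K σ M V) {g v : G} (hg : g ∈ M) (hv : v ∈ V) : g * v * g⁻¹ ∈ V :=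
  conj_mem (d.nor hg) hv

theorem Act.mul {g h : G} {A B : Matrix (Fin 2) (Fin 2) K} (hg : d.Act g A) (hh : d.Act h B)
    (hM : h ∈ M) : d.Act (g * h) (A * B) := by
  intro v hv
  have h1 : g * h * v * (g * h)⁻¹ = g * (h * v * h⁻¹) * g⁻¹ := by group
  rw [h1, hg _ (d.conj_mem' hM hv), hh v hv, Matrix.map_mul, Matrix.transpose_mul]
  simp only [Matrix.mul_assoc]

theorem act_one : d.Act 1 1 := by
  intro v hv
  simp

theorem Act.inv {g : G} {A : Matrix.SpecialLinearGroup (Fin 2) K} (hg : d.Act g A.1) (hM : g ∈ M) :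
    d.Act g⁻¹ (A⁻¹).1 := by
  intro v hv
  have h1 := hg (g⁻¹ * v * g⁻¹⁻¹) (d.conj_mem' (M.inv_mem hM) hv)
  have h2 : g * (g⁻¹ * v * g⁻¹⁻¹) * g⁻¹ = v := by group
  rw [h2] at h1
  have h3 : (A⁻¹).1 * A.1 = 1 := by
    rw [← Matrix.SpecialLinearGroup.coe_mul, inv_mul_cancel, Matrix.SpecialLinearGroup.coe_one]
  have h4 : (A.1.map σ).transpose * ((A⁻¹).1.map σ).transpose = 1 := by
    rw [← Matrix.transpose_mul, ← Matrix.map_mul, h3]
    simp
  rw [h1]
  simp only [Matrix.mul_assoc]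
  rw [h4, Matrix.mul_one, ← Matrix.mul_assoc, h3, Matrix.one_mul]

theorem Act.congr {g h : G} {A : Matrix (Fin 2) (Fin 2) K} (hg : d.Act g A)
    (hc : ∀ v ∈ V, h * v * h⁻¹ = g * v * g⁻¹) : d.Act h A := by
  intro v hv
  rw [hc v hv]
  exact hg v hv

/-- two elements acting as the same matrix -/
theorem Act.eq {g h : G} {A : Matrix (Fin 2) (Fin 2) K} (hg : d.Act g A) (hh : d.Act h A)
    (hgM : g ∈ M) (hhM : h ∈ M) {v : G} (hv : v ∈ V) : g * v * g⁻¹ = h * v * h⁻¹ := by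
  apply d.e_inj (d.conj_mem' hgM hv) (d.conj_mem' hhM hv)
  rw [hg v hv, hh v hv]

theorem Act.X {g : G} {A : Matrix (Fin 2) (Fin 2) K} (hg : d.Act g A) {v : G} (hv : v ∈ V) :
    d.X (g * v * g⁻¹) = (A 0 0 * d.X v + A 0 1 * σ (d.Y v)) * σ (A 0 0) +
      (A 0 0 * d.Y v + A 0 1 * d.Z v) * σ (A 0 1) := by
  have h := congrFun (congrFun (hg v hv) 0) 0
  simp only [Matrix.mul_apply, Fin.sum_univ_two, Matrix.transpose_apply, Matrix.map_apply] at h
  rw [d.e10 hv] at h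
  exact h

theorem Act.Y {g : G} {A : Matrix (Fin 2) (Fin 2) K} (hg : d.Act g A) {v : G} (hv : v ∈ V) :
    d.Y (g * v * g⁻¹) = (A 0 0 * d.X v + A 0 1 * σ (d.Y v)) * σ (A 1 0) +
      (A 0 0 * d.Y v + A 0 1 * d.Z v) * σ (A 1 1) := by
  have h := congrFun (congrFun (hg v hv) 0) 1
  simp only [Matrix.mul_apply, Fin.sum_univ_two, Matrix.transpose_apply, Matrix.map_apply] at h
  rw [d.e10 hv] at h
  exact h

theorem Act.Z {g : G} {A : Matrix (Fin 2) (Fin 2) K} (hg : d.Act g A) {v : G} (hv : v ∈ V) :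
    d.Z (g * v * g⁻¹) = (A 1 0 * d.X v + A 1 1 * σ (d.Y v)) * σ (A 1 0) +
      (A 1 0 * d.Y v + A 1 1 * d.Z v) * σ (A 1 1) := by
  have h := congrFun (congrFun (hg v hv) 1) 1
  simp only [Matrix.mul_apply, Fin.sum_univ_two, Matrix.transpose_apply, Matrix.map_apply] at h
  rw [d.e10 hv] at h
  exact h

/-- `g` acts trivially -/
theorem act_one_iff {g : G} (hM : g ∈ M) : d.Act g 1 ↔ g ∈ centralizer (V : Set G) := by
  rw [mem_centralizer_iff]
  constructor
  · intro h v hv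
    have h1 : g * v * g⁻¹ = v := by
      have := h.eq act_one hM M.one_mem hv
      simpa using this
    have h2 : g * v * g⁻¹ * g = v * g := by rw [h1]
    rw [inv_mul_cancel_right] at h2
    exact h2.symm
  · intro h v hv
    have h1 : g * v * g⁻¹ = v := by
      rw [← h v hv, mul_inv_cancel_right]
    rw [h1]
    simp

end basic

/-! ### special elements -/

/-- upper unitriangular -/
def u (a : K) : Matrix.SpecialLinearGroup (Fin 2) K := ⟨!![1, a; 0, 1], by simp⟩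

/-- lower unitriangular -/
def l (a : K) : Matrix.SpecialLinearGroup (Fin 2) K := ⟨!![1, 0; a, 1], by simp⟩

/-- diagonal -/
def h (t : K) (ht : t ≠ 0) : Matrix.SpecialLinearGroup (Fin 2) K :=
  ⟨!![t, 0; 0, t⁻¹], by simp [ht]⟩

/-- Weyl element -/
def w [CharP K 2] : Matrix.SpecialLinearGroup (Fin 2) K :=
  ⟨!![0, 1; 1, 0], by simp [Matrix.det_fin_two, CharTwo.neg_eq]⟩

section two

variable [CharP K 2] (d : Co K σ M V)

theorem u_X {g : G} {a : K} (hg : d.Act g (u a).1) {v : G} (hv : v ∈ V) :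
    d.X (g * v * g⁻¹) = d.X v + a * σ (d.Y v) + d.Y v * σ a + a * σ a * d.Z v := by
  rw [hg.X hv]
  simp [u]
  ring

theorem u_Y {g : G} {a : K} (hg : d.Act g (u a).1) {v : G} (hv : v ∈ V) :
    d.Y (g * v * g⁻¹) = d.Y v + a * d.Z v := by
  rw [hg.Y hv]
  simp [u]

theorem u_Z {g : G} {a : K} (hg : d.Act g (u a).1) {v : G} (hv : v ∈ V) :
    d.Z (g * v * g⁻¹) = d.Z v := by
  rw [hg.Z hv]
  simp [u]

theorem u_of {g : G} {a : K} (hM : g ∈ M)
    (hX : ∀ v ∈ V, d.X (g * v * g⁻¹) = d.X v + a * σ (d.Y v) + d.Y v * σ a + a * σ a * d.Z v)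
    (hY : ∀ v ∈ V, d.Y (g * v * g⁻¹) = d.Y v + a * d.Z v)
    (hZ : ∀ v ∈ V, d.Z (g * v * g⁻¹) = d.Z v) : d.Act g (u a).1 := by
  obtain ⟨k, hk, hka⟩ := d.lift (u a)
  have hka' : d.Act k (u a).1 := hka
  apply hka'.congr
  intro v hv
  apply d.ext (d.conj_mem' hM hv) (d.conj_mem' hk hv)
  · rw [hX v hv, d.u_X hka' hv]
  · rw [hY v hv, d.u_Y hka' hv]
  · rw [hZ v hv, d.u_Z hka' hv]

theorem u_mul (a b : K) : (u a * u b : Matrix.SpecialLinearGroup (Fin 2) K) = u (a + b) := by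
  apply Subtype.ext
  rw [Matrix.SpecialLinearGroup.coe_mul]
  ext i j
  fin_cases i <;> fin_cases j <;> simp [u, Matrix.mul_apply, Fin.sum_univ_two, add_comm]

theorem u_zero : (u 0 : Matrix.SpecialLinearGroup (Fin 2) K) = 1 := by
  apply Subtype.ext
  ext i j
  fin_cases i <;> fin_cases j <;> simp [u]

theorem u_inv (a : K) : (u a : Matrix.SpecialLinearGroup (Fin 2) K)⁻¹ = u a := by
  rw [inv_eq_iff_mul_eq_one, u_mul, CharTwo.add_self_eq_zero, u_zero]

theorem u_inj {a b : K} (h : (u a : Matrix.SpecialLinearGroup (Fin 2) K).1 = (u b).1) : a = b := by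
  have := congrFun (congrFun h 0) 1
  simpa [u] using this

/-- the action is faithful -/
theorem act_faithful {g : G} {A B : Matrix.SpecialLinearGroup (Fin 2) K} (hA : d.Act g A.1)
    (hB : d.Act g B.1) (hM : g ∈ M) : A = B := by
  have h1 : d.Act 1 (B⁻¹ * A).1 := by
    have h2 := (hB.inv hM).mul hA hM
    rw [inv_mul_cancel] at h2
    exact h2
  set C := B⁻¹ * A with hC
  obtain ⟨v1, hv1, a1, a2, a3⟩ := d.exists_v 1 0 0 (map_one σ) (map_zero σ)
  obtain ⟨v2, hv2, b1, b2, b3⟩ := d.exists_v 0 0 1 (map_zero σ) (map_one σ)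
  have c1 := h1.Z hv1
  have c2 := h1.X hv2
  have c3 := h1.X hv1
  have hdet := C.2
  rw [Matrix.det_fin_two] at hdet
  simp only [one_mul, inv_one, mul_one, a1, a2, a3, b1, b2, b3, map_zero, mul_zero, add_zero,
    zero_add, zero_mul] at c1 c2 c3
  have e1 : C.1 1 0 = 0 := by
    rcases mul_eq_zero.mp c1.symm with h | h
    · exact h
    · exact (map_eq_zero σ).mp h
  have e2 : C.1 0 1 = 0 := by
    rcases mul_eq_zero.mp c2.symm with h | h
    · exact h
    · exact (map_eq_zero σ).mp h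
  rw [e1, e2, mul_zero, sub_zero] at hdet
  -- `(0, y, 0)` is fixed for all `y`, so `a σ d = 1`
  obtain ⟨v3, hv3, f1, f2, f3⟩ := d.exists_v 0 1 0 (map_zero σ) (map_zero σ)
  have c4 := h1.Y hv3
  simp only [one_mul, inv_one, mul_one, f1, f2, f3, e1, e2, map_zero, mul_zero, add_zero,
    zero_add, zero_mul] at c4
  have g1 : σ (C.1 0 0) = σ (C.1 1 1) := by
    have ha : C.1 0 0 ≠ 0 := by
      intro h0
      rw [h0, zero_mul] at hdet
      exact zero_ne_one hdet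
    exact mul_left_cancel₀ ha (c3.symm.trans c4)
  have g2 : C.1 0 0 = C.1 1 1 := σ.injective g1
  have g3 : C.1 0 0 = 1 := by
    rw [← g2] at hdet
    have : (C.1 0 0 - 1) * (C.1 0 0 - 1) = 0 := by
      have h2 : (2 : K) = 0 := CharTwo.two_eq_zero
      linear_combination hdet - C.1 0 0 * h2 + h2
    exact sub_eq_zero.mp (mul_self_eq_zero.mp this)
  have g4 : C = 1 := by
    apply Subtype.ext
    ext i j
    fin_cases i <;> fin_cases j
    · simpa using g3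
    · simpa using e2
    · simpa using e1
    · simpa [← g2] using g3
  rw [hC, inv_mul_eq_one] at g4
  exact g4.symm

theorem u_comm_l (a b : K) (A : Matrix.SpecialLinearGroup (Fin 2) K) (ha : a ≠ 0)
    (h : A * u a = u a * A) : ∃ b, A = u b := by
  have h1 := congrArg Subtype.val h
  rw [Matrix.SpecialLinearGroup.coe_mul, Matrix.SpecialLinearGroup.coe_mul] at h1
  have h2 := congrFun (congrFun h1 0) 0
  have h3 := congrFun (congrFun h1 0) 1
  simp [u, Matrix.mul_apply, Fin.sum_univ_two] at h2 h3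
  have e1 : A.1 1 0 = 0 := by
    rcases h2 with h | h
    · exact absurd h ha
    · exact h
  have e2 : A.1 0 0 = A.1 1 1 := by
    have : a * (A.1 0 0 - A.1 1 1) = 0 := by
      have h4 : A.1 0 0 * a + A.1 0 1 = A.1 0 1 + a * A.1 1 1 := h3
      linear_combination h4
    rcases mul_eq_zero.mp this with h | h
    · exact absurd h ha
    · exact sub_eq_zero.mp h
  have hdet := A.2
  rw [Matrix.det_fin_two, e1, mul_zero, sub_zero, ← e2] at hdet
  have e3 : A.1 0 0 = 1 := by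
    have : (A.1 0 0 - 1) * (A.1 0 0 - 1) = 0 := by
      have h2 : (2 : K) = 0 := CharTwo.two_eq_zero
      linear_combination hdet - A.1 0 0 * h2 + h2
    exact sub_eq_zero.mp (mul_self_eq_zero.mp this)
  refine ⟨A.1 0 1, ?_⟩
  apply Subtype.ext
  ext i j
  fin_cases i <;> fin_cases j
  · simpa [u] using e3
  · simp [u]
  · simpa [u] using e1
  · simpa [u, ← e2] using e3

/-- an involution of `SL₂(K)` is conjugate to some `u b`, by `1` or by `u κ w` -/
theorem invol_cases (B : Matrix.SpecialLinearGroup (Fin 2) K) (h1 : B * B = 1) (h2 : B ≠ 1) :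
    (∃ b, b ≠ 0 ∧ B = u b) ∨ ∃ κ b, b ≠ 0 ∧ B = (u κ * w) * u b * (u κ * w)⁻¹ := by
  have h3 := congrArg Subtype.val h1
  rw [Matrix.SpecialLinearGroup.coe_mul, Matrix.SpecialLinearGroup.coe_one] at h3
  have m00 := congrFun (congrFun h3 0) 0
  have m01 := congrFun (congrFun h3 0) 1
  have m10 := congrFun (congrFun h3 1) 0
  have m11 := congrFun (congrFun h3 1) 1
  simp [Matrix.mul_apply, Fin.sum_univ_two] at m00 m01 m10 m11
  have hdet := B.2
  rw [Matrix.det_fin_two] at hdet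
  set a := B.1 0 0 with ha
  set b := B.1 0 1 with hb
  set c := B.1 1 0 with hc
  set e := B.1 1 1 with he
  have t2 : (2 : K) = 0 := CharTwo.two_eq_zero
  have h00 : a * a + b * c = 1 := m00
  have h01 : a * b + b * e = 0 := m01
  have h10 : c * a + e * c = 0 := m10
  have h11 : c * b + e * e = 1 := m11
  have hd : a * e - b * c = 1 := hdet
  have hae : a = e := by
    by_contra hne
    have hne' : a + e ≠ 0 := by
      intro h0
      apply hne
      have : a = -e := eq_neg_of_add_eq_zero_left h0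
      rw [this, CharTwo.neg_eq]
    have p1 : a * (a + e) = 0 := by linear_combination h00 + hd + t2
    have p2 : b * (a + e) = 0 := by linear_combination h01
    have p3 : c * (a + e) = 0 := by linear_combination h10
    have q1 := (mul_eq_zero.mp p1).resolve_right hne'
    have q2 := (mul_eq_zero.mp p2).resolve_right hne'
    rw [q1, q2] at h00
    simp at h00
  by_cases hc0 : c = 0
  · left
    have ha1 : a = 1 := by
      have : (a - 1) * (a - 1) = 0 := by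
        rw [hc0, mul_zero, add_zero] at h00
        linear_combination h00 - a * t2 + t2
      exact sub_eq_zero.mp (mul_self_eq_zero.mp this)
    refine ⟨b, ?_, ?_⟩
    · intro hb0
      apply h2
      apply Subtype.ext
      ext i j
      fin_cases i <;> fin_cases j
      · simpa using ha.symm.trans ha1
      · simpa using hb.symm.trans hb0
      · simpa using hc.symm.trans hc0
      · simpa using he.symm.trans (hae.symm.trans ha1)
    · apply Subtype.ext
      ext i j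
      fin_cases i <;> fin_cases j
      · simpa [u] using ha.symm.trans ha1
      · simpa [u] using hb.symm
      · simpa [u] using hc.symm.trans hc0
      · simpa [u] using he.symm.trans (hae.symm.trans ha1)
  · right
    refine ⟨(1 + a) / c, c, hc0, ?_⟩
    have e1 : (u ((1 + a) / c) * w : Matrix.SpecialLinearGroup (Fin 2) K)⁻¹ = w * u ((1 + a) / c) := by
      rw [inv_eq_iff_mul_eq_one]
      apply Subtype.ext
      simp only [Matrix.SpecialLinearGroup.coe_mul, Matrix.SpecialLinearGroup.coe_one]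
      ext i j
      fin_cases i <;> fin_cases j <;>
        simp [u, w, Matrix.mul_apply, Fin.sum_univ_two, CharTwo.add_self_eq_zero]
    rw [e1]
    have f1 : (1 + a) / c * c = 1 + a := div_mul_cancel₀ _ hc0
    apply Subtype.ext
    simp only [Matrix.SpecialLinearGroup.coe_mul]
    ext i j
    fin_cases i <;> fin_cases j
    · simp [u, w, Matrix.mul_apply, Fin.sum_univ_two]
      change a = (1 + a) / c * c + 1
      rw [f1]
      linear_combination (-1 : K) * t2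
    · simp [u, w, Matrix.mul_apply, Fin.sum_univ_two]
      change b = (1 + a) / c + ((1 + a) / c * c + 1) * ((1 + a) / c)
      rw [f1]
      field_simp
      linear_combination h00 - t2 * (1 + 2 * a + a ^ 2)
    · simp [u, w, Matrix.mul_apply, Fin.sum_univ_two]
      exact hc.symm
    · simp [u, w, Matrix.mul_apply, Fin.sum_univ_two]
      change e = 1 + c * ((1 + a) / c)
      rw [mul_comm c, f1, ← hae]
      linear_combination (-1 : K) * t2

/-! ### points -/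

/-- the singular point `(x, 0, 0)` -/
def R0 (d : Co K σ M V) : Subgroup G where
  carrier := {v | v ∈ V ∧ d.Y v = 0 ∧ d.Z v = 0}
  one_mem' := ⟨V.one_mem, d.Y_one, d.Z_one⟩
  mul_mem' := by
    rintro a b ⟨ha, ha1, ha2⟩ ⟨hb, hb1, hb2⟩
    exact ⟨V.mul_mem ha hb, by rw [d.Y_mul ha hb, ha1, hb1, add_zero],
      by rw [d.Z_mul ha hb, ha2, hb2, add_zero]⟩
  inv_mem' := by
    rintro a ⟨ha, ha1, ha2⟩
    rw [d.inv_eq ha]
    exact ⟨ha, ha1, ha2⟩

/-- the singular point `(0, 0, z)` -/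
def Roo (d : Co K σ M V) : Subgroup G where
  carrier := {v | v ∈ V ∧ d.X v = 0 ∧ d.Y v = 0}
  one_mem' := ⟨V.one_mem, d.X_one, d.Y_one⟩
  mul_mem' := by
    rintro a b ⟨ha, ha1, ha2⟩ ⟨hb, hb1, hb2⟩
    exact ⟨V.mul_mem ha hb, by rw [d.X_mul ha hb, ha1, hb1, add_zero],
      by rw [d.Y_mul ha hb, ha2, hb2, add_zero]⟩
  inv_mem' := by
    rintro a ⟨ha, ha1, ha2⟩
    rw [d.inv_eq ha]
    exact ⟨ha, ha1, ha2⟩

/-- `R0^⊥` : `(x, y, 0)` -/
def E0 (d : Co K σ M V) : Subgroup G where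
  carrier := {v | v ∈ V ∧ d.Z v = 0}
  one_mem' := ⟨V.one_mem, d.Z_one⟩
  mul_mem' := by
    rintro a b ⟨ha, ha1⟩ ⟨hb, hb1⟩
    exact ⟨V.mul_mem ha hb, by rw [d.Z_mul ha hb, ha1, hb1, add_zero]⟩
  inv_mem' := by
    rintro a ⟨ha, ha1⟩
    rw [d.inv_eq ha]
    exact ⟨ha, ha1⟩

theorem mem_R0 {v : G} : v ∈ d.R0 ↔ v ∈ V ∧ d.Y v = 0 ∧ d.Z v = 0 := Iff.rfl

theorem mem_Roo {v : G} : v ∈ d.Roo ↔ v ∈ V ∧ d.X v = 0 ∧ d.Y v = 0 := Iff.rfl

theorem mem_E0 {v : G} : v ∈ d.E0 ↔ v ∈ V ∧ d.Z v = 0 := Iff.rfl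

theorem R0_le_E0 : d.R0 ≤ d.E0 := fun v hv => ⟨hv.1, hv.2.2⟩

theorem R0_le : d.R0 ≤ V := fun v hv => hv.1

theorem Roo_le : d.Roo ≤ V := fun v hv => hv.1

theorem E0_le : d.E0 ≤ V := fun v hv => hv.1

include d in
/-- the trace is onto -/
theorem exists_tr (x : K) (hx : σ x = x) (b : K) (hb : b ≠ 0) : ∃ y, b * σ y + y * σ b = x := by
  obtain ⟨k, hk⟩ := d.nt
  have hsb : σ b ≠ 0 := by
    intro h0
    exact hb ((map_eq_zero σ).mp h0)
  have ht : k + σ k ≠ 0 := by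
    intro h0
    apply hk
    have : σ k = -k := eq_neg_of_add_eq_zero_right h0
    rw [this, CharTwo.neg_eq]
  refine ⟨x * (k + σ k)⁻¹ * k * (σ b)⁻¹, ?_⟩
  have e1 : σ (k + σ k) = k + σ k := by rw [map_add, d.inv, add_comm]
  rw [map_mul, map_mul, map_mul, map_inv₀, e1, hx, map_inv₀, d.inv]
  field_simp
  ring

/-- `C_V(U₀) = R0` -/
theorem mem_R0_of_fix {v : G} (hv : v ∈ V)
    (hf : ∀ a : K, a ≠ 0 → ∀ g ∈ M, d.Act g (u a).1 → g * v * g⁻¹ = v) : v ∈ d.R0 := by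
  obtain ⟨g1, hg1, h1⟩ := d.lift (u 1)
  have f1 := hf 1 one_ne_zero g1 hg1 h1
  have f2 := d.u_Y h1 hv
  rw [f1, one_mul] at f2
  have hZ : d.Z v = 0 := left_eq_add.mp f2
  refine ⟨hv, ?_, hZ⟩
  by_contra hY
  obtain ⟨a, ha⟩ := d.exists_tr 1 (map_one σ) _ hY
  have ha0 : a ≠ 0 := by
    rintro rfl
    simp at ha
  obtain ⟨g2, hg2, h2⟩ := d.lift (u a)
  have f3 := hf a ha0 g2 hg2 h2
  have f4 := d.u_X h2 hv
  rw [f3, hZ, mul_zero, add_zero, add_assoc] at f4
  have f5 : a * σ (d.Y v) + d.Y v * σ a = 0 := left_eq_add.mp f4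
  rw [add_comm, f5] at ha
  exact zero_ne_one ha

theorem fix_of_mem_R0 {v : G} (hv : v ∈ d.R0) {a : K} {g : G} (hM : g ∈ M) (hg : d.Act g (u a).1) :
    g * v * g⁻¹ = v := by
  apply d.ext (d.conj_mem' hM hv.1) hv.1
  · rw [d.u_X hg hv.1, hv.2.1, hv.2.2]; simp
  · rw [d.u_Y hg hv.1, hv.2.1, hv.2.2]; simp
  · rw [d.u_Z hg hv.1]

end two

/-! ### moving the coordinates -/

section mv

variable [CharP K 2] (d : Co K σ M V)

/-- the coordinates moved by `g ∈ M` -/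
def mv (g : G) (hg : g ∈ M) : Co K σ M V where
  e := fun v => d.e (g⁻¹ * v * g⁻¹⁻¹)
  herm := fun v hv => d.herm _ (d.conj_mem' (M.inv_mem hg) hv)
  mul := fun v hv w hw => by
    have h1 : g⁻¹ * (v * w) * g⁻¹⁻¹ = (g⁻¹ * v * g⁻¹⁻¹) * (g⁻¹ * w * g⁻¹⁻¹) := by group
    rw [h1]
    exact d.mul _ (d.conj_mem' (M.inv_mem hg) hv) _ (d.conj_mem' (M.inv_mem hg) hw)
  surj := fun X hX => by
    obtain ⟨v, hv, he⟩ := d.surj X hX
    refine ⟨g * v * g⁻¹, d.conj_mem' hg hv, ?_⟩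
    have h1 : g⁻¹ * (g * v * g⁻¹) * g⁻¹⁻¹ = v := by group
    rw [h1, he]
  ker := fun v hv h0 => by
    have h1 := d.ker _ (d.conj_mem' (M.inv_mem hg) hv) h0
    have h2 : v = g * (g⁻¹ * v * g⁻¹⁻¹) * g⁻¹ := by group
    rw [h2, h1]; group
  nor := d.nor
  lift := fun A => by
    obtain ⟨h, hh, ha⟩ := d.lift A
    refine ⟨g * h * g⁻¹, M.mul_mem (M.mul_mem hg hh) (M.inv_mem hg), ?_⟩
    intro v hv
    have h1 := ha _ (d.conj_mem' (M.inv_mem hg) hv)
    have h2 : g⁻¹ * (g * h * g⁻¹ * v * (g * h * g⁻¹)⁻¹) * g⁻¹⁻¹ = h * (g⁻¹ * v * g⁻¹⁻¹) * h⁻¹ := by group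
    rw [h2]
    exact h1
  norm := fun m hm h hh A hA => by
    have hgi := M.inv_mem hg
    have h1 : ∀ v ∈ V, d.e ((g⁻¹ * h * g) * v * (g⁻¹ * h * g)⁻¹) =
        A.1 * d.e v * (A.1.map σ).transpose := by
      intro v hv
      have h2 := hA _ (d.conj_mem' hg hv)
      have h3 : g⁻¹ * (h * (g * v * g⁻¹) * h⁻¹) * g⁻¹⁻¹ = (g⁻¹ * h * g) * v * (g⁻¹ * h * g)⁻¹ := by group
      have h4 : g⁻¹ * (g * v * g⁻¹) * g⁻¹⁻¹ = v := by group
      rw [h3, h4] at h2
      exact h2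
    obtain ⟨B, hB⟩ := d.norm (g⁻¹ * m * g) (M.mul_mem (M.mul_mem hgi hm) hg) (g⁻¹ * h * g)
      (M.mul_mem (M.mul_mem hgi hh) hg) A h1
    refine ⟨B, fun v hv => ?_⟩
    have h5 := hB _ (d.conj_mem' hgi hv)
    have h6 : g⁻¹ * (m * h * m⁻¹ * v * (m * h * m⁻¹)⁻¹) * g⁻¹⁻¹ =
      g⁻¹ * m * g * (g⁻¹ * h * g) * (g⁻¹ * m * g)⁻¹ * (g⁻¹ * v * g⁻¹⁻¹) *
        (g⁻¹ * m * g * (g⁻¹ * h * g) * (g⁻¹ * m * g)⁻¹)⁻¹ := by group
    rw [h6]
    exact h5
  inv := d.inv
  nt := d.nt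

theorem mv_act {g : G} (hg : g ∈ M) {h : G} {A : Matrix (Fin 2) (Fin 2) K} :
    (d.mv g hg).Act h A ↔ d.Act (g⁻¹ * h * g) A := by
  constructor
  · intro H v hv
    have h2 := H _ (d.conj_mem' hg hv)
    have h3 : g⁻¹ * (h * (g * v * g⁻¹) * h⁻¹) * g⁻¹⁻¹ = (g⁻¹ * h * g) * v * (g⁻¹ * h * g)⁻¹ := by group
    have h4 : g⁻¹ * (g * v * g⁻¹) * g⁻¹⁻¹ = v := by group
    change d.e (g⁻¹ * (h * (g * v * g⁻¹) * h⁻¹) * g⁻¹⁻¹) =
      A * d.e (g⁻¹ * (g * v * g⁻¹) * g⁻¹⁻¹) * (A.map σ).transpose at h2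
    rw [h3, h4] at h2
    exact h2
  · intro H v hv
    have h2 := H _ (d.conj_mem' (M.inv_mem hg) hv)
    have h3 : g⁻¹ * h * g * (g⁻¹ * v * g⁻¹⁻¹) * (g⁻¹ * h * g)⁻¹ = g⁻¹ * (h * v * h⁻¹) * g⁻¹⁻¹ := by group
    rw [h3] at h2
    exact h2

theorem mv_R0 {g : G} (hg : g ∈ M) : (d.mv g hg).R0 = cj g d.R0 := by
  ext v
  rw [mem_cj]
  constructor
  · rintro ⟨h1, h2, h3⟩
    have := d.conj_mem' (M.inv_mem hg) h1
    rw [inv_inv] at this
    refine ⟨this, ?_, ?_⟩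
    · simpa [Y, mv] using h2
    · simpa [Z, mv] using h3
  · rintro ⟨h1, h2, h3⟩
    have := d.conj_mem' hg h1
    have e1 : g * (g⁻¹ * v * g) * g⁻¹ = v := by group
    rw [e1] at this
    refine ⟨this, ?_, ?_⟩
    · simpa [Y, mv] using h2
    · simpa [Z, mv] using h3

theorem mv_Roo {g : G} (hg : g ∈ M) : (d.mv g hg).Roo = cj g d.Roo := by
  ext v
  rw [mem_cj]
  constructor
  · rintro ⟨h1, h2, h3⟩
    have := d.conj_mem' (M.inv_mem hg) h1
    rw [inv_inv] at this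
    refine ⟨this, ?_, ?_⟩
    · simpa [X, mv] using h2
    · simpa [Y, mv] using h3
  · rintro ⟨h1, h2, h3⟩
    have := d.conj_mem' hg h1
    have e1 : g * (g⁻¹ * v * g) * g⁻¹ = v := by group
    rw [e1] at this
    refine ⟨this, ?_, ?_⟩
    · simpa [X, mv] using h2
    · simpa [Y, mv] using h3

theorem mv_E0 {g : G} (hg : g ∈ M) : (d.mv g hg).E0 = cj g d.E0 := by
  ext v
  rw [mem_cj]
  constructor
  · rintro ⟨h1, h2⟩
    have := d.conj_mem' (M.inv_mem hg) h1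
    rw [inv_inv] at this
    refine ⟨this, ?_⟩
    simpa [Z, mv] using h2
  · rintro ⟨h1, h2⟩
    have := d.conj_mem' hg h1
    have e1 : g * (g⁻¹ * v * g) * g⁻¹ = v := by group
    rw [e1] at this
    refine ⟨this, ?_⟩
    simpa [Z, mv] using h2

end mv

/-! ### `M` is doubly transitive on the points -/

section trans

variable [CharP K 2] (d : Co K σ M V)

include d in
theorem cen_conj {g c : G} (hg : g ∈ M) (hc : c ∈ centralizer (V : Set G)) :
    g * c * g⁻¹ ∈ centralizer (V : Set G) := by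
  rw [mem_centralizer_iff] at hc ⊢
  intro v hv
  have h1 := d.conj_mem' (M.inv_mem hg) hv
  have h2 := hc _ h1
  calc v * (g * c * g⁻¹) = g * ((g⁻¹ * v * g⁻¹⁻¹) * c) * g⁻¹ := by group
    _ = g * (c * (g⁻¹ * v * g⁻¹⁻¹)) * g⁻¹ := by rw [h2]
    _ = g * c * g⁻¹ * v := by group

include d in
theorem conj_congr {g x y : G} (hg : g ∈ M) (h : ∀ v ∈ V, x * v * x⁻¹ = y * v * y⁻¹) {v : G} (hv : v ∈ V) :
    (g * x * g⁻¹) * v * (g * x * g⁻¹)⁻¹ = (g * y * g⁻¹) * v * (g * y * g⁻¹)⁻¹ := by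
  have h1 := h _ (d.conj_mem' (M.inv_mem hg) hv)
  calc (g * x * g⁻¹) * v * (g * x * g⁻¹)⁻¹ = g * (x * (g⁻¹ * v * g⁻¹⁻¹) * x⁻¹) * g⁻¹ := by group
    _ = g * (y * (g⁻¹ * v * g⁻¹⁻¹) * y⁻¹) * g⁻¹ := by rw [h1]
    _ = _ := by group

theorem exists_act (A : Matrix.SpecialLinearGroup (Fin 2) K) : ∃ g ∈ M, d.Act g A.1 := d.lift A

theorem conj_act {g k : G} (hg : g ∈ M) (hk : k ∈ M) {A : Matrix.SpecialLinearGroup (Fin 2) K}
    (hA : d.Act k A.1) : ∃ B : Matrix.SpecialLinearGroup (Fin 2) K, d.Act (g * k * g⁻¹) B.1 :=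
  d.norm g hg k hk A hA

theorem Act.mulS {d : Co K σ M V} {g k : G} {A B : Matrix.SpecialLinearGroup (Fin 2) K} (hg : d.Act g A.1)
    (hk : d.Act k B.1) (hM : k ∈ M) : d.Act (g * k) (A * B).1 := hg.mul hk hM

theorem one_ne_u {a : K} (ha : a ≠ 0) : (u a : Matrix.SpecialLinearGroup (Fin 2) K) ≠ 1 := by
  intro h
  rw [← u_zero] at h
  exact ha (u_inj (congrArg Subtype.val h))

theorem case_one [Finite G] {g g1 : G} (hg : g ∈ M) (hg1 : g1 ∈ M) (h1 : d.Act g1 (u 1).1) {b : K}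
    (hb : b ≠ 0) (h2 : d.Act (g * g1 * g⁻¹) (u b).1) : cj g d.R0 = d.R0 := by
  have hM : ∀ {x : G}, x ∈ M → g * x * g⁻¹ ∈ M := fun hx => M.mul_mem (M.mul_mem hg hx) (M.inv_mem hg)
  have hle : d.R0 ≤ cj g d.R0 := by
    intro v hv
    rw [mem_cj]
    have hv' : g⁻¹ * v * g ∈ V := by
      have := d.conj_mem' (M.inv_mem hg) hv.1
      rwa [inv_inv] at this
    apply d.mem_R0_of_fix hv'
    intro a ha h hh hact
    obtain ⟨B, hB⟩ := d.conj_act hg hh hact
    have k1 : d.Act (g * (h * g1) * g⁻¹) (B * u b).1 := by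
      have := hB.mulS h2 (hM hg1)
      have e : g * h * g⁻¹ * (g * g1 * g⁻¹) = g * (h * g1) * g⁻¹ := by group
      rwa [e] at this
    have k2 : d.Act (g * (g1 * h) * g⁻¹) (u b * B).1 := by
      have := h2.mulS hB (hM hh)
      have e : g * g1 * g⁻¹ * (g * h * g⁻¹) = g * (g1 * h) * g⁻¹ := by group
      rwa [e] at this
    have k3 : d.Act (h * g1) (u (a + 1)).1 := by
      rw [← u_mul]; exact hact.mulS h1 hg1
    have k4 : d.Act (g1 * h) (u (a + 1)).1 := by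
      rw [add_comm, ← u_mul]; exact h1.mulS hact hh
    have k5 : ∀ v ∈ V, (g1 * h) * v * (g1 * h)⁻¹ = (h * g1) * v * (h * g1)⁻¹ := fun v hv =>
      k4.eq k3 (M.mul_mem hg1 hh) (M.mul_mem hh hg1) hv
    have k6 : d.Act (g * (h * g1) * g⁻¹) (u b * B).1 :=
      k2.congr fun v hv => (d.conj_congr hg k5 hv).symm
    have k7 : B * u b = u b * B := d.act_faithful k1 k6 (hM (M.mul_mem hh hg1))
    obtain ⟨b', rfl⟩ := u_comm_l b 0 B hb k7
    have k8 := d.fix_of_mem_R0 hv (hM hh) hB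
    calc h * (g⁻¹ * v * g) * h⁻¹ = g⁻¹ * (g * h * g⁻¹ * v * (g * h * g⁻¹)⁻¹) * g := by group
      _ = g⁻¹ * v * g := by rw [k8]
  exact (Subgroup.eq_of_le_of_card_ge hle (by rw [card_cj])).symm

/-- `w` interchanges `R0` and `Roo` -/
theorem w_R0 {k : G} (hk : k ∈ M) (h : d.Act k (w : Matrix.SpecialLinearGroup (Fin 2) K).1) :
    cj k d.R0 = d.Roo := by
  have w1 : (w * w : Matrix.SpecialLinearGroup (Fin 2) K) = 1 := by
    apply Subtype.ext
    simp only [Matrix.SpecialLinearGroup.coe_mul, Matrix.SpecialLinearGroup.coe_one]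
    ext i j
    fin_cases i <;> fin_cases j <;> simp [w, Matrix.mul_apply, Fin.sum_univ_two]
  have w2 : (w : Matrix.SpecialLinearGroup (Fin 2) K)⁻¹ = w := inv_eq_of_mul_eq_one_left w1
  ext v
  rw [mem_cj]
  constructor
  · rintro ⟨h1, h2, h3⟩
    have hv := d.conj_mem' hk h1
    have e1 : k * (k⁻¹ * v * k) * k⁻¹ = v := by group
    have f1 := h.X h1
    have f2 := h.Y h1
    rw [e1, h2, h3] at f1 f2
    rw [e1] at hv
    simp [w] at f1 f2
    exact ⟨hv, f1, f2⟩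
  · rintro ⟨h1, h2, h3⟩
    have h' := h.inv hk
    rw [w2] at h'
    have hv := d.conj_mem' (M.inv_mem hk) h1
    have f1 := h'.Y h1
    have f2 := h'.Z h1
    rw [h2, h3] at f1 f2
    rw [inv_inv] at hv f1 f2
    simp [w] at f1 f2
    exact ⟨hv, f1, f2⟩

theorem R0_ne_Roo : d.R0 ≠ d.Roo := by
  intro h
  obtain ⟨v, hv, h1, h2, h3⟩ := d.exists_v 1 0 0 (map_one σ) (map_zero σ)
  have h4 : v ∈ d.R0 := ⟨hv, h2, h3⟩
  rw [h] at h4
  have h5 := h4.2.1
  rw [h1] at h5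
  exact one_ne_zero h5

/-- **double transitivity** -/
theorem two_trans [Finite G] {g : G} (hg : g ∈ M) (hne : cj g d.R0 ≠ d.R0) :
    ∃ κ : K, ∀ k ∈ M, d.Act k (u κ).1 → cj g d.R0 = cj k d.Roo := by
  obtain ⟨g1, hg1, h1⟩ := d.exists_act (u 1)
  obtain ⟨B, hB⟩ := d.conj_act hg hg1 h1
  have hM : g * g1 * g⁻¹ ∈ M := M.mul_mem (M.mul_mem hg hg1) (M.inv_mem hg)
  have hcM : ∀ {x : G}, x ∈ M → (x ∈ centralizer (V : Set G) ↔ d.Act x 1) := fun hx => (act_one_iff hx).symm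
  have hB1 : B ≠ 1 := by
    intro h0
    have h2 : g * g1 * g⁻¹ ∈ centralizer (V : Set G) := by
      rw [hcM hM]
      rw [h0] at hB
      exact hB
    have h3 := d.cen_conj (M.inv_mem hg) h2
    have h4 : g⁻¹ * (g * g1 * g⁻¹) * g⁻¹⁻¹ = g1 := by group
    rw [h4, hcM hg1] at h3
    have h5 : d.Act g1 (1 : Matrix.SpecialLinearGroup (Fin 2) K).1 := h3
    exact one_ne_u one_ne_zero (d.act_faithful h1 h5 hg1)
  have hB2 : B * B = 1 := by
    have h2 : d.Act (g1 * g1) (1 : Matrix.SpecialLinearGroup (Fin 2) K).1 := by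
      have := h1.mulS h1 hg1
      rwa [u_mul, CharTwo.add_self_eq_zero, u_zero] at this
    have h3 : g1 * g1 ∈ centralizer (V : Set G) := (hcM (M.mul_mem hg1 hg1)).mpr h2
    have h4 := d.cen_conj hg h3
    have hM2 : g * (g1 * g1) * g⁻¹ ∈ M := M.mul_mem (M.mul_mem hg (M.mul_mem hg1 hg1)) (M.inv_mem hg)
    have h5 : d.Act (g * (g1 * g1) * g⁻¹) (1 : Matrix.SpecialLinearGroup (Fin 2) K).1 := (hcM hM2).mp h4
    have h6 := hB.mulS hB hM
    have e : g * g1 * g⁻¹ * (g * g1 * g⁻¹) = g * (g1 * g1) * g⁻¹ := by group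
    rw [e] at h6
    exact d.act_faithful h6 h5 hM2
  rcases invol_cases B hB2 hB1 with ⟨b, hb, rfl⟩ | ⟨κ, b, hb, hBeq⟩
  · exact absurd (d.case_one hg hg1 h1 hb hB) hne
  · refine ⟨κ, fun k hk hka => ?_⟩
    obtain ⟨m, hm, hma⟩ := d.exists_act w
    have hkm : k * m ∈ M := M.mul_mem hk hm
    have hact : d.Act (k * m) (u κ * w).1 := hka.mulS hma hm
    have h2 : d.Act (((k * m)⁻¹ * g) * g1 * ((k * m)⁻¹ * g)⁻¹) (u b).1 := by
      have h3 := ((hact.inv hkm).mulS hB hM).mulS hact hkm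
      have e : (k * m)⁻¹ * (g * g1 * g⁻¹) * (k * m) = ((k * m)⁻¹ * g) * g1 * ((k * m)⁻¹ * g)⁻¹ := by group
      rw [e, hBeq] at h3
      have e2 : (u κ * w)⁻¹ * ((u κ * w) * u b * (u κ * w)⁻¹) * (u κ * w) = u b := by group
      rwa [e2] at h3
    have h4 := d.case_one (M.mul_mem (M.inv_mem hkm) hg) hg1 h1 hb h2
    rw [cj_mul] at h4
    have h5 := congrArg (cj (k * m)) h4
    rw [cj_cj_inv, cj_mul, d.w_R0 hm hma] at h5
    exact h5

end trans

end Co

end Cfsg.Agent.Omega.NO1.Beta.Inst
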