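import Cfsg.Agent.Omega.NO1.Beta.Inst

/-!
# THEOREM BETA, part E: the structure `Beta` for the singular points of `V = O₄⁻(q)`

`Pt d` : the singular points; `Hyp.beta : Hyp d O → … → Beta M V (fun i : Pt d => i.1) (fun i => O (N(i.1)))`;
`Hyp.VE`, `Hyp.tor` : the further input of `Meet.lean`; `Hyp.result` : THEOREM BETA for `V = O₄⁻(q)`.
-/

set_option autoImplicit false
set_option linter.unusedVariables false
set_option linter.unusedSectionVars false

open Subgroup
open scoped Pointwise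

namespace Cfsg.Agent.Omega.NO1.Beta.Inst

open Co (u l h w u_zero u_mul u_inv one_ne_u act_one act_one_iff)

variable {G : Type*} [Group G] {K : Type*} [Field K] {σ : K ≃+* K} {M V : Subgroup G}

/-- The singular points. -/
def Pt [CharP K 2] (d : Co K σ M V) : Type _ := {R : Subgroup G // ∃ g ∈ M, R = cj g d.R0}

namespace Hyp

variable [CharP K 2] {d : Co K σ M V} {O : Subgroup G → Subgroup G}

instance [Finite G] : Finite (Pt d) := by
  unfold Pt
  infer_instance

theorem cj_M {g : G} (hg : g ∈ M) : cj g M = M := by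
  ext x
  rw [mem_cj]
  constructor
  · intro hx
    have := M.mul_mem (M.mul_mem hg hx) (M.inv_mem hg)
    have e : g * (g⁻¹ * x * g) * g⁻¹ = x := by group
    rwa [e] at this
  · intro hx
    exact M.mul_mem (M.mul_mem (M.inv_mem hg) hx) hg

theorem cj_V {g : G} (d : Co K σ M V) (hg : g ∈ M) : cj g V = V :=
  mem_normalizer_iff_cj.mp (d.nor hg)

theorem mv_N {g : G} (hg : g ∈ M) :
    normalizer ((d.mv g hg).R0 : Set G) = cj g (normalizer (d.R0 : Set G)) := by
  rw [cj_normalizer, d.mv_R0 hg]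

theorem mv_Q (hO : IsO O) {g : G} (hg : g ∈ M) : Q (d.mv g hg) O = cj g (Q d O) := by
  unfold Q
  rw [mv_N, hO.cj_eq]

variable (H : Hyp d O)
include H

/-- the hypotheses for the moved coordinates -/
theorem mv {g : G} (hg : g ∈ M) : Hyp (d.mv g hg) O where
  isO := H.isO
  C_M := H.C_M
  Q_M := by
    have h1 : Q (d.mv g hg) O ≤ M := by
      rw [mv_Q H.isO hg]
      intro x hx
      have h2 := cj_mono (c := g) H.Q_M
      rw [cj_M hg] at h2
      exact h2 hx
    exact h1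
  char2 := by
    intro x hx hc
    change x ∈ Q (d.mv g hg) O
    rw [mv_Q H.isO hg, mem_cj]
    rw [mv_N hg, mem_cj] at hx
    apply H.char2 _ hx
    intro y hy
    have h1 : g * y * g⁻¹ ∈ Q (d.mv g hg) O := by
      rw [mv_Q H.isO hg]; exact conj_mem_cj hy
    have h2 := hc _ h1
    calc g⁻¹ * x * g * y = g⁻¹ * (x * (g * y * g⁻¹)) * g := by group
      _ = g⁻¹ * (g * y * g⁻¹ * x) * g := by rw [h2]
      _ = y * (g⁻¹ * x * g) := by group
  V_Q := by
    intro hV
    have h1 : V ≤ Q (d.mv g hg) O := hV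
    rw [mv_Q H.isO hg] at h1
    have h2 := cj_mono (c := g⁻¹) h1
    rw [cj_inv_cj, cj_V d (M.inv_mem hg)] at h2
    exact H.V_Q h2

omit H in
/-- coordinates with `i = (x, 0, 0)` -/
theorem one (i : Pt d) : ∃ (g : G) (hg : g ∈ M), i.1 = (d.mv g hg).R0 := by
  obtain ⟨g, hg, he⟩ := i.2
  exact ⟨g, hg, by rw [d.mv_R0 hg]; exact he⟩

omit H in
/-- coordinates with `i = (x, 0, 0)`, `j = (0, 0, z)` -/
theorem pair [Finite G] {i j : Pt d} (hij : i ≠ j) :
    ∃ (g : G) (hg : g ∈ M), i.1 = (d.mv g hg).R0 ∧ j.1 = (d.mv g hg).Roo := by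
  obtain ⟨g, hg, he⟩ := one i
  obtain ⟨g', hg', he'⟩ := j.2
  have hM : g' * g⁻¹ ∈ M := M.mul_mem hg' (M.inv_mem hg)
  have h1 : j.1 = cj (g' * g⁻¹) (d.mv g hg).R0 := by
    rw [cj_mul, d.mv_R0 hg, cj_inv_cj]; exact he'
  have h2 : cj (g' * g⁻¹) (d.mv g hg).R0 ≠ (d.mv g hg).R0 := by
    rw [← h1, ← he]
    intro h0
    exact hij (Subtype.ext h0.symm)
  obtain ⟨κ, hκ⟩ := (d.mv g hg).two_trans hM h2
  obtain ⟨k, hk, hka⟩ := (d.mv g hg).exists_act (u κ)
  refine ⟨k * g, M.mul_mem hk hg, ?_, ?_⟩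
  · rw [d.mv_R0, cj_mul, ← d.mv_R0 hg, Co.u_R0 hk hka]; exact he
  · rw [d.mv_Roo, cj_mul, ← d.mv_Roo hg, ← hκ k hk hka]; exact h1

omit H in
theorem ne_pt (g : G) (hg : g ∈ M) : (d.mv g hg).R0 ≠ (d.mv g hg).Roo := (d.mv g hg).R0_ne_Roo

omit H in
/-- `|R₀| < |K|` -/
theorem card_R0_lt [Finite K] (d : Co K σ M V) : Nat.card d.R0 < Nat.card K := by
  classical
  obtain ⟨κ, hκ⟩ := d.nt
  let f : d.R0 → K := fun v => d.X v
  have hf : Function.Injective f := by
    intro v v' hvv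
    apply Subtype.ext
    apply d.ext v.2.1 v'.2.1 hvv
    · rw [v.2.2.1, v'.2.2.1]
    · rw [v.2.2.2, v'.2.2.2]
  have hs : κ ∉ Set.range f := by
    rintro ⟨v, hv⟩
    apply hκ
    rw [← hv]
    exact d.sX v.2.1
  have h1 : Set.range f ≠ Set.univ := fun h0 => hs (h0 ▸ Set.mem_univ κ)
  have h2 : Nat.card (Set.range f) = Nat.card d.R0 := Nat.card_range_of_injective hf
  rw [← h2, Nat.card_coe_set_eq, ← Set.ncard_univ]
  exact Set.ncard_lt_ncard (Set.ssubset_univ_iff.mpr h1) (Set.toFinite _)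

omit H in
theorem card_Pt [Finite G] [Finite K] (d : Co K σ M V) : Nat.card K + 1 ≤ Nat.card (Pt d) := by
  classical
  choose k hk hka using fun a : K => d.exists_act (u a)
  obtain ⟨m, hm, hmR⟩ := Co.Roo_eq d
  let f : Option K → Pt d := fun o => match o with
    | none => ⟨d.R0, 1, M.one_mem, by rw [cj_one]⟩
    | some a => ⟨cj (k a) d.Roo, k a * m, M.mul_mem (hk a) hm, by rw [cj_mul, hmR]⟩
  have hf : Function.Injective f := by
    obtain ⟨v, hv, x1, y1, z1⟩ := d.exists_v 0 0 1 (map_zero σ) (map_one σ)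
    have hv' : v ∈ d.Roo := ⟨hv, x1, y1⟩
    have hz : ∀ a, k a * v * (k a)⁻¹ ∈ cj (k a) d.Roo := fun a => conj_mem_cj hv'
    have hZ : ∀ a, d.Z (k a * v * (k a)⁻¹) = 1 := fun a => by rw [d.u_Z (hka a) hv, z1]
    have hY : ∀ a, d.Y (k a * v * (k a)⁻¹) = a := fun a => by rw [d.u_Y (hka a) hv, z1, y1]; simp
    have hne : ∀ a, d.R0 ≠ cj (k a) d.Roo := by
      intro a h0
      have h1 := hz a
      rw [← h0] at h1
      have h2 := h1.2.2
      rw [hZ a] at h2
      exact one_ne_zero h2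
    intro o o' hoo
    match o, o', hoo with
    | none, none, _ => rfl
    | none, some a, hoo => exact absurd (congrArg Subtype.val hoo) (hne a)
    | some a, none, hoo => exact absurd (congrArg Subtype.val hoo).symm (hne a)
    | some a, some b, hoo =>
      have h0 : cj (k a) d.Roo = cj (k b) d.Roo := congrArg Subtype.val hoo
      have h1 := hz a
      rw [h0, mem_cj] at h1
      -- the element `(k b)⁻¹ k a v …` of `Roo` has `Z = 1`
      have h2 := d.conj_mem' (hk a) hv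
      have h3 := d.conj_mem' (M.inv_mem (hk b)) h2
      rw [inv_inv] at h3
      have hb' : d.Act (k b)⁻¹ (u b).1 := by
        have := (hka b).inv (hk b)
        rwa [u_inv] at this
      have h4 := d.u_Y hb' h2
      rw [inv_inv, h1.2.2, hY a, hZ a, mul_one] at h4
      have : a = b := by
        have h5 := eq_neg_of_add_eq_zero_left h4.symm
        rwa [CharTwo.neg_eq] at h5
      rw [this]
  have h1 := Nat.card_le_card_of_injective f hf
  rwa [Finite.card_option] at h1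

/-- **The instance of THEOREM BETA.** -/
theorem beta [Finite G] [Finite K]
    (meet : ∀ N : Subgroup G, IsPGroup 2 N → N ≤ M → (∀ m ∈ M, ∀ y ∈ N, m * y * m⁻¹ ∈ N) →
      N ⊓ V = ⊥ → N = ⊥) :
    Beta M V (fun i : Pt d => i.1) (fun i => O (normalizer (i.1 : Set G))) where
  C_M := H.C_M
  M_V := d.nor
  V_comm := fun a ha b hb => d.comm ha hb
  V_sq := fun a ha => d.sq ha
  R_le := fun i => by
    obtain ⟨g, hg, hi⟩ := one i
    rw [hi]; exact Co.R0_le _
  R_Q := fun i => by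
    obtain ⟨g, hg, hi⟩ := one i
    rw [hi]; exact (H.mv hg).R0_Q
  RQ := fun i r hr y hy => by
    obtain ⟨g, hg, hi⟩ := one i
    rw [hi] at hr hy
    exact (H.mv hg).R0_central hr hy
  ne := fun i => by
    obtain ⟨g, hg, hi⟩ := one i
    rw [hi]
    intro h0
    obtain ⟨v, hv, x1, y1, z1⟩ := (d.mv g hg).exists_v 1 0 0 (map_one σ) (map_zero σ)
    have h1 : v ∈ (d.mv g hg).R0 := ⟨hv, y1, z1⟩
    rw [h0, mem_bot] at h1
    rw [h1, Co.X_one] at x1
    exact zero_ne_one x1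
  disj := fun i j hij => by
    obtain ⟨g, hg, hi, hj⟩ := pair hij
    rw [hi, hj, eq_bot_iff_forall]
    rintro v ⟨h1, h2⟩
    apply (d.mv g hg).ext h1.1 V.one_mem
    · rw [h2.2.1, Co.X_one]
    · rw [h2.2.2, Co.Y_one]
    · rw [h1.2.2, Co.Z_one]
  two := fun i => H.isO.two _
  Q_M := fun i => by
    obtain ⟨g, hg, hi⟩ := one i
    rw [hi]; exact (H.mv hg).Q_M
  V_Q := fun i => by
    obtain ⟨g, hg, hi⟩ := one i
    rw [hi]; exact (H.mv hg).V_Q
  nor := fun i c hc y hy => H.isO.nor _ c hc y hy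
  perm := fun m hm i => by
    obtain ⟨g, hg, hi⟩ := i.2
    refine ⟨⟨cj m i.1, m * g, M.mul_mem hm hg, by rw [cj_mul, hi]⟩, rfl, ?_⟩
    change cj m (O (normalizer (i.1 : Set G))) = O (normalizer ((cj m i.1 : Subgroup G) : Set G))
    rw [H.isO.cj_eq, cj_normalizer]
  max := fun i N h1 h2 h3 => H.isO.max _ N h1 h2 h3
  char2 := fun i => by
    obtain ⟨g, hg, hi⟩ := one i
    rw [hi]
    intro x hx
    have h1 : ∀ y ∈ O (normalizer ((d.mv g hg).R0 : Set G)), x * y = y * x := fun y hy =>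
      (mem_centralizer_iff.mp hx y hy).symm
    apply (H.mv hg).char2 x _ h1
    rw [mem_normalizer_iff_cj]
    ext r
    rw [mem_cj]
    constructor
    · intro hr
      have h2 := h1 _ ((H.mv hg).R0_Q hr)
      have e : r = x * (x⁻¹ * r * x) * x⁻¹ := by group
      rw [e, h2, mul_inv_cancel_right]; exact hr
    · intro hr
      have h2 := h1 _ ((H.mv hg).R0_Q hr)
      rw [mul_assoc, ← h2, inv_mul_cancel_left]; exact hr
  EQ := fun i e he y hy => by
    obtain ⟨g, hg, hi⟩ := one i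
    rw [hi] at he hy ⊢
    have h1 : e ∈ V ⊓ Q (d.mv g hg) O := he
    rw [(H.mv hg).V_inf_Q] at h1
    exact (H.mv hg).EQ h1 hy
  EQs := fun i y hy hyV r hr => by
    obtain ⟨g, hg, hi⟩ := one i
    rw [hi] at hy hr ⊢
    change ∃ e ∈ V ⊓ Q (d.mv g hg) O, _
    rw [(H.mv hg).V_inf_Q]
    exact (H.mv hg).EQs hy hyV hr
  cenR := fun i v hv hc => by
    obtain ⟨g, hg, hi⟩ := one i
    rw [hi] at hc ⊢
    exact (H.mv hg).cenR hv hc
  fixj := fun i j hij y hy hc => by
    obtain ⟨g, hg, hi, hj⟩ := pair hij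
    rw [hi] at hy
    rw [hj] at hc
    exact (H.mv hg).fixj hy hc
  tran := fun i j k hj hk => by
    obtain ⟨g, hg, hi, hj'⟩ := pair hj.symm
    obtain ⟨g', hg', hk'⟩ := k.2
    rw [hi, hj']
    have h1 : k.1 = cj (g' * g⁻¹) (d.mv g hg).R0 := by
      rw [cj_mul, d.mv_R0 hg, cj_inv_cj]; exact hk'
    have h2 : cj (g' * g⁻¹) (d.mv g hg).R0 ≠ (d.mv g hg).R0 := by
      rw [← h1, ← hi]
      intro h0
      exact hk (Subtype.ext h0)
    obtain ⟨y, hy, hyk⟩ := (H.mv hg).tran (M.mul_mem hg' (M.inv_mem hg)) h2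
    exact ⟨y, hy, hyk.trans h1.symm⟩
  irr := fun i N hN hn hc y hy => by
    obtain ⟨g, hg, hi⟩ := one i
    rw [hi] at hN hn hy
    exact (H.mv hg).irr hN hn hc hy
  big := fun i => by
    obtain ⟨g, hg, hi⟩ := one i
    have h1 := card_R0_lt (d.mv g hg)
    have h2 := card_Pt d
    change Nat.card i.1 + 1 < _
    rw [hi]
    omega
  cardE := fun i => by
    obtain ⟨g, hg, hi⟩ := one i
    rw [hi]
    change (centralizer (V : Set G)).relIndex (Q (d.mv g hg) O) =
      (d.mv g hg).R0.relIndex (V ⊓ Q (d.mv g hg) O)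
    rw [(H.mv hg).V_inf_Q, (H.mv hg).cardQ, cardE0]
  meet := meet
  alt := fun i j hij b hb hm hc hC => by
    obtain ⟨g, hg, hi, hj⟩ := pair hij
    rw [hi] at hb hm hc hC ⊢
    rw [hj]
    refine (H.mv hg).alt b (fun y hy => ?_) hm hc hC
    have h1 : b y ∈ V ⊓ Q (d.mv g hg) O := hb y hy
    rwa [(H.mv hg).V_inf_Q] at h1

end Hyp

end Cfsg.Agent.Omega.NO1.Beta.Inst
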