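import Cfsg.Agent.Omega.NO1.Beta.Basic

/-!
# THEOREM BETA, steps (2)-(4): `Beta.pre : Beta M V R Q → Pre V R Q (Qs V R Q)`
-/

set_option autoImplicit false
set_option linter.dupNamespace false
set_option linter.unusedSectionVars false
set_option linter.unusedVariables false

open Subgroup
open scoped Pointwise

namespace Cfsg.Agent.Omega.NO1.Beta

open Meet

variable {G : Type*} [Group G] {I : Type*}

namespace Beta

variable {M V : Subgroup G} {R Q : I → Subgroup G} (h : Beta M V R Q)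
include h

/-! ### (2), cover -/

theorem V_NR (i : I) : V ≤ normalizer (R i : Set G) := le_trans h.V_CV (h.CV_NR i)

/-- `[v, y] ∈ E i` for `v ∈ V`, `y ∈ Q i` -/
theorem VQ (i : I) {v y : G} (hv : v ∈ V) (hy : y ∈ Q i) : v⁻¹ * y⁻¹ * v * y ∈ V ⊓ Q i := by
  constructor
  · have h1 : y⁻¹ * v * y ∈ V := h.V_conj' (h.Q_V i hy) hv
    have h2 : v⁻¹ * y⁻¹ * v * y = v⁻¹ * (y⁻¹ * v * y) := by group
    show v⁻¹ * y⁻¹ * v * y ∈ V
    rw [h2]; exact V.mul_mem (V.inv_mem hv) h1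
  · have h1 : v⁻¹ * y⁻¹ * v ∈ Q i := h.nor' (h.V_NR i hv) (inv_mem hy)
    exact (Q i).mul_mem h1 hy

/-- `K i = ⟨V^{N(R i)}⟩` centralises `Qs` and `[Q, K] ≤ Qs` as soon as `Qs ≤ C(V)`. -/
theorem not_le_CV (i : I) : ¬ Qs V R Q i ≤ centralizer (V : Set G) := by
  intro hle
  let K : Subgroup G := closure {x : G | ∃ c ∈ normalizer (R i : Set G), ∃ v ∈ V, x = c * v * c⁻¹}
  -- K centralises Qs
  have hKc : ∀ k ∈ K, ∀ n ∈ Qs V R Q i, k * n = n * k := by
    intro k hk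
    refine closure_induction (p := fun k _ => ∀ n ∈ Qs V R Q i, k * n = n * k) ?_ ?_ ?_ ?_ hk
    · rintro x ⟨c, hc, v, hv, rfl⟩ n hn
      have h1 := h.S_nor' i hc hn
      have h2 := h.cenV_iff.1 (hle h1) v hv
      calc c * v * c⁻¹ * n = c * (v * (c⁻¹ * n * c)) * c⁻¹ := by group
        _ = c * ((c⁻¹ * n * c) * v) * c⁻¹ := by rw [h2]
        _ = n * (c * v * c⁻¹) := by group
    · intro n _; simp
    · intro a b _ _ ha hb n hn
      rw [mul_assoc, hb n hn, ← mul_assoc, ha n hn, mul_assoc]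
    · intro a _ ha n hn
      have := ha n hn
      calc a⁻¹ * n = a⁻¹ * (n * a) * a⁻¹ := by group
        _ = a⁻¹ * (a * n) * a⁻¹ := by rw [this]
        _ = n * a⁻¹ := by group
  have hKR : ∀ k ∈ K, k ∈ normalizer (R i : Set G) := by
    intro k hk
    refine closure_induction (p := fun k _ => k ∈ normalizer (R i : Set G)) ?_ ?_ ?_ ?_ hk
    · rintro x ⟨c, hc, v, hv, rfl⟩
      exact mul_mem (mul_mem hc (h.V_NR i hv)) (inv_mem hc)
    · exact one_mem _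
    · intro a b _ _ ha hb
      exact mul_mem ha hb
    · intro a _ ha
      exact inv_mem ha
  -- [Q, K] ≤ Qs
  have hKQ : ∀ k ∈ K, ∀ y ∈ Q i, k⁻¹ * y⁻¹ * k * y ∈ Qs V R Q i := by
    intro k hk
    refine closure_induction
      (p := fun k _ => ∀ y ∈ Q i, k⁻¹ * y⁻¹ * k * y ∈ Qs V R Q i) ?_ ?_ ?_ ?_ hk
    · rintro x ⟨c, hc, v, hv, rfl⟩ y hy
      have h1 := h.E_le i (h.VQ i hv (h.nor' hc hy))
      have h2 := h.S_nor i hc h1
      have h3 : (c * v * c⁻¹)⁻¹ * y⁻¹ * (c * v * c⁻¹) * y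
          = c * (v⁻¹ * (c⁻¹ * y * c)⁻¹ * v * (c⁻¹ * y * c)) * c⁻¹ := by group
      rw [h3]; exact h2
    · intro y _; simp
    · intro a b hak hbk ha hb y hy
      have h1 := ha y hy
      have h2 := hb y hy
      have h3 := h.S_nor' i (hKR b hbk) h1
      have h4 : (a * b)⁻¹ * y⁻¹ * (a * b) * y
          = b⁻¹ * (a⁻¹ * y⁻¹ * a * y) * b * (b⁻¹ * y⁻¹ * b * y) := by group
      rw [h4]; exact mul_mem h3 h2
    · intro a hak ha y hy
      have h1 := inv_mem (ha y hy)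
      have h3 := h.S_nor i (hKR a hak) h1
      have h4 : a⁻¹⁻¹ * y⁻¹ * a⁻¹ * y = a * (a⁻¹ * y⁻¹ * a * y)⁻¹ * a⁻¹ := by group
      rw [h4]; exact h3
  -- k^4 centralises Q
  have hk4 : ∀ k ∈ K, k ^ 4 ∈ Q i := by
    intro k hk
    apply h.char2 i
    rw [mem_centralizer_iff]
    intro y hy
    -- y⁻¹ k y = k s
    have hs := hKQ k hk y hy
    set s := k⁻¹ * y⁻¹ * k * y with hsdef
    have hks : k * s = s * k := hKc k hk s hs
    have hconj : y⁻¹ * k * y = k * s := by rw [hsdef]; group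
    have hs2 : s * s ∈ R i := h.S_sq i hs
    have hs4 : s ^ 4 = 1 := by
      have := h.V_sq _ (h.R_le i hs2)
      calc s ^ 4 = s * s * (s * s) := by simp [pow_succ, mul_assoc]
        _ = 1 := this
    have h5 : (y⁻¹ * k * y) ^ 4 = k ^ 4 := by
      rw [hconj]
      have hc : Commute k s := hks
      rw [hc.mul_pow, hs4, mul_one]
    have h6 : (y⁻¹ * k * y) ^ 4 = y⁻¹ * k ^ 4 * y := by
      have := conj_pow (a := y⁻¹) (b := k) (i := 4)
      simpa using this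
    rw [h6] at h5
    show y * k ^ 4 = k ^ 4 * y
    calc y * k ^ 4 = y * (y⁻¹ * k ^ 4 * y) := by rw [h5]
      _ = k ^ 4 * y := by group
  have hK2 : IsPGroup 2 K := by
    intro k
    obtain ⟨n, hn⟩ := h.two i ⟨(k : G) ^ 4, hk4 k k.2⟩
    refine ⟨2 + n, ?_⟩
    apply Subtype.ext
    have h1 : ((k : G) ^ 4) ^ 2 ^ n = 1 := by simpa using congrArg Subtype.val hn
    rw [pow_add, pow_mul]
    simpa using h1
  have hKle : K ≤ Q i := by
    refine h.max i K hK2 (fun k hk => hKR k hk) ?_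
    intro c hc k hk
    refine closure_induction (p := fun k _ => c * k * c⁻¹ ∈ K) ?_ ?_ ?_ ?_ hk
    · rintro x ⟨d, hd, v, hv, rfl⟩
      refine subset_closure ⟨c * d, mul_mem hc hd, v, hv, ?_⟩
      group
    · simp
    · intro a b _ _ ha hb
      have h2 : c * (a * b) * c⁻¹ = c * a * c⁻¹ * (c * b * c⁻¹) := by group
      rw [h2]; exact mul_mem ha hb
    · intro a _ ha
      have h2 : c * a⁻¹ * c⁻¹ = (c * a * c⁻¹)⁻¹ := by group
      rw [h2]; exact inv_mem ha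
  refine h.V_Q i (le_trans ?_ hKle)
  intro v hv
  exact subset_closure ⟨1, one_mem _, v, hv, by group⟩

theorem cover (i : I) : ∀ y ∈ Q i, ∃ n ∈ Qs V R Q i, y⁻¹ * n ∈ centralizer (V : Set G) :=
  h.irr i (Qs V R Q i) (h.S_le i) (fun m _ hm y hy => h.S_nor i hm hy) (h.not_le_CV i)

/-! ### (3) -/

/-- `D i` -/
def D (_ : Beta M V R Q) (i : I) : Subgroup G := Q i ⊓ centralizer (Qs V R Q i : Set G)

theorem mem_D {i : I} {d : G} : d ∈ h.D i ↔ d ∈ Q i ∧ ∀ n ∈ Qs V R Q i, n * d = d * n := by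
  rw [D, mem_inf, mem_centralizer_iff]; rfl

theorem D_V (i : I) : h.D i ≤ centralizer (V : Set G) := by
  intro d hd
  rw [h.mem_D] at hd
  by_contra hcon
  obtain ⟨r, hr, hr1⟩ : ∃ r ∈ R i, r ≠ 1 := by
    by_contra hc
    push Not at hc
    exact h.ne i ((eq_bot_iff_forall _).2 hc)
  obtain ⟨e, he, hee⟩ := h.EQs i d hd.1 hcon r hr
  have h1 := hd.2 e (h.E_le i he)
  apply hr1
  rw [← hee]
  calc e⁻¹ * d⁻¹ * e * d = e⁻¹ * d⁻¹ * (e * d) := by group
    _ = e⁻¹ * d⁻¹ * (d * e) := by rw [h1]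
    _ = 1 := by group

/-- elements normalising `R i` normalise `D i` -/
theorem D_nor (i : I) {c : G} (hc : c ∈ normalizer (R i : Set G)) {d : G} (hd : d ∈ h.D i) :
    c * d * c⁻¹ ∈ h.D i := by
  rw [h.mem_D] at hd ⊢
  refine ⟨h.nor i c hc d hd.1, fun n hn => ?_⟩
  have h1 := hd.2 _ (h.S_nor' i hc hn)
  calc n * (c * d * c⁻¹) = c * ((c⁻¹ * n * c) * d) * c⁻¹ := by group
    _ = c * (d * (c⁻¹ * n * c)) * c⁻¹ := by rw [h1]
    _ = c * d * c⁻¹ * n := by group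

/-- moving `Qs` and `D`: if `m` maps `(R i, Q i)` to `(R j, Q j)` and normalises `V`, it maps `Qs i` to `Qs j`. -/
theorem S_move {i j : I} {m : G} (hm : m ∈ M) (hR : cj m (R i) = R j)
    (hQ : cj m (Q i) = Q j) {n : G} (hn : n ∈ Qs V R Q i) : m * n * m⁻¹ ∈ Qs V R Q j := by
  refine Qs_induction (p := fun n => m * n * m⁻¹ ∈ Qs V R Q j) ?_ ?_ ?_ ?_ hn
  · simp
  · intro a b _ _ ha hb
    have h2 : m * (a * b) * m⁻¹ = m * a * m⁻¹ * (m * b * m⁻¹) := by group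
    rw [h2]; exact mul_mem ha hb
  · intro a _ ha
    have h2 : m * a⁻¹ * m⁻¹ = (m * a * m⁻¹)⁻¹ := by group
    rw [h2]; exact inv_mem ha
  · intro c hc e he
    refine subset_closure ⟨m * c * m⁻¹, ?_, m * e * m⁻¹, ⟨h.V_conj (h.M_V hm) he.1, ?_⟩, by group⟩
    · apply mem_normalizer_of_cj
      have hcR : cj c (R i) = R i := cj_of_mem_normalizer hc
      have h3 : cj m⁻¹ (R j) = R i := by
        rw [← hR, ← cj_mul]
        simp [cj]
      rw [cj_mul, cj_mul, h3, hcR, hR]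
    · rw [← hQ]
      exact conj_mem_cj he.2

theorem inj_R {i j : I} (hij : R i = R j) : i = j := by
  by_contra hne
  have := h.disj i j hne
  rw [hij, inf_idem] at this
  exact h.ne j this

/-- from `cj m (R i) = R j` get also the `Q`s -/
theorem moveQ {i j : I} {m : G} (hm : m ∈ M) (hR : cj m (R i) = R j) :
    cj m (Q i) = Q j := by
  obtain ⟨k, hk, hk'⟩ := h.perm m hm i
  have : k = j := h.inj_R (by rw [← hk, hR])
  rw [hk', this]

theorem cj_inv_eq {m : G} {H K : Subgroup G} (hm : cj m H = K) : cj m⁻¹ K = H := by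
  rw [← hm, ← cj_mul]
  simp [cj]

theorem D_move {i j : I} {m : G} (hm : m ∈ M) (hR : cj m (R i) = R j)
    {d : G} (hd : d ∈ h.D i) : m * d * m⁻¹ ∈ h.D j := by
  rw [h.mem_D] at hd ⊢
  have hQ := h.moveQ hm hR
  refine ⟨by rw [← hQ]; exact conj_mem_cj hd.1, fun n hn => ?_⟩
  have hR' := h.cj_inv_eq hR
  have h1 : m⁻¹ * n * m ∈ Qs V R Q i := by
    have := h.S_move (inv_mem hm) hR' (h.moveQ (inv_mem hm) hR') hn
    simpa using this
  have h2 := hd.2 _ h1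
  calc n * (m * d * m⁻¹) = m * ((m⁻¹ * n * m) * d) * m⁻¹ := by group
    _ = m * (d * (m⁻¹ * n * m)) * m⁻¹ := by rw [h2]
    _ = m * d * m⁻¹ * n := by group

/-- (`tran` inside `Qs`) -/
theorem tranS {i j k : I} (hj : j ≠ i) (hk : k ≠ i) : ∃ n ∈ Qs V R Q i, cj n (R j) = R k := by
  obtain ⟨y, hy, hyR⟩ := h.tran i j k hj hk
  obtain ⟨n, hn, hyn⟩ := h.cover i y hy
  refine ⟨n, hn, ?_⟩
  have h1 : n = y * (y⁻¹ * n) := by group
  rw [h1, cj_mul, cj_of_mem_normalizer (h.CV_NR j hyn), hyR]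

/-- Whoever commutes with `Qs i` and `Qs j` commutes with all `Qs k`. -/
theorem cen_all {i j : I} (hij : i ≠ j) {b : G} (hi : ∀ n ∈ Qs V R Q i, n * b = b * n)
    (hj : ∀ n ∈ Qs V R Q j, n * b = b * n) (k : I) : ∀ n ∈ Qs V R Q k, n * b = b * n := by
  by_cases hk : k = j
  · subst hk; exact hj
  · obtain ⟨m, hm, hmR⟩ := h.tranS hij hk
    have hmN : m ∈ M := h.Q_M j (h.S_le j hm)
    intro n hn
    have hR' := h.cj_inv_eq hmR
    have h1 : m⁻¹ * n * m ∈ Qs V R Q i := by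
      have := h.S_move (inv_mem hmN) hR' (h.moveQ (inv_mem hmN) hR') hn
      simpa using this
    have h2 := hi _ h1
    have h3 := hj _ hm
    have h4 := hj _ (inv_mem hm)
    calc n * b = m * (m⁻¹ * n * m) * (m⁻¹ * b) := by group
      _ = m * ((m⁻¹ * n * m) * b) * m⁻¹ := by rw [h4]; group
      _ = m * b * (m⁻¹ * n * m) * m⁻¹ := by rw [h2]; group
      _ = b * n := by rw [h3]; group

theorem exists_ne [Finite I] (i : I) : ∃ j, j ≠ i := by
  have h1 := h.big i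
  have h2 : 0 < Nat.card (R i) ∨ Nat.card (R i) = 0 := by omega
  by_contra hcon
  push Not at hcon
  have : Subsingleton I := ⟨fun a b => by rw [hcon a, hcon b]⟩
  have h3 : Nat.card I ≤ 1 := Finite.card_le_one_iff_subsingleton.2 this
  omega

variable [Finite G]

/-- the two-core of `B = {b ∈ C(V) | b commutes with all Qs k}` is trivial -/
theorem D_inf {i j : I} (hij : i ≠ j) : h.D i ⊓ h.D j = ⊥ := by
  -- B
  let B : Subgroup G := centralizer (V : Set G) ⊓ ⨅ k : I, centralizer (Qs V R Q k : Set G)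
  have hB : ∀ b, b ∈ B ↔ b ∈ centralizer (V : Set G) ∧ ∀ k, ∀ n ∈ Qs V R Q k, n * b = b * n := by
    intro b
    simp only [B, mem_inf, mem_iInf, mem_centralizer_iff]
    rfl
  have hMB : ∀ m ∈ M, ∀ b ∈ B, m * b * m⁻¹ ∈ B := by
    intro m hm b hb
    rw [hB] at hb ⊢
    refine ⟨h.CV_conj (h.M_V hm) hb.1, fun k n hn => ?_⟩
    obtain ⟨l, hl, hl'⟩ := h.perm m⁻¹ (inv_mem hm) k
    have h1 : m⁻¹ * n * m ∈ Qs V R Q l := by
      have := h.S_move (inv_mem hm) hl hl' hn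
      simpa using this
    have h2 := hb.2 l _ h1
    calc n * (m * b * m⁻¹) = m * ((m⁻¹ * n * m) * b) * m⁻¹ := by group
      _ = m * (b * (m⁻¹ * n * m)) * m⁻¹ := by rw [h2]
      _ = m * b * m⁻¹ * n := by group
  obtain ⟨N, hN2, hNB, hNn, hNmax⟩ := exists_two_core B
  have hNV : N ≤ M := fun x hx => h.C_M ((hB x).1 (hNB hx)).1
  have hNM : ∀ m ∈ M, ∀ y ∈ N, m * y * m⁻¹ ∈ N := by
    intro m hm y hy
    have h1 : N.map (MulAut.conj m).toMonoidHom ≤ N := by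
      apply hNmax
      · exact hN2.map _
      · rintro x ⟨z, hz, rfl⟩
        exact hMB m hm z (hNB hz)
      · rintro b hb x ⟨z, hz, rfl⟩
        refine ⟨(m⁻¹ * b * m) * z * (m⁻¹ * b * m)⁻¹, ?_, ?_⟩
        · have h2 : m⁻¹ * b * m ∈ B := by simpa using hMB m⁻¹ (inv_mem hm) b hb
          exact hNn _ h2 z hz
        · simp only [MulEquiv.coe_toMonoidHom, MulAut.conj_apply]
          group
    exact h1 ⟨y, hy, rfl⟩
  have hNVb : N ⊓ V = ⊥ := by
    rw [eq_bot_iff_forall]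
    rintro v ⟨hvN, hvV⟩
    have hv := ((hB v).1 (hNB hvN)).2
    have h1 : ∀ k, v ∈ R k := by
      intro k
      refine h.cenR k v hvV fun y hy => ?_
      obtain ⟨n, hn, hyn⟩ := h.cover k y hy
      have h2 := hv k n hn
      have h3 := h.cenV_iff.1 hyn v hvV
      -- y = n (y⁻¹ n)⁻¹
      have h4 : v * (y⁻¹ * n)⁻¹ = (y⁻¹ * n)⁻¹ * v := by
        calc v * (y⁻¹ * n)⁻¹ = (y⁻¹ * n)⁻¹ * ((y⁻¹ * n) * v) * (y⁻¹ * n)⁻¹ := by group
          _ = (y⁻¹ * n)⁻¹ * (v * (y⁻¹ * n)) * (y⁻¹ * n)⁻¹ := by rw [h3]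
          _ = (y⁻¹ * n)⁻¹ * v := by group
      calc v * y = v * n * (y⁻¹ * n)⁻¹ := by group
        _ = n * v * (y⁻¹ * n)⁻¹ := by rw [h2]
        _ = n * (v * (y⁻¹ * n)⁻¹) := by group
        _ = n * ((y⁻¹ * n)⁻¹ * v) := by rw [h4]
        _ = y * v := by group
    have h2 : v ∈ R i ⊓ R j := ⟨h1 i, h1 j⟩
    rw [h.disj i j hij, mem_bot] at h2
    exact h2
  have hNbot := h.meet N hN2 hNV hNM hNVb
  rw [eq_bot_iff, ← hNbot]
  apply hNmax
  · exact (h.two i).to_le (inf_le_left.trans inf_le_left)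
  · rintro b ⟨hbi, hbj⟩
    rw [hB]
    exact ⟨h.D_V i hbi, h.cen_all hij (h.mem_D.1 hbi).2 (h.mem_D.1 hbj).2⟩
  · rintro b hb y ⟨hyi, hyj⟩
    have hbV := ((hB b).1 hb).1
    exact ⟨h.D_nor i (h.CV_NR i hbV) hyi, h.D_nor j (h.CV_NR j hbV) hyj⟩

theorem eq_one_of_D {i j : I} (hij : i ≠ j) {d : G} (hi : d ∈ h.D i) (hj : d ∈ h.D j) :
    d = 1 := by
  have : d ∈ h.D i ⊓ h.D j := ⟨hi, hj⟩
  rw [h.D_inf hij] at this
  exact mem_bot.1 this

theorem D_comm {i j : I} (hij : i ≠ j) {a b : G} (ha : a ∈ h.D i) (hb : b ∈ h.D j) :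
    a * b = b * a := by
  have h1 : a * b * a⁻¹ * b⁻¹ ∈ h.D i := by
    have := h.D_nor i (h.CV_NR i (h.D_V j hb)) (inv_mem ha)
    have h2 : a * b * a⁻¹ * b⁻¹ = a * (b * a⁻¹ * b⁻¹) := by group
    rw [h2]; exact mul_mem ha this
  have h2 : a * b * a⁻¹ * b⁻¹ ∈ h.D j := by
    have := h.D_nor j (h.CV_NR j (h.D_V i ha)) hb
    exact mul_mem this (inv_mem hb)
  have h3 := h.eq_one_of_D hij h1 h2
  calc a * b = (a * b * a⁻¹ * b⁻¹) * (b * a) := by group
    _ = b * a := by rw [h3, one_mul]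

/-! ### (4) -/

/-- (4a) -/
theorem four_a [Finite I] {i j : I} (hij : i ≠ j) {c : G} (hc : c ∈ h.D j)
    (hcR : ∀ y ∈ Qs V R Q i, c⁻¹ * y⁻¹ * c * y ∈ R i) : c = 1 := by
  classical
  have hji : j ≠ i := fun e => hij e.symm
  choose! f hf hfR using fun k (hk : k ≠ i) => h.tranS (j := j) (k := k) hji hk
  -- the map `k ↦ [c, f k]`
  let g : {k : I // k ≠ i} → R i := fun k =>
    ⟨c⁻¹ * (f k)⁻¹ * c * (f k), hcR _ (hf k k.2)⟩
  have hcard : Nat.card (R i) < Nat.card {k : I // k ≠ i} := by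
    have h1 := h.big i
    have h2 : Nat.card {k : I // k ≠ i} + 1 = Nat.card I := by
      have := Fintype.ofFinite I
      rw [Nat.card_eq_fintype_card, Nat.card_eq_fintype_card]
      have := Fintype.card_subtype_compl (fun k : I => k = i)
      rw [Fintype.card_subtype_eq] at this
      have h3 : 0 < Fintype.card I := Fintype.card_pos_iff.2 ⟨i⟩
      change Fintype.card {k : I // ¬ k = i} + 1 = Fintype.card I
      omega
    omega
  obtain ⟨k, l, hkl, hg⟩ : ∃ k l : {k : I // k ≠ i}, k ≠ l ∧ g k = g l := by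
    by_contra hcon
    push Not at hcon
    have : Function.Injective g := fun a b hab => by
      by_contra hne
      exact hcon a b hne hab
    exact absurd (Nat.card_le_card_of_injective g this) (by omega)
  have hkl' : (k : I) ≠ l := fun e => hkl (Subtype.ext e)
  have hg' : c⁻¹ * (f k)⁻¹ * c * (f k) = c⁻¹ * (f l)⁻¹ * c * (f l) := congrArg Subtype.val hg
  set y := f k * (f l)⁻¹ with hy
  have hyS : y ∈ Qs V R Q i := mul_mem (hf k k.2) (inv_mem (hf l l.2))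
  have hyQ : y ∈ Q i := h.S_le i hyS
  have hyM : y ∈ M := h.Q_M i hyQ
  have hyc : y * c * y⁻¹ = c := by
    have h1 : (f k)⁻¹ * c * (f k) = (f l)⁻¹ * c * (f l) := by
      have := congrArg (fun z => c * z) hg'
      simpa [mul_assoc] using this
    rw [hy]
    calc f k * (f l)⁻¹ * c * (f k * (f l)⁻¹)⁻¹ = f k * ((f l)⁻¹ * c * f l) * (f k)⁻¹ := by group
      _ = f k * ((f k)⁻¹ * c * f k) * (f k)⁻¹ := by rw [h1]
      _ = c := by group
  obtain ⟨m, hm, hm'⟩ := h.perm y hyM j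
  have hcm : c ∈ h.D m := by
    have := h.D_move hyM hm hc
    rwa [hyc] at this
  by_cases hmj : m = j
  · exfalso
    rw [hmj] at hm
    have hyV := h.fixj i j hij y hyQ hm
    have h1 : cj y (R l) = R l := cj_of_mem_normalizer (h.CV_NR l hyV)
    have h2 : cj y (R l) = R k := by
      rw [hy, cj_mul]
      have h3 : cj (f l)⁻¹ (R l) = R j := h.cj_inv_eq (hfR l l.2)
      rw [h3, hfR k k.2]
    exact hkl' (h.inj_R (h2.symm.trans h1))
  · exact h.eq_one_of_D hmj hcm hc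

/-- (4b) -/
theorem D_Q [Finite I] {i j : I} (hij : i ≠ j) {d : G} (hd : d ∈ h.D j) (hdQ : d ∈ Q i) :
    d = 1 := by
  refine h.four_a hij hd fun y hy => ?_
  have h1 := inv_mem (h.SQ i hy d hdQ)
  have h3 : d⁻¹ * y⁻¹ * d * y = (y⁻¹ * d⁻¹ * y * d)⁻¹ := by group
  rw [h3]; exact h1

/-- (4c) -/
theorem D_c [Finite I] {i j : I} (hij : i ≠ j) {d : G} (hd : d ∈ h.D j) {n : G}
    (hn : n ∈ Qs V R Q i) (hnV : n ∈ centralizer (V : Set G)) : d * n = n * d := by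
  have h1 : d⁻¹ * n⁻¹ * d * n ∈ h.D j := by
    have h2 := h.D_nor j (h.CV_NR j (inv_mem hnV)) hd
    have h3 : d⁻¹ * n⁻¹ * d * n = d⁻¹ * (n⁻¹ * d * n⁻¹⁻¹) := by group
    rw [h3]; exact mul_mem (inv_mem hd) h2
  have h2 : d⁻¹ * n⁻¹ * d * n ∈ Q i := by
    have h3 := h.S_nor' i (h.CV_NR i (h.D_V j hd)) (inv_mem hn)
    exact h.S_le i (mul_mem h3 hn)
  have h3 := h.D_Q hij h1 h2
  calc d * n = n * d * (d⁻¹ * n⁻¹ * d * n) := by group
    _ = n * d := by rw [h3, mul_one]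

/-- `d` and `d^y` commute. -/
theorem comm_conj [Finite I] {i j : I} (hij : i ≠ j) {d : G} (hd : d ∈ h.D j) {y : G}
    (hy : y ∈ Qs V R Q i) : d * (y⁻¹ * d * y) = (y⁻¹ * d * y) * d := by
  have hyM : y⁻¹ ∈ M := h.Q_M i (inv_mem (h.S_le i hy))
  obtain ⟨m, hm, hm'⟩ := h.perm y⁻¹ hyM j
  have h1 : y⁻¹ * d * y ∈ h.D m := by
    have := h.D_move hyM hm hd
    simpa using this
  by_cases hmj : m = j
  · rw [hmj] at hm
    have h2 := h.fixj i j hij y⁻¹ (inv_mem (h.S_le i hy)) hm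
    have h3 := h.D_c hij hd (inv_mem hy) h2
    have h4 : y⁻¹ * d * y = d := by rw [← h3]; group
    rw [h4]
  · exact h.D_comm (fun e => hmj e.symm) hd h1

/-- (4d) -/
theorem D_sq [Finite I] (j : I) {d : G} (hd : d ∈ h.D j) : d * d = 1 := by
  obtain ⟨i, hij⟩ := h.exists_ne j
  refine h.four_a hij (mul_mem hd hd) fun y hy => ?_
  have h1 : d⁻¹ * y⁻¹ * d * y ∈ Qs V R Q i := by
    have h3 := h.S_nor' i (h.CV_NR i (h.D_V j hd)) (inv_mem hy)
    exact mul_mem h3 hy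
  have h2 := h.S_sq i h1
  have h3 := h.comm_conj hij hd hy
  have h4 : (d * d)⁻¹ * y⁻¹ * (d * d) * y = d⁻¹ * y⁻¹ * d * y * (d⁻¹ * y⁻¹ * d * y) := by
    have h5 : (y⁻¹ * d * y) * d⁻¹ = d⁻¹ * (y⁻¹ * d * y) := by
      calc (y⁻¹ * d * y) * d⁻¹ = d⁻¹ * (d * (y⁻¹ * d * y)) * d⁻¹ := by group
        _ = d⁻¹ * ((y⁻¹ * d * y) * d) * d⁻¹ := by rw [h3]
        _ = d⁻¹ * (y⁻¹ * d * y) := by group
    calc (d * d)⁻¹ * y⁻¹ * (d * d) * y
        = d⁻¹ * (d⁻¹ * (y⁻¹ * d * y)) * (y⁻¹ * d * y) := by group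
      _ = d⁻¹ * ((y⁻¹ * d * y) * d⁻¹) * (y⁻¹ * d * y) := by rw [h5]
      _ = _ := by group
  rw [h4]; exact h2

theorem D_k [Finite I] {i j : I} (hij : i ≠ j) {d : G} (hd : d ∈ h.D j) {y : G}
    (hy : y ∈ Qs V R Q i) :
    (y⁻¹ * d⁻¹ * y * d) * (y⁻¹ * d⁻¹ * y * d) = 1 := by
  have h1 := h.D_sq j hd
  have hinv : d⁻¹ = d := by
    exact inv_eq_of_mul_eq_one_right h1
  have h3 := h.comm_conj hij hd hy
  rw [hinv]
  calc y⁻¹ * d * y * d * (y⁻¹ * d * y * d)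
      = (y⁻¹ * d * y) * (d * (y⁻¹ * d * y)) * d := by group
    _ = (y⁻¹ * d * y) * ((y⁻¹ * d * y) * d) * d := by rw [h3]
    _ = y⁻¹ * (d * d) * y * (d * d) := by group
    _ = 1 := by rw [h1]; group

/-- **Steps (2)-(4) of THEOREM BETA.** -/
theorem pre [Finite I] : Pre V R Q (Qs V R Q) where
  V_comm := h.V_comm
  V_sq := h.V_sq
  R_le := h.R_le
  R_Q := h.R_Q
  RQ := h.RQ
  ne := h.ne
  two := h.two
  Q_V := h.Q_V
  nor := h.nor
  max := h.max
  char2 := h.char2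
  EQs := h.EQs
  cenR := h.cenR
  cardE := h.cardE
  alt := h.alt
  S_cen := h.S_cen
  S_nor := fun i c hc n hn => h.S_nor i hc hn
  S_le := h.S_le
  E_le := h.E_le
  SQ := fun i n hn y hy => h.SQ i hn y hy
  S_sq := fun i n hn => h.S_sq i hn
  cover := h.cover
  D_V := h.D_V
  D_comm := fun i j hij a ha b hb => h.D_comm hij ha hb
  D_Q := fun i j hij d hd hdQ => h.D_Q hij hd hdQ
  D_c := fun i j hij d hd n hn hnV => h.D_c hij hd hn hnV
  D_sq := fun j d hd => h.D_sq j hd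
  D_k := fun i j hij d hd y hy => h.D_k hij hd hy

end Beta

end Cfsg.Agent.Omega.NO1.Beta
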